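import Cfsg.Agent.ProductFusion.Central
import Cfsg.Agent.TwoGroups.IsolatedZStar
import Cfsg.Agent.LocalEvenBasic.DStar
import Cfsg.Agent.S1250

/-!
# The product theorem for two commuting strongly closed 2-subgroups

If `S₁`, `S₂` are strongly closed in the Sylow 2-subgroup `P`, commute elementwise and meet
trivially, then every conjugate of an element of `S₁` commutes with every conjugate of an element
of `S₂` modulo the odd core.
-/

set_option autoImplicit false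
set_option linter.style.haveILetI false
set_option linter.unusedSectionVars false

open scoped commutatorElement

namespace CfsgLib.ProductFusion

open CfsgLib.Signalizer (coreOf coreOf_le)

universe u

variable {G : Type u} [Group G]

/-- The conjugates of the elements of a subgroup. -/
def cl (S : Subgroup G) : Set G := {x | ∃ g : G, ∃ s ∈ S, x = g * s * g⁻¹}

theorem conj_mem_cl {S : Subgroup G} {x : G} (hx : x ∈ cl S) (g : G) : g * x * g⁻¹ ∈ cl S := by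
  obtain ⟨k, s, hs, rfl⟩ := hx
  exact ⟨g * k, s, hs, by group⟩

theorem mem_cl_self {S : Subgroup G} {x : G} (hx : x ∈ S) : x ∈ cl S := ⟨1, x, hx, by group⟩

theorem one_mem_cl (S : Subgroup G) : (1 : G) ∈ cl S := mem_cl_self (one_mem S)

theorem mem_of_mem_cl {S P : Subgroup G} (hS : Cfsg.IsStronglyClosed S P) {x : G} (hx : x ∈ cl S)
    (hxP : x ∈ P) : x ∈ S := by
  obtain ⟨g, s, hs, rfl⟩ := hx
  exact hS.2 s hs g hxP

variable [Finite G]

theorem exists_conj_into (P : Sylow 2 G) {T : Subgroup G} (hT : IsPGroup 2 T) :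
    ∃ g : G, ∀ t ∈ T, g * t * g⁻¹ ∈ P := by
  haveI : Fact (Nat.Prime 2) := ⟨Nat.prime_two⟩
  obtain ⟨Q, hQ⟩ := hT.exists_le_sylow
  obtain ⟨g, hg⟩ := MulAction.exists_smul_eq G Q P
  refine ⟨g, fun t ht => ?_⟩
  rw [← hg]
  show g * t * g⁻¹ ∈ ((g • Q : Sylow 2 G) : Subgroup G)
  rw [Sylow.coe_subgroup_smul]
  exact ⟨t, hQ ht, rfl⟩

theorem two_pow_of_mem_cl (P : Sylow 2 G) {S : Subgroup G} (hS : S ≤ (P : Subgroup G)) {x : G}
    (hx : x ∈ cl S) : ∃ k : ℕ, x ^ 2 ^ k = 1 := by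
  obtain ⟨g, s, hs, rfl⟩ := hx
  obtain ⟨k, hk⟩ := P.isPGroup' ⟨s, hS hs⟩
  have hk' : s ^ 2 ^ k = 1 := by simpa using congrArg Subtype.val hk
  exact ⟨k, by rw [conj_pow, hk', mul_one, mul_inv_cancel]⟩

theorem isPGroup_zpowers_of_pow {x : G} {k : ℕ} (hk : x ^ 2 ^ k = 1) :
    IsPGroup 2 (Subgroup.zpowers x) := by
  haveI : Fact (Nat.Prime 2) := ⟨Nat.prime_two⟩
  obtain ⟨j, -, hj⟩ := (Nat.dvd_prime_pow Nat.prime_two).1 (orderOf_dvd_of_pow_eq_one hk)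
  exact IsPGroup.of_card (n := j) (by rw [Nat.card_zpowers, hj])

theorem mul_mem_cl (P : Sylow 2 G) {S : Subgroup G} (hS : Cfsg.IsStronglyClosed S (P : Subgroup G))
    {T : Subgroup G} (hT : IsPGroup 2 T) {x x' : G} (hx : x ∈ cl S) (hxT : x ∈ T) (hx' : x' ∈ cl S)
    (hxT' : x' ∈ T) : x * x' ∈ cl S := by
  obtain ⟨g, hg⟩ := exists_conj_into P hT
  refine ⟨g⁻¹, _, mul_mem (mem_of_mem_cl hS (conj_mem_cl hx g) (hg x hxT))
    (mem_of_mem_cl hS (conj_mem_cl hx' g) (hg x' hxT')), by group⟩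

theorem eq_one_of_mem_cl_cl (P : Sylow 2 G) {S₁ S₂ : Subgroup G}
    (h₁ : Cfsg.IsStronglyClosed S₁ (P : Subgroup G))
    (h₂ : Cfsg.IsStronglyClosed S₂ (P : Subgroup G)) (hd : S₁ ⊓ S₂ = ⊥) {x : G} (hx₁ : x ∈ cl S₁)
    (hx₂ : x ∈ cl S₂) : x = 1 := by
  obtain ⟨k, hk⟩ := two_pow_of_mem_cl P h₁.1 hx₁
  obtain ⟨g, hg⟩ := exists_conj_into P (isPGroup_zpowers_of_pow hk)
  have hxP := hg x (Subgroup.mem_zpowers x)
  have h : g * x * g⁻¹ ∈ S₁ ⊓ S₂ :=
    ⟨mem_of_mem_cl h₁ (conj_mem_cl hx₁ g) hxP, mem_of_mem_cl h₂ (conj_mem_cl hx₂ g) hxP⟩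
  rwa [hd, Subgroup.mem_bot, conj_eq_one_iff] at h

theorem commute_cl (P : Sylow 2 G) {S₁ S₂ : Subgroup G}
    (h₁ : Cfsg.IsStronglyClosed S₁ (P : Subgroup G))
    (h₂ : Cfsg.IsStronglyClosed S₂ (P : Subgroup G))
    (hc : ∀ a ∈ S₁, ∀ b ∈ S₂, a * b = b * a)
    {T : Subgroup G} (hT : IsPGroup 2 T) {x y : G} (hx : x ∈ cl S₁) (hxT : x ∈ T) (hy : y ∈ cl S₂)
    (hyT : y ∈ T) : x * y = y * x := by
  obtain ⟨g, hg⟩ := exists_conj_into P hT
  have h := hc _ (mem_of_mem_cl h₁ (conj_mem_cl hx g) (hg x hxT)) _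
    (mem_of_mem_cl h₂ (conj_mem_cl hy g) (hg y hyT))
  rw [conj_mul, conj_mul] at h
  exact mul_left_cancel (mul_right_cancel h)

/-- The statement proved by induction. -/
def Goal (G : Type u) [Group G] : Prop :=
  ∀ (P : Sylow 2 G) (S₁ S₂ : Subgroup G), Cfsg.IsStronglyClosed S₁ (P : Subgroup G) →
    Cfsg.IsStronglyClosed S₂ (P : Subgroup G) → (∀ a ∈ S₁, ∀ b ∈ S₂, a * b = b * a) →
    S₁ ⊓ S₂ = ⊥ → ∀ x ∈ cl S₁, ∀ y ∈ cl S₂, ⁅x, y⁆ ∈ Cfsg.oddCore G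

section

variable (P : Sylow 2 G) {S₁ S₂ : Subgroup G}

theorem goal_subgroup (h₁ : Cfsg.IsStronglyClosed S₁ (P : Subgroup G))
    (h₂ : Cfsg.IsStronglyClosed S₂ (P : Subgroup G)) (hc : ∀ a ∈ S₁, ∀ b ∈ S₂, a * b = b * a)
    (hd : S₁ ⊓ S₂ = ⊥) (H : Subgroup G) (hH : Goal H) {x y : G} (hx : x ∈ cl S₁) (hxH : x ∈ H)
    (hy : y ∈ cl S₂) (hyH : y ∈ H) : ⁅x, y⁆ ∈ coreOf H := by
  haveI : Fact (Nat.Prime 2) := ⟨Nat.prime_two⟩
  let Q : Sylow 2 H := default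
  obtain ⟨g, hg⟩ := exists_conj_into P (Q.isPGroup'.map H.subtype)
  -- the part of a subgroup lying in `H`
  let R : Subgroup G → Subgroup H := fun S =>
    ((S.comap (MulAut.conj g).toMonoidHom).subgroupOf H) ⊓ (Q : Subgroup H)
  have hRsc : ∀ S, Cfsg.IsStronglyClosed S (P : Subgroup G) →
      Cfsg.IsStronglyClosed (R S) (Q : Subgroup H) := by
    refine fun S hS => ⟨inf_le_right, fun z hz k hk => ⟨?_, hk⟩⟩
    have h1 : g * (z : G) * g⁻¹ ∈ S := hz.1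
    refine mem_of_mem_cl hS ⟨g * k * g⁻¹, _, h1, ?_⟩ (hg _ ⟨_, hk, rfl⟩)
    simp only [MulEquiv.coe_toMonoidHom, MulAut.conj_apply, Subgroup.coe_subtype, Subgroup.coe_mul,
      InvMemClass.coe_inv]
    group
  have hRcl : ∀ S, Cfsg.IsStronglyClosed S (P : Subgroup G) → ∀ z (hzH : z ∈ H), z ∈ cl S →
      (⟨z, hzH⟩ : H) ∈ cl (R S) := by
    intro S hS z hzH hz
    obtain ⟨k, hk⟩ := two_pow_of_mem_cl P hS.1 hz
    obtain ⟨c, hc⟩ := exists_conj_into Q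
      (isPGroup_zpowers_of_pow (x := (⟨z, hzH⟩ : H)) (k := k) (Subtype.ext (by simpa using hk)))
    have hcQ := hc _ (Subgroup.mem_zpowers _)
    exact ⟨c⁻¹, c * ⟨z, hzH⟩ * c⁻¹, ⟨mem_of_mem_cl hS (conj_mem_cl (conj_mem_cl hz c) g)
      (hg _ ⟨_, hcQ, rfl⟩), hcQ⟩, by group⟩
  refine ⟨⁅(⟨x, hxH⟩ : H), ⟨y, hyH⟩⁆, hH Q (R S₁) (R S₂) (hRsc _ h₁) (hRsc _ h₂) ?_ ?_ _
    (hRcl _ h₁ x hxH hx) _ (hRcl _ h₂ y hyH hy), rfl⟩
  · intro a ha b hb
    refine Subtype.ext ?_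
    have h := hc _ ha.1 _ hb.1
    simp only [MulEquiv.coe_toMonoidHom, MulAut.conj_apply, Subgroup.coe_subtype] at h
    rw [conj_mul, conj_mul] at h
    exact mul_left_cancel (mul_right_cancel h)
  · refine eq_bot_iff.2 fun a ha => Subgroup.mem_bot.2 (Subtype.ext ?_)
    have h : g * (a : G) * g⁻¹ ∈ S₁ ⊓ S₂ := ⟨ha.1.1, ha.2.1⟩
    rwa [hd, Subgroup.mem_bot, conj_eq_one_iff] at h

theorem goal_quotient (h₁ : Cfsg.IsStronglyClosed S₁ (P : Subgroup G))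
    (h₂ : Cfsg.IsStronglyClosed S₂ (P : Subgroup G)) (hc : ∀ a ∈ S₁, ∀ b ∈ S₂, a * b = b * a)
    (N : Subgroup G) [N.Normal] (hN : Goal (G ⧸ N))
    (hd : ∀ a ∈ S₁, ∀ b ∈ S₂, a⁻¹ * b ∈ N → a ∈ N) {x y : G} (hx : x ∈ cl S₁) (hy : y ∈ cl S₂) :
    QuotientGroup.mk' N ⁅x, y⁆ ∈ Cfsg.oddCore (G ⧸ N) := by
  haveI : Fact (Nat.Prime 2) := ⟨Nat.prime_two⟩
  have hcl : ∀ (S : Subgroup G), ∀ z ∈ cl S,
      QuotientGroup.mk' N z ∈ cl (S.map (QuotientGroup.mk' N)) := by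
    rintro S _ ⟨g, s, hs, rfl⟩
    exact ⟨_, _, Subgroup.mem_map_of_mem _ hs, by rw [map_mul, map_mul, map_inv]⟩
  rw [map_commutatorElement]
  refine hN (P.mapSurjective (QuotientGroup.mk'_surjective N)) (S₁.map (QuotientGroup.mk' N))
    (S₂.map (QuotientGroup.mk' N)) (Cfsg.Agent.S1250.result P S₁ h₁ N)
    (Cfsg.Agent.S1250.result P S₂ h₂ N) ?_ ?_ _ (hcl _ x hx) _ (hcl _ y hy)
  · rintro _ ⟨a, ha, rfl⟩ _ ⟨b, hb, rfl⟩
    rw [← map_mul, hc a ha b hb, map_mul]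
  · refine eq_bot_iff.2 ?_
    rintro _ ⟨⟨a, ha, rfl⟩, ⟨b, hb, hab⟩⟩
    have h : b⁻¹ * a ∈ N := QuotientGroup.eq.1 hab
    refine Subgroup.mem_bot.2 ((QuotientGroup.eq_one_iff a).2 (hd a ha b hb ?_))
    have := inv_mem h
    rwa [mul_inv_rev, inv_inv] at this

/-- An isolated involution is central if the odd core is trivial. -/
theorem cent_eq_top_of_isolated (hO : Cfsg.oddCore G = ⊥) {z : G} (hz2 : z * z = 1) (hz1 : z ≠ 1)
    (hiso : ∀ g : G, Commute z (g * z * g⁻¹) → g * z * g⁻¹ = z) : cent z = ⊤ := by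
  refine eq_top_iff.2 fun g _ => mem_cent.2 ?_
  have h := TwoGroups.comm_mem_oddCore (z := z)
    ⟨orderOf_eq_prime (by rwa [pow_two]) hz1, hiso⟩ g
  rw [hO, Subgroup.mem_bot] at h
  exact (mul_inv_eq_iff_eq_mul.1 (mul_inv_eq_one.1 h)).symm

/-- The case of a central involution in one of the classes. -/
theorem commute_of_central (h₁ : Cfsg.IsStronglyClosed S₁ (P : Subgroup G))
    (h₂ : Cfsg.IsStronglyClosed S₂ (P : Subgroup G)) (hc : ∀ a ∈ S₁, ∀ b ∈ S₂, a * b = b * a)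
    (hd : S₁ ⊓ S₂ = ⊥) (hO : ∀ N : Subgroup G, N.Normal → Odd (Nat.card N) → N = ⊥)
    (ih : ∀ N : Subgroup G, ∀ _ : N.Normal, N ≠ ⊥ → Goal (G ⧸ N)) {z : G} (hz : z ∈ cl S₁)
    (hz2 : z * z = 1) (hz1 : z ≠ 1) (hzc : cent z = ⊤) {x y : G} (hx : x ∈ cl S₁) (hy : y ∈ cl S₂) :
    x * y = y * x := by
  haveI : Fact (Nat.Prime 2) := ⟨Nat.prime_two⟩
  have hcom : ∀ g : G, g * z = z * g := fun g => mem_cent.1 (hzc ▸ Subgroup.mem_top g)
  have hzS : z ∈ S₁ := by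
    obtain ⟨g, s, hs, hzs⟩ := hz
    have h1 : s = z := by
      rw [show s = g⁻¹ * (g * s * g⁻¹) * g by group, ← hzs, mul_assoc, ← hcom g,
        inv_mul_cancel_left]
    exact h1 ▸ hs
  obtain ⟨N, hNdef⟩ : ∃ N, N = Subgroup.zpowers z := ⟨_, rfl⟩
  have hNc : ∀ n ∈ N, ∀ g : G, g * n = n * g := by
    intro n hn g
    obtain ⟨i, rfl⟩ := Subgroup.mem_zpowers_iff.1 (hNdef ▸ hn)
    exact (Commute.zpow_right (hcom g) i)
  haveI hNn : N.Normal := ⟨fun n hn g => by rw [hNc n hn g, mul_inv_cancel_right]; exact hn⟩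
  have hNS : N ≤ S₁ := hNdef ▸ Subgroup.zpowers_le.2 hzS
  have hN2 : IsPGroup 2 N := hNdef ▸ isPGroup_zpowers hz2
  have hNne : N ≠ ⊥ := fun h => hz1 (Subgroup.zpowers_eq_bot.1 (hNdef ▸ h))
  have hq := goal_quotient P h₁ h₂ hc N (ih N hNn hNne)
    (fun a ha b hb hab => by
      have hb1 : b ∈ S₁ := by
        have := mul_mem ha (hNS hab)
        rwa [mul_inv_cancel_left] at this
      have : b = 1 := Subgroup.mem_bot.1 (hd ▸ (⟨hb1, hb⟩ : b ∈ S₁ ⊓ S₂))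
      rw [this, mul_one] at hab
      simpa using inv_mem hab) hx hy
  -- the odd core of the quotient is trivial
  obtain ⟨M, hM⟩ : ∃ M, M = (Cfsg.oddCore (G ⧸ N)).comap (QuotientGroup.mk' N) := ⟨_, rfl⟩
  haveI : (Cfsg.oddCore (G ⧸ N)).Characteristic := PLocal.pPrimeCoreCharacteristic 2 (G ⧸ N)
  haveI : M.Normal := hM ▸ inferInstance
  have hNM : N ≤ M := fun n hn => by
    rw [hM, Subgroup.mem_comap, show QuotientGroup.mk' N n = 1 from (QuotientGroup.eq_one_iff n).2 hn]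
    exact one_mem _
  have hMN : ∀ m ∈ M, m ∈ N := by
    haveI : (N.subgroupOf M).Normal := inferInstance
    have hodd : Odd (N.subgroupOf M).index := by
      have hcoreodd : Odd (Nat.card (Cfsg.oddCore (G ⧸ N))) :=
        Nat.coprime_two_right.1 (PLocal.coprime_card_pPrimeCore 2 _)
      refine hcoreodd.of_dvd_nat ?_
      have hk : ((QuotientGroup.mk' N).comp M.subtype).ker = N.subgroupOf M := by
        rw [← MonoidHom.comap_ker, QuotientGroup.ker_mk']; rfl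
      rw [← hk, Subgroup.index_ker, MonoidHom.range_comp, Subgroup.range_subtype]
      exact Subgroup.card_dvd_of_le (hM ▸ Subgroup.map_comap_le _ _)
    have hcop : Nat.Coprime (Nat.card (N.subgroupOf M)) (N.subgroupOf M).index := by
      obtain ⟨i, hi⟩ := IsPGroup.iff_card.1 hN2
      rw [Nat.card_congr (Subgroup.subgroupOfEquivOfLe hNM).toEquiv, hi]
      exact Nat.Coprime.pow_left _ (Nat.coprime_two_left.2 hodd)
    obtain ⟨W, hW⟩ := Subgroup.exists_right_complement'_of_coprime hcop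
    have hWodd : Odd (Nat.card (W.map M.subtype)) := by
      rw [Subgroup.card_map_of_injective M.subtype_injective, ← hW.symm.index_eq_card]
      exact hodd
    have hWn : M ≤ Subgroup.normalizer ((W.map M.subtype : Subgroup G) : Set G) := by
      have h1 : (⊤ : Subgroup M) ≤ Subgroup.normalizer (W : Set M) := by
        rw [← hW.sup_eq_top]
        refine sup_le (fun n hn => Subgroup.mem_normalizer_iff.2 fun w => ?_)
          Subgroup.le_normalizer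
        have : n * w * n⁻¹ = w := by
          rw [mul_inv_eq_iff_eq_mul]; exact Subtype.ext (hNc _ hn w).symm
        rw [this]
      intro m hm
      exact Subgroup.le_normalizer_map M.subtype
        (Subgroup.mem_map_of_mem M.subtype (h1 (Subgroup.mem_top ⟨m, hm⟩)))
    have hW1 := odd_subgroup_eq_bot hO (N := M) (Subgroup.map_subtype_le W) hWn hWodd
    rw [Subgroup.map_eq_bot_iff_of_injective _ M.subtype_injective] at hW1
    have htop : N.subgroupOf M = ⊤ := by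
      have := hW.sup_eq_top
      rwa [hW1, sup_bot_eq] at this
    exact fun m hm => Subgroup.subgroupOf_eq_top.1 htop hm
  have hcN : ⁅x, y⁆ ∈ N := hMN _ (hM ▸ hq)
  -- `x` and `y` lie in a common 2-group
  obtain ⟨k, hk⟩ := two_pow_of_mem_cl P h₁.1 hx
  obtain ⟨l, hl⟩ := two_pow_of_mem_cl P h₂.1 hy
  have hT₁ : IsPGroup 2 (Subgroup.zpowers x ⊔ N : Subgroup G) :=
    (isPGroup_zpowers_of_pow hk).to_sup_of_normal_right hN2
  have hyT : y ∈ Subgroup.normalizer ((Subgroup.zpowers x ⊔ N : Subgroup G) : Set G) := by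
    have key : ∀ y : G, ⁅x, y⁆ ∈ N → ∀ t ∈ Subgroup.zpowers x ⊔ N,
        y * t * y⁻¹ ∈ Subgroup.zpowers x ⊔ N := by
      intro y hy t ht
      have hle : Subgroup.zpowers x ⊔ N ≤
          (Subgroup.zpowers x ⊔ N).comap (MulAut.conj y).toMonoidHom := by
        refine sup_le (Subgroup.zpowers_le.2 ?_) fun n hn => Subgroup.mem_sup_right ?_
        · rw [Subgroup.mem_comap, MulEquiv.coe_toMonoidHom, MulAut.conj_apply]
          rw [show y * x * y⁻¹ = ⁅x, y⁆⁻¹ * x by simp only [commutatorElement_def]; group]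
          exact mul_mem (Subgroup.mem_sup_right (inv_mem hy))
            (Subgroup.mem_sup_left (Subgroup.mem_zpowers x))
        · exact hNn.conj_mem n hn y
      exact hle ht
    refine mem_normalizer_of_conj_mem (key y hcN) (key y⁻¹ ?_)
    rw [show ⁅x, y⁻¹⁆ = y⁻¹ * ⁅x, y⁆⁻¹ * y⁻¹⁻¹ by simp only [commutatorElement_def]; group]
    exact hNn.conj_mem _ (inv_mem hcN) _
  exact commute_cl P h₁ h₂ hc
    (IsPGroup.to_sup_of_normal_right' (isPGroup_zpowers_of_pow hl) hT₁ (Subgroup.zpowers_le.2 hyT))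
    hx (Subgroup.mem_sup_right (Subgroup.mem_sup_left (Subgroup.mem_zpowers x))) hy
    (Subgroup.mem_sup_left (Subgroup.mem_zpowers y))

/-- An involution of a nontrivial strongly closed subgroup central in the Sylow subgroup lies in a
four-group of that subgroup, unless it is central. -/
theorem exists_triple (hO : Cfsg.oddCore G = ⊥) {S : Subgroup G}
    (hS : Cfsg.IsStronglyClosed S (P : Subgroup G)) (hne : S ≠ ⊥)
    (hnc : ∀ z ∈ cl S, z * z = 1 → z ≠ 1 → cent z ≠ ⊤) :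
    ∃ e : Fin 3 → G, Triple (cl S) e ∧ (∀ i, e i ∈ S) ∧ ∀ x ∈ P, x * e 0 = e 0 * x := by
  haveI : Fact (Nat.Prime 2) := ⟨Nat.prime_two⟩
  haveI : (S.subgroupOf P).Normal := ⟨fun n hn g =>
    CfsgLib.Closed.conj_mem_of_mem hS (x := (n : G)) hn g.2⟩
  obtain ⟨z, hz, hz1⟩ := LocalEvenBasic.exists_mem_center_of_normal P.isPGroup' (S.subgroupOf P)
    (fun h => hne (eq_bot_iff.2 fun s hs => by
      have : (⟨s, hS.1 hs⟩ : (P : Subgroup G)) ∈ (⊥ : Subgroup P) := h ▸ hs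
      exact Subgroup.mem_bot.2 (congrArg Subtype.val (Subgroup.mem_bot.1 this))))
  obtain ⟨k, hk⟩ := IsPGroup.iff_orderOf.1 P.isPGroup' z
  rcases k with _ | k
  · exact absurd (orderOf_eq_one_iff.1 (by simpa using hk)) hz1
  obtain ⟨a', ha'⟩ : ∃ a', a' = z ^ 2 ^ k := ⟨_, rfl⟩
  have ha'2 : a' * a' = 1 := by
    rw [ha', ← pow_add, ← two_mul, ← pow_succ', ← hk, pow_orderOf_eq_one]
  have ha'1 : a' ≠ 1 := fun h => by
    have hle := Nat.le_of_dvd (by positivity) (orderOf_dvd_of_pow_eq_one (ha'.symm.trans h))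
    rw [hk, pow_succ] at hle
    have := Nat.two_pow_pos k
    omega
  obtain ⟨a, ha⟩ : ∃ a : G, a = a' := ⟨_, rfl⟩
  have haS : a ∈ S := by
    have := (S.subgroupOf (P : Subgroup G)).pow_mem hz.1 (2 ^ k)
    rw [← ha'] at this
    exact ha ▸ this
  have haZ : ∀ x ∈ P, x * a = a * x := fun x hx => by
    have h := Subgroup.mem_center_iff.1 ((Subgroup.center (P : Subgroup G)).pow_mem hz.2 (2 ^ k))
      ⟨x, hx⟩
    rw [← ha'] at h
    exact ha ▸ congrArg Subtype.val h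
  have ha2 : a * a = 1 := ha ▸ congrArg Subtype.val ha'2
  have ha1 : a ≠ 1 := fun h => ha'1 (Subtype.ext (ha ▸ h))
  obtain ⟨a₁, ha₁S, ha₁2, ha₁1, hne₁⟩ : ∃ a₁ ∈ S, a₁ * a₁ = 1 ∧ a₁ ≠ 1 ∧ a ≠ a₁ := by
    by_contra hcon
    refine hnc a (mem_cl_self haS) ha2 ha1 (cent_eq_top_of_isolated hO ha2 ha1 fun g hg => ?_)
    have hsq : g * a * g⁻¹ * (g * a * g⁻¹) = 1 := by
      rw [conj_mul, ha2, mul_one, mul_inv_cancel]
    obtain ⟨c, hc⟩ := exists_conj_into P ((isPGroup_zpowers ha2).to_sup_of_normal_right'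
      (isPGroup_zpowers hsq) (Subgroup.zpowers_le.2 (mem_normalizer_of_conj_mem
        (fun y hy => by
          obtain ⟨i, rfl⟩ := Subgroup.mem_zpowers_iff.1 hy
          rw [(hg.zpow_right i).eq, mul_inv_cancel_right]; exact hy)
        (fun y hy => by
          obtain ⟨i, rfl⟩ := Subgroup.mem_zpowers_iff.1 hy
          rw [((hg.zpow_right i).inv_left).eq, mul_inv_cancel_right]; exact hy))))
    have key : ∀ b : G, b ∈ cl S → b * b = 1 → b ≠ 1 →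
        b ∈ Subgroup.zpowers a ⊔ Subgroup.zpowers (g * a * g⁻¹) → c * b * c⁻¹ = a := by
      intro b hb hb2 hb1 hbT
      by_contra hne'
      exact hcon ⟨c * b * c⁻¹, mem_of_mem_cl hS (conj_mem_cl hb c) (hc b hbT),
        by rw [conj_mul, hb2, mul_one, mul_inv_cancel], fun h => hb1 (conj_eq_one_iff.1 h),
        Ne.symm hne'⟩
    have h1 := key a (mem_cl_self haS) ha2 ha1 (Subgroup.mem_sup_left (Subgroup.mem_zpowers _))
    have h2 := key (g * a * g⁻¹) (conj_mem_cl (mem_cl_self haS) g) hsq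
      (fun h => ha1 (conj_eq_one_iff.1 h)) (Subgroup.mem_sup_right (Subgroup.mem_zpowers _))
    exact mul_left_cancel (mul_right_cancel (h2.trans h1.symm))
  have hmem : ∀ i, (![a, a₁, a * a₁] : Fin 3 → G) i ∈ S := by
    intro i; fin_cases i
    exacts [haS, ha₁S, mul_mem haS ha₁S]
  exact ⟨_, Triple.of_pair (mem_cl_self haS) (mem_cl_self ha₁S) (mem_cl_self (mul_mem haS ha₁S))
    ha2 ha₁2 ha1 ha₁1 hne₁ (haZ a₁ (hS.1 ha₁S)).symm, hmem, haZ⟩

theorem ctx_of_minimal (h₁ : Cfsg.IsStronglyClosed S₁ (P : Subgroup G))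
    (h₂ : Cfsg.IsStronglyClosed S₂ (P : Subgroup G)) (hc : ∀ a ∈ S₁, ∀ b ∈ S₂, a * b = b * a)
    (hd : S₁ ⊓ S₂ = ⊥) (hO : Cfsg.oddCore G = ⊥)
    (ih : ∀ H : Subgroup G, H ≠ ⊤ → Goal H)
    (hnc₁ : ∀ z ∈ cl S₁, z * z = 1 → z ≠ 1 → cent z ≠ ⊤)
    (hnc₂ : ∀ z ∈ cl S₂, z * z = 1 → z ≠ 1 → cent z ≠ ⊤) : Ctx (cl S₁) (cl S₂) where
  conjX _ hx g := conj_mem_cl hx g
  conjY _ hy g := conj_mem_cl hy g
  oneX := one_mem_cl S₁
  oneY := one_mem_cl S₂
  twoX _ hx := two_pow_of_mem_cl P h₁.1 hx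
  twoY _ hy := two_pow_of_mem_cl P h₂.1 hy
  subX _ hT _ hx hxT _ hx' hxT' := mul_mem_cl P h₁ hT hx hxT hx' hxT'
  subY _ hT _ hy hyT _ hy' hyT' := mul_mem_cl P h₂ hT hy hyT hy' hyT'
  sep _ hx hy := eq_one_of_mem_cl_cl P h₁ h₂ hd hx hy
  commXY _ hT _ hx hxT _ hy hyT := commute_cl P h₁ h₂ hc hT hx hxT hy hyT
  odd_bot N hn hN := eq_bot_iff.2 (hO ▸ LocalEven50.le_pPrimeCore hn (Nat.coprime_two_right.2 hN))
  loc H hH _ hx hxH _ hy hyH := goal_subgroup P h₁ h₂ hc hd H (ih H hH) hx hxH hy hyH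
  nc x hx y hy hx2 hy2 hxy hne htop := by
    haveI : Fact (Nat.Prime 2) := ⟨Nat.prime_two⟩
    rcases eq_or_ne x 1 with rfl | hx1
    · rw [one_mul] at htop hne
      exact hnc₂ y hy hy2 hne htop
    refine hnc₁ x hx hx2 hx1 (cent_eq_top_of_isolated hO hx2 hx1 fun g hg => ?_)
    have hu : ∀ c : G, c * (x * y) = x * y * c := fun c => mem_cent.1 (htop ▸ Subgroup.mem_top c)
    obtain ⟨u, hudef⟩ : ∃ u, u = x * y := ⟨_, rfl⟩
    rw [← hudef] at hu
    have hu2 : u * u = 1 := by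
      rw [hudef, Commute.mul_mul_mul_comm hxy.symm, hx2, hy2, one_mul]
    have hyx : y = x * u := by rw [hudef, ← mul_assoc, hx2, one_mul]
    have hyx' : g * y * g⁻¹ = g * x * g⁻¹ * u := by
      rw [hyx, show g * (x * u) * g⁻¹ = g * x * g⁻¹ * (g * u * g⁻¹) by group, hu g,
        mul_inv_cancel_right]
    have hsq : g * x * g⁻¹ * (g * x * g⁻¹) = 1 := by
      rw [conj_mul, hx2, mul_one, mul_inv_cancel]
    haveI hun : (Subgroup.zpowers u).Normal := ⟨fun n hn c => by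
      obtain ⟨i, rfl⟩ := Subgroup.mem_zpowers_iff.1 hn
      rw [(Commute.zpow_right (hu c) i).eq, mul_inv_cancel_right]; exact hn⟩
    have hT₁ : IsPGroup 2 (Subgroup.zpowers x ⊔ Subgroup.zpowers u : Subgroup G) :=
      (isPGroup_zpowers hx2).to_sup_of_normal_right (isPGroup_zpowers hu2)
    have hn : g * x * g⁻¹ ∈ Subgroup.normalizer
        ((Subgroup.zpowers x ⊔ Subgroup.zpowers u : Subgroup G) : Set G) := by
      refine mem_normalizer_sup (mem_normalizer_of_conj_mem (fun t ht => ?_) (fun t ht => ?_))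
        (by rw [Subgroup.normalizer_eq_top]; exact Subgroup.mem_top _)
      · obtain ⟨i, rfl⟩ := Subgroup.mem_zpowers_iff.1 ht
        rw [(hg.symm.zpow_right i).eq, mul_inv_cancel_right]; exact ht
      · obtain ⟨i, rfl⟩ := Subgroup.mem_zpowers_iff.1 ht
        rw [((hg.symm.zpow_right i).inv_left).eq, mul_inv_cancel_right]; exact ht
    have hT := IsPGroup.to_sup_of_normal_right' (isPGroup_zpowers hsq) hT₁
      (Subgroup.zpowers_le.2 hn)
    have hxT : x ∈ Subgroup.zpowers (g * x * g⁻¹) ⊔ (Subgroup.zpowers x ⊔ Subgroup.zpowers u) :=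
      Subgroup.mem_sup_right (Subgroup.mem_sup_left (Subgroup.mem_zpowers x))
    have hxT' : g * x * g⁻¹ ∈
        Subgroup.zpowers (g * x * g⁻¹) ⊔ (Subgroup.zpowers x ⊔ Subgroup.zpowers u) :=
      Subgroup.mem_sup_left (Subgroup.mem_zpowers _)
    have huT : u ∈ Subgroup.zpowers (g * x * g⁻¹) ⊔ (Subgroup.zpowers x ⊔ Subgroup.zpowers u) :=
      Subgroup.mem_sup_right (Subgroup.mem_sup_right (Subgroup.mem_zpowers u))
    have h1 := mul_mem_cl P h₁ hT hx hxT (conj_mem_cl hx g) hxT'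
    have h2 := mul_mem_cl P h₂ hT hy (hyx ▸ mul_mem hxT huT) (conj_mem_cl hy g)
      (hyx' ▸ mul_mem hxT' huT)
    have he : y * (g * y * g⁻¹) = x * (g * x * g⁻¹) := by
      rw [hyx', hyx, mul_assoc, ← mul_assoc u, ← hu, mul_assoc (g * x * g⁻¹), hu2, mul_one]
    rw [he] at h2
    have h3 := eq_one_of_mem_cl_cl P h₁ h₂ hd h1 h2
    rw [eq_inv_of_mul_eq_one_right h3, inv_eq_self_of_sq hx2]

/-- The final step: once the central conjugates commute, everything does. -/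
theorem commute_of_ctx (h₁ : Cfsg.IsStronglyClosed S₁ (P : Subgroup G))
    (h₂ : Cfsg.IsStronglyClosed S₂ (P : Subgroup G)) (hO : Cfsg.oddCore G = ⊥)
    (hnc₁ : ∀ z ∈ cl S₁, z * z = 1 → z ≠ 1 → cent z ≠ ⊤)
    (hnc₂ : ∀ z ∈ cl S₂, z * z = 1 → z ≠ 1 → cent z ≠ ⊤)
    (h : Ctx (cl S₁) (cl S₂)) {x y : G} (hx : x ∈ cl S₁) (hy : y ∈ cl S₂) : x * y = y * x := by
  haveI : Fact (Nat.Prime 2) := ⟨Nat.prime_two⟩
  rcases eq_or_ne S₁ ⊥ with rfl | hne₁
  · obtain ⟨g, s, hs, rfl⟩ := hx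
    rw [Subgroup.mem_bot.1 hs]; simp
  rcases eq_or_ne S₂ ⊥ with rfl | hne₂
  · obtain ⟨g, s, hs, rfl⟩ := hy
    rw [Subgroup.mem_bot.1 hs]; simp
  obtain ⟨e, he, heS, heZ⟩ := exists_triple P hO h₁ hne₁ hnc₁
  obtain ⟨f, hf, hfS, hfZ⟩ := exists_triple P hO h₂ hne₂ hnc₂
  have hp : Pair (cl S₁) (cl S₂) e f := ⟨he, hf, fun i j =>
    h.commXY _ P.isPGroup' _ (he.mem i) (h₁.1 (heS i)) _ (hf.mem j) (h₂.1 (hfS j))⟩
  have hcomm := hp.commute_conj h P (fun i => h₁.1 (heS i)) (fun j => h₂.1 (hfS j)) heZ hfZ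
  have ha := hnc₁ _ (he.mem 0) (he.sq 0) (he.ne 0)
  have hb := hnc₂ _ (hf.mem 0) (hf.sq 0) (hf.ne 0)
  obtain ⟨L, hL⟩ : ∃ L, L = Subgroup.normalClosure ({f 0} : Set G) := ⟨_, rfl⟩
  haveI hLn : L.Normal := hL ▸ Subgroup.normalClosure_normal
  have hLa : L ≤ cent (e 0) := by
    rw [hL, Subgroup.normalClosure, Subgroup.closure_le]
    intro q hq
    obtain ⟨_, rfl, hconj⟩ := Group.mem_conjugatesOfSet_iff.1 hq
    obtain ⟨g, rfl⟩ := isConj_iff.1 hconj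
    have h1 : g⁻¹ * e 0 * g * f 0 = f 0 * (g⁻¹ * e 0 * g) := by simpa using hcomm g⁻¹
    refine mem_cent.2 ?_
    calc g * f 0 * g⁻¹ * e 0 = g * (f 0 * (g⁻¹ * e 0 * g)) * g⁻¹ := by group
      _ = g * (g⁻¹ * e 0 * g * f 0) * g⁻¹ := by rw [h1]
      _ = e 0 * (g * f 0 * g⁻¹) := by group
  have hPa : (P : Subgroup G) ≤ cent (e 0) := fun t ht => mem_cent.2 (heZ t ht)
  have hPb : (P : Subgroup G) ≤ cent (f 0) := fun t ht => mem_cent.2 (hfZ t ht)
  have key : ∀ (M : Subgroup G), M.Normal → M ⊔ (P : Subgroup G) ≠ ⊤ →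
      ∀ x ∈ cl S₁, x ∈ M ⊔ (P : Subgroup G) → ∀ y ∈ cl S₂, y ∈ M ⊔ (P : Subgroup G) →
      ⁅x, y⁆ ∈ M → x * y = y * x := by
    intro M hM hne x hx hxH y hy hyH hmem
    have h1 : coreOf (M ⊔ (P : Subgroup G)) ⊓ M = ⊥ :=
      odd_subgroup_eq_bot h.odd_bot (N := M) inf_le_right
        (fun m hm => mem_normalizer_inf
          (Signalizer.le_normalizer_coreOf _ (Subgroup.mem_sup_left hm))
          (Subgroup.le_normalizer hm))
        (odd_card_of_le (Nat.coprime_two_right.1 (Signalizer.coprime_card_coreOf _)) inf_le_left)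
    have h2 : ⁅x, y⁆ ∈ coreOf (M ⊔ (P : Subgroup G)) ⊓ M :=
      ⟨h.loc _ hne x hx hxH y hy hyH, hmem⟩
    rw [h1, Subgroup.mem_bot, commutatorElement_eq_one_iff_mul_comm] at h2
    exact h2
  obtain ⟨N, hN⟩ : ∃ N, N = Subgroup.normalClosure (S₁ : Set G) := ⟨_, rfl⟩
  haveI hNn : N.Normal := hN ▸ Subgroup.normalClosure_normal
  have hclN : ∀ x ∈ cl S₁, x ∈ N := by
    rintro _ ⟨g, s, hs, rfl⟩
    exact hNn.conj_mem _ (hN ▸ Subgroup.subset_normalClosure hs) g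
  have hS₁b : ∀ s ∈ S₁, ∀ g : G, s * (g * f 0 * g⁻¹) = g * f 0 * g⁻¹ * s := by
    intro s hs g
    have hmem : g * f 0 * g⁻¹ ∈ L := hLn.conj_mem _ (hL ▸ Subgroup.subset_normalClosure rfl) g
    refine key L hLn (fun he' => ha (eq_top_iff.2 (he' ▸ sup_le hLa hPa))) s (mem_cl_self hs)
      (Subgroup.mem_sup_right (h₁.1 hs)) _ (conj_mem_cl (hf.mem 0) g) (Subgroup.mem_sup_left hmem) ?_
    rw [commutatorElement_def]
    exact mul_mem (hLn.conj_mem _ hmem s) (inv_mem hmem)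
  have hNb : N ≤ cent (f 0) := by
    rw [hN, Subgroup.normalClosure, Subgroup.closure_le]
    intro q hq
    obtain ⟨s, hs, hconj⟩ := Group.mem_conjugatesOfSet_iff.1 hq
    obtain ⟨g, rfl⟩ := isConj_iff.1 hconj
    have h1 : s * (g⁻¹ * f 0 * g) = g⁻¹ * f 0 * g * s := by simpa using hS₁b s hs g⁻¹
    refine mem_cent.2 ?_
    calc g * s * g⁻¹ * f 0 = g * (s * (g⁻¹ * f 0 * g)) * g⁻¹ := by group
      _ = g * (g⁻¹ * f 0 * g * s) * g⁻¹ := by rw [h1]
      _ = f 0 * (g * s * g⁻¹) := by group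
  obtain ⟨g, s, hs, rfl⟩ := hy
  have hx' := conj_mem_cl hx g⁻¹
  have hxN := hclN _ hx'
  have h1 := key N hNn (fun he' => hb (eq_top_iff.2 (he' ▸ sup_le hNb hPb))) _ hx'
    (Subgroup.mem_sup_left hxN) s (mem_cl_self hs) (Subgroup.mem_sup_right (h₂.1 hs)) (by
      rw [commutatorElement_def, mul_assoc, mul_assoc]
      refine mul_mem hxN ?_
      rw [← mul_assoc]
      exact hNn.conj_mem _ (N.inv_mem hxN) s)
  calc x * (g * s * g⁻¹) = g * (g⁻¹ * x * g⁻¹⁻¹ * s) * g⁻¹ := by group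
    _ = g * (s * (g⁻¹ * x * g⁻¹⁻¹)) * g⁻¹ := by rw [h1]
    _ = g * s * g⁻¹ * x := by group

end

theorem goal_aux (n : ℕ) : ∀ (G : Type u) [Group G] [Finite G], Nat.card G = n → Goal G := by
  induction n using Nat.strong_induction_on with
  | _ n ih =>
    intro G _ _ hn P S₁ S₂ h₁ h₂ hc hd x hx y hy
    haveI : Fact (Nat.Prime 2) := ⟨Nat.prime_two⟩
    have ihQ : ∀ N : Subgroup G, ∀ _ : N.Normal, N ≠ ⊥ → Goal (G ⧸ N) := fun N hNn hN =>
      ih _ (hn ▸ card_quotient_lt hN) _ rfl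
    have ihH : ∀ H : Subgroup G, H ≠ ⊤ → Goal H := fun H hH =>
      ih _ (hn ▸ lt_of_le_of_ne (Nat.le_of_dvd Nat.card_pos (Subgroup.card_subgroup_dvd_card H))
        fun e => hH (Subgroup.eq_top_of_card_eq H e)) _ rfl
    haveI : (Cfsg.oddCore G).Characteristic := PLocal.pPrimeCoreCharacteristic 2 G
    by_cases hO : Cfsg.oddCore G = ⊥
    swap
    · have hq := goal_quotient P h₁ h₂ hc (Cfsg.oddCore G) (ihQ _ inferInstance hO)
        (fun a ha b hb hab => by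
          obtain ⟨k, hk⟩ := P.isPGroup' ⟨a⁻¹ * b, mul_mem (inv_mem (h₁.1 ha)) (h₂.1 hb)⟩
          have h1 : a⁻¹ * b = 1 :=
            Signalizer.eq_one_of_pow_two_pow (PLocal.coprime_card_pPrimeCore 2 G) hab (k := k)
              (by simpa using congrArg Subtype.val hk)
          obtain rfl : a = b := inv_mul_eq_one.1 h1
          have : a = 1 := Subgroup.mem_bot.1 (hd ▸ (⟨ha, hb⟩ : a ∈ S₁ ⊓ S₂))
          rw [this]; exact one_mem _) hx hy
      change QuotientGroup.mk' (Cfsg.oddCore G) ⁅x, y⁆ ∈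
        Cfsg.pPrimeCore 2 (G ⧸ Cfsg.oddCore G) at hq
      rwa [PLocal.pPrimeCore_quotient_pPrimeCore_eq_bot 2 G, Subgroup.mem_bot,
        QuotientGroup.mk'_apply, QuotientGroup.eq_one_iff] at hq
    rw [hO, Subgroup.mem_bot, commutatorElement_eq_one_iff_mul_comm]
    have hodd : ∀ N : Subgroup G, N.Normal → Odd (Nat.card N) → N = ⊥ := fun N hNn hN =>
      eq_bot_iff.2 (hO ▸ LocalEven50.le_pPrimeCore hNn (Nat.coprime_two_right.2 hN))
    by_cases hnc₁ : ∀ z ∈ cl S₁, z * z = 1 → z ≠ 1 → cent z ≠ ⊤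
    swap
    · push Not at hnc₁
      obtain ⟨z, hz, hz2, hz1, hzc⟩ := hnc₁
      exact commute_of_central P h₁ h₂ hc hd hodd ihQ hz hz2 hz1 hzc hx hy
    by_cases hnc₂ : ∀ z ∈ cl S₂, z * z = 1 → z ≠ 1 → cent z ≠ ⊤
    swap
    · push Not at hnc₂
      obtain ⟨z, hz, hz2, hz1, hzc⟩ := hnc₂
      exact (commute_of_central P h₂ h₁ (fun a ha b hb => (hc b hb a ha).symm)
        (by rwa [inf_comm]) hodd ihQ hz hz2 hz1 hzc hy hx).symm
    exact commute_of_ctx P h₁ h₂ hO hnc₁ hnc₂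
      (ctx_of_minimal P h₁ h₂ hc hd hO ihH hnc₁ hnc₂) hx hy

/-- The product theorem. -/
theorem commutator_le_oddCore (P : Sylow 2 G) {S₁ S₂ : Subgroup G}
    (h₁ : Cfsg.IsStronglyClosed S₁ (P : Subgroup G))
    (h₂ : Cfsg.IsStronglyClosed S₂ (P : Subgroup G))
    (hc : ∀ a ∈ S₁, ∀ b ∈ S₂, a * b = b * a) (hd : S₁ ⊓ S₂ = ⊥) :
    ⁅Subgroup.normalClosure (S₁ : Set G), Subgroup.normalClosure (S₂ : Set G)⁆ ≤
      Cfsg.oddCore G := by
  haveI : (Cfsg.oddCore G).Characteristic := PLocal.pPrimeCoreCharacteristic 2 G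
  have hgoal := goal_aux (Nat.card G) G rfl P S₁ S₂ h₁ h₂ hc hd
  have hmap : ∀ S : Subgroup G, (Subgroup.normalClosure (S : Set G)).map
      (QuotientGroup.mk' (Cfsg.oddCore G)) =
        Subgroup.closure (QuotientGroup.mk' (Cfsg.oddCore G) '' cl S) := by
    intro S
    rw [Subgroup.normalClosure, MonoidHom.map_closure]
    congr 2
    ext q
    constructor
    · intro hq
      obtain ⟨s, hs, hconj⟩ := Group.mem_conjugatesOfSet_iff.1 hq
      obtain ⟨g, rfl⟩ := isConj_iff.1 hconj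
      exact ⟨g, s, hs, rfl⟩
    · rintro ⟨g, s, hs, rfl⟩
      exact Group.mem_conjugatesOfSet_iff.2 ⟨s, hs, isConj_iff.2 ⟨g, rfl⟩⟩
  have hbot : ⁅(Subgroup.normalClosure (S₁ : Set G)).map (QuotientGroup.mk' (Cfsg.oddCore G)),
      (Subgroup.normalClosure (S₂ : Set G)).map (QuotientGroup.mk' (Cfsg.oddCore G))⁆ = ⊥ := by
    rw [Subgroup.commutator_eq_bot_iff_le_centralizer, hmap, hmap, Subgroup.closure_le,
      Subgroup.centralizer_closure]
    rintro _ ⟨x, hx, rfl⟩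
    refine Subgroup.mem_centralizer_iff.2 ?_
    rintro _ ⟨y, hy, rfl⟩
    have h : QuotientGroup.mk' (Cfsg.oddCore G) ⁅x, y⁆ = 1 :=
      (QuotientGroup.eq_one_iff _).2 (hgoal x hx y hy)
    rw [map_commutatorElement, commutatorElement_eq_one_iff_mul_comm] at h
    exact h.symm
  rwa [← Subgroup.map_commutator, Subgroup.map_eq_bot_iff, QuotientGroup.ker_mk'] at hbot

end CfsgLib.ProductFusion
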