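import Cfsg.Agent.ProductFusion.Closure

/-!
# Product fusion: conjugates of a central involution of one class commute with one of the other

If `a ∈ X` and `b ∈ Y` are involutions central in a Sylow `2`-subgroup, each contained in a
four-group of its class inside that Sylow subgroup, then every conjugate of `a` commutes with `b`.
-/

set_option autoImplicit false
set_option linter.style.haveILetI false
set_option linter.unusedSectionVars false

open scoped commutatorElement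

namespace CfsgLib.ProductFusion

open CfsgLib.Signalizer (coreOf coreOf_le)

universe u

variable {G : Type u} [Group G] [Finite G]

theorem exists_conj_mem_sylow (P : Sylow 2 G) {L N : Subgroup G} (hPL : (P : Subgroup G) ≤ L)
    (hNL : N ≤ L) (hn : L ≤ Subgroup.normalizer (N : Set G)) {x : G} (hx : x ∈ N)
    (h2 : ∃ k : ℕ, x ^ 2 ^ k = 1) : ∃ k ∈ N, k * x * k⁻¹ ∈ P := by
  haveI : Fact (Nat.Prime 2) := ⟨Nat.prime_two⟩
  have hPN : IsPGroup 2 ((P : Subgroup G) ⊓ N : Subgroup G) := P.isPGroup'.to_le inf_le_left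
  obtain ⟨R, hR⟩ := (hPN.comap_of_injective N.subtype
    (Subgroup.subtype_injective _)).exists_le_sylow
  have hle : ((P : Subgroup G) ⊓ N) ≤ (R : Subgroup N).map N.subtype := fun y hy =>
    ⟨⟨y, hy.2⟩, hR hy, rfl⟩
  obtain ⟨Q, hQ⟩ := ((R.isPGroup'.map N.subtype).comap_of_injective L.subtype
    (Subgroup.subtype_injective _)).exists_le_sylow
  obtain ⟨l, hl⟩ := MulAction.exists_smul_eq L Q (P.subtype hPL)
  have hi : Function.Injective (fun r : (R : Subgroup N).map N.subtype => (⟨(l : G) * r * (l : G)⁻¹,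
      by
        obtain ⟨r, hr⟩ := r
        have hrN : r ∈ N := Subgroup.map_subtype_le _ hr
        refine ⟨?_, conj_mem_of_normalizer (hn l.2) hrN⟩
        have hrQ : (⟨r, hNL hrN⟩ : L) ∈ (Q : Subgroup L) := hQ hr
        have h1 : l * ⟨r, hNL hrN⟩ * l⁻¹ ∈ (P.subtype hPL : Subgroup L) := by
          rw [← hl, Sylow.coe_subgroup_smul]
          exact ⟨_, hrQ, rfl⟩
        exact h1⟩ : ((P : Subgroup G) ⊓ N : Subgroup G))) := by
    intro r r' h
    have h' := congrArg Subtype.val h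
    exact Subtype.ext (mul_left_cancel (mul_right_cancel h'))
  have heq := Subgroup.eq_of_le_of_card_ge hle (Nat.card_le_card_of_injective _ hi)
  obtain ⟨k, hk⟩ := h2
  have hz : IsPGroup 2 (Subgroup.zpowers (⟨x, hx⟩ : N)) := by
    obtain ⟨j, hj⟩ := (Nat.dvd_prime_pow Nat.prime_two).1
      (orderOf_dvd_of_pow_eq_one (x := (⟨x, hx⟩ : N)) (n := 2 ^ k) (Subtype.ext (by simpa using hk)))
    exact IsPGroup.of_card (n := j) (by rw [Nat.card_zpowers, hj.2])
  obtain ⟨R', hR'⟩ := hz.exists_le_sylow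
  obtain ⟨c, hc⟩ := MulAction.exists_smul_eq N R' R
  have h1 : c * ⟨x, hx⟩ * c⁻¹ ∈ (R : Subgroup N) := by
    rw [← hc, Sylow.coe_subgroup_smul]
    exact ⟨_, hR' (Subgroup.mem_zpowers _), rfl⟩
  have h2 : (c : G) * x * (c : G)⁻¹ ∈ (P : Subgroup G) ⊓ N := heq ▸ ⟨_, h1, rfl⟩
  exact ⟨c, c.2, h2.1⟩

omit [Finite G] in
theorem br_conj {Q Q' : Subgroup G} {a g r : G} (hQ : ∀ q ∈ Q, g * q * g⁻¹ ∈ Q') (hr : r ∈ br Q a) :
    g * r * g⁻¹ ∈ br Q' (g * a * g⁻¹) := by
  have hle : br Q a ≤ (br Q' (g * a * g⁻¹)).comap (MulAut.conj g).toMonoidHom := by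
    conv_lhs => rw [br]
    rw [Subgroup.closure_le]
    rintro _ ⟨q, hq, rfl⟩
    show g * (q⁻¹ * (a * q * a⁻¹)) * g⁻¹ ∈ br Q' (g * a * g⁻¹)
    rw [show g * (q⁻¹ * (a * q * a⁻¹)) * g⁻¹ = (g * q * g⁻¹)⁻¹ *
      ((g * a * g⁻¹) * (g * q * g⁻¹) * (g * a * g⁻¹)⁻¹) by group]
    exact mem_br (hQ q hq)
  exact hle hr

omit [Finite G] in
theorem br_le_normalClosure {Q : Subgroup G} {a : G} {K : Subgroup G} [hK : K.Normal] (ha : a ∈ K) :
    br Q a ≤ K := by
  rw [br, Subgroup.closure_le]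
  rintro _ ⟨q, -, rfl⟩
  rw [show q⁻¹ * (a * q * a⁻¹) = q⁻¹ * a * q⁻¹⁻¹ * a⁻¹ by group]
  exact mul_mem (hK.conj_mem a ha _) (inv_mem ha)

variable {X Y : Set G} {e f : Fin 3 → G}

/-- The closure of a conjugated pair. -/
abbrev closAt (e f : Fin 3 → G) (g : G) : Subgroup G := clos (fun i => g * e i * g⁻¹) f

/-- The intersection of the normalisers of the conjugated closures. -/
def norms (e f : Fin 3 → G) : Subgroup G :=
  ⨅ g : {g : G // ∀ j, g ∈ cent (f j)}, Subgroup.normalizer (closAt e f g.1 : Set G)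

theorem mem_norms {x : G} :
    x ∈ norms e f ↔ ∀ g : G, (∀ j, g ∈ cent (f j)) →
      x ∈ Subgroup.normalizer (closAt e f g : Set G) := by
  simp [norms, Subgroup.mem_iInf]

namespace Pair

theorem closAt_mul (h : Ctx X Y) (hp : Pair X Y e f) {c g : G} (hc : ∀ j, c ∈ cent (f j))
    (hg : ∀ j, g ∈ cent (f j)) {y : G} (hy : y ∈ closAt e f g) :
    c * y * c⁻¹ ∈ closAt e f (c * g) := by
  have h1 := (hp.conj_left h hg).conj_mem_clos hc hy
  have he : (fun i => c * (g * e i * g⁻¹) * c⁻¹) = fun i => c * g * e i * (c * g)⁻¹ :=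
    funext fun i => by group
  rwa [he] at h1

theorem cent_normalizes_norms (h : Ctx X Y) (hp : Pair X Y e f) {c : G}
    (hc : ∀ j, c ∈ cent (f j)) : c ∈ Subgroup.normalizer (norms e f : Set G) := by
  have key : ∀ c : G, (∀ j, c ∈ cent (f j)) → ∀ x ∈ norms e f, c * x * c⁻¹ ∈ norms e f := by
    intro c hc x hx
    have hci : ∀ j, c⁻¹ ∈ cent (f j) := fun j => inv_mem (hc j)
    refine mem_norms.2 fun g hg => ?_
    have hcg : ∀ j, c⁻¹ * g ∈ cent (f j) := fun j => mul_mem (hci j) (hg j)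
    have key2 : ∀ x ∈ norms e f, ∀ y ∈ closAt e f g,
        c * x * c⁻¹ * y * (c * x * c⁻¹)⁻¹ ∈ closAt e f g := by
      intro x hx y hy
      have h1 := conj_mem_of_normalizer (mem_norms.1 hx _ hcg) (hp.closAt_mul h hci hg hy)
      have h2 := hp.closAt_mul h hc hcg h1
      rw [mul_inv_cancel_left] at h2
      rwa [show c * x * c⁻¹ * y * (c * x * c⁻¹)⁻¹ = c * (x * (c⁻¹ * y * c⁻¹⁻¹) * x⁻¹) * c⁻¹ by
        group]
    refine mem_normalizer_of_conj_mem (key2 x hx) ?_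
    rw [show (c * x * c⁻¹)⁻¹ = c * x⁻¹ * c⁻¹ by group]
    exact key2 x⁻¹ (inv_mem hx)
  exact mem_normalizer_of_conj_mem (key c hc) (key c⁻¹ fun j => inv_mem (hc j))

theorem core_le_norms (h : Ctx X Y) (hp : Pair X Y e f) (j : Fin 3) : core (f j) ≤ norms e f :=
  fun _ hx => mem_norms.2 fun _ hg => (hp.conj_left h hg).core_normalizes_clos h j hx

theorem clos_le_norms (h : Ctx X Y) (hp : Pair X Y e f) : clos e f ≤ norms e f :=
  iSup_le fun _ => iSup_le fun j => inf_le_right.trans (hp.core_le_norms h j)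

/-- All conjugates of `e 0` commute with `f 0`. -/
theorem commute_conj (h : Ctx X Y) (hp : Pair X Y e f) (P : Sylow 2 G) (heP : ∀ i, e i ∈ P)
    (hfP : ∀ j, f j ∈ P) (haZ : ∀ x ∈ P, x * e 0 = e 0 * x) (hbZ : ∀ x ∈ P, x * f 0 = f 0 * x)
    (g₀ : G) : g₀ * e 0 * g₀⁻¹ * f 0 = f 0 * (g₀ * e 0 * g₀⁻¹) := by
  haveI : Fact (Nat.Prime 2) := ⟨Nat.prime_two⟩
  obtain ⟨C, hC⟩ : ∃ C : Set G, C = {x | ∃ g, x = g * e 0 * g⁻¹} := ⟨_, rfl⟩
  have hCX : ∀ x ∈ C, x ∈ X := by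
    intro x hx; rw [hC] at hx; obtain ⟨g, rfl⟩ := hx; exact h.conjX _ (hp.left.mem 0) g
  have hCsq : ∀ x ∈ C, x * x = 1 := by
    intro x hx; rw [hC] at hx; obtain ⟨g, rfl⟩ := hx
    rw [conj_mul, hp.left.sq, mul_one, mul_inv_cancel]
  have hCne : ∀ x ∈ C, x ≠ 1 := by
    intro x hx; rw [hC] at hx; obtain ⟨g, rfl⟩ := hx
    exact fun h => hp.left.ne 0 (conj_eq_one_iff.1 h)
  have hCconj : ∀ x ∈ C, ∀ g : G, g * x * g⁻¹ ∈ C := by
    intro x hx g; rw [hC] at hx ⊢; obtain ⟨k, rfl⟩ := hx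
    exact ⟨g * k, by group⟩
  obtain ⟨K, hK⟩ : ∃ K, K = Subgroup.normalClosure ({e 0} : Set G) := ⟨_, rfl⟩
  haveI hKn : K.Normal := hK ▸ Subgroup.normalClosure_normal
  have hCK : ∀ x ∈ C, x ∈ K := by
    intro x hx; rw [hC] at hx; obtain ⟨g, rfl⟩ := hx
    exact hKn.conj_mem _ (hK ▸ Subgroup.subset_normalClosure rfl) g
  obtain ⟨Z, hZ⟩ : ∃ Z, Z = K ⊓ norms e f := ⟨_, rfl⟩
  have hKnorm : ∀ g : G, g ∈ Subgroup.normalizer (K : Set G) := fun g => by
    rw [Subgroup.normalizer_eq_top]; exact Subgroup.mem_top g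
  have hcoreN : ∀ j, core (f j) ≤ Subgroup.normalizer (Z : Set G) := fun j x hx =>
    hZ ▸ mem_normalizer_inf (hKnorm x) (Subgroup.le_normalizer (hp.core_le_norms h j hx))
  have hcentN : ∀ c, (∀ j, c ∈ cent (f j)) → c ∈ Subgroup.normalizer (Z : Set G) := fun c hc =>
    hZ ▸ mem_normalizer_inf (hKnorm c) (hp.cent_normalizes_norms h hc)
  -- conjugates centralising a member of `f`
  have hstep : ∀ x ∈ C, ∀ j, x ∈ cent (f j) → x ∈ Subgroup.normalizer (Z : Set G) := by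
    intro x hx j hxj
    have hf := h.cent_ne_top_right (hp.right.mem j) (hp.right.sq j) (hp.right.ne j)
    have hgrp : IsPGroup 2 hp.right.grp := fun y => ⟨1, Subtype.ext (by
      obtain ⟨y, hy⟩ := y
      rcases Triple.mem_grp.1 hy with rfl | ⟨i, rfl⟩
      · simp
      · simpa [pow_two] using hp.right.sq i)⟩
    have hgrpC : ∀ y ∈ hp.right.grp, y ∈ cent (f j) := by
      intro y hy
      rcases Triple.mem_grp.1 hy with rfl | ⟨i, rfl⟩
      exacts [one_mem _, hp.right.mem_cent_of i j]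
    have hxf : ∀ i, ⁅x, f i⁆ ∈ core (f j) := fun i =>
      h.loc _ hf x (hCX x hx) hxj (f i) (hp.right.mem i) (hp.right.mem_cent_of i j)
    obtain ⟨T, hT, hT₀, -, hlift⟩ := exists_two_lift (f := f j)
      (S := {s | s = x ∨ s ∈ hp.right.grp})
      (by rintro s (rfl | hs); exacts [hxj, hgrpC s hs])
      (by
        rintro s (rfl | hs)
        · exact ⟨1, by simpa [pow_two] using hCsq _ hx⟩
        · obtain ⟨k, hk⟩ := hgrp ⟨s, hs⟩
          exact ⟨k, by simpa using congrArg Subtype.val hk⟩)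
      (by
        have hxg : ∀ y ∈ hp.right.grp, ⁅x, y⁆ ∈ core (f j) := fun y hy => by
          rcases Triple.mem_grp.1 hy with rfl | ⟨i, rfl⟩
          · simp [commutatorElement_def]
          · exact hxf i
        rintro s (rfl | hs) t (rfl | ht)
        · simp [commutatorElement_def]
        · exact hxg t ht
        · exact commutatorElement_inv t s ▸ inv_mem (hxg s hs)
        · rcases Triple.mem_grp.1 hs with rfl | ⟨i, rfl⟩
          · simp [commutatorElement_def]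
          rcases Triple.mem_grp.1 ht with rfl | ⟨k, rfl⟩
          · simp [commutatorElement_def]
          rw [commutatorElement_eq_one_iff_mul_comm.2 (hp.right.comm i k)]
          exact one_mem _)
      hgrp (fun y hy => Or.inr hy)
    obtain ⟨o, ho, hoT⟩ := hlift x (Or.inl rfl)
    have hc : ∀ i, o * x * o⁻¹ ∈ cent (f i) := fun i => mem_cent.2
      (h.commXY T hT _ (h.conjX _ (hCX x hx) o) hoT (f i) (hp.right.mem i)
        (hT₀ (Triple.mem_grp.2 (Or.inr ⟨i, rfl⟩))))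
    have := mul_mem (mul_mem (inv_mem (hcoreN j ho)) (hcentN _ hc)) (hcoreN j ho)
    rwa [show o⁻¹ * (o * x * o⁻¹) * o = x by group] at this
  have hbP : ∀ x ∈ P, x ∈ cent (f 0) := fun x hx => mem_cent.2 (hbZ x hx)
  -- inside the Sylow subgroup
  have hin : ∀ x ∈ C, x ∈ P → br (core (x * f 0)) x ≤ Z ⊓ clos e f := by
    intro x hx hxP
    suffices br (core (x * f 0)) x ≤ clos e f from
      le_inf (hZ ▸ le_inf (br_le_normalClosure (hCK x hx)) (this.trans (hp.clos_le_norms h))) this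
    rcases eq_or_ne (e 0) x with rfl | hne
    · exact le_sup_left.trans (hp.mixed_le_clos h 0 0)
    have hc : e 0 * x = x * e 0 := (haZ x hxP).symm
    have hm := h.subX (P : Subgroup G) P.isPGroup' _ (hp.left.mem 0) (heP 0) x (hCX x hx) hxP
    have ht := Triple.of_pair (hp.left.mem 0) (hCX x hx) hm (hp.left.sq 0) (hCsq x hx) (hp.left.ne 0)
      (hCne x hx) hne hc
    have hmemP : ∀ i, (![e 0, x, e 0 * x] : Fin 3 → G) i ∈ P := by
      intro i; fin_cases i
      exacts [heP 0, hxP, mul_mem (heP 0) hxP]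
    have hp' : Pair X Y ![e 0, x, e 0 * x] f := ⟨ht, hp.right, fun i j =>
      h.commXY _ P.isPGroup' _ (ht.mem i) (hmemP i) _ (hp.right.mem j) (hfP j)⟩
    calc br (core (x * f 0)) x ≤ mixed ![e 0, x, e 0 * x] f 1 0 := le_sup_left
      _ ≤ clos ![e 0, x, e 0 * x] f := hp'.mixed_le_clos h 1 0
      _ = clos e f := hp.clos_congr h hp' (i := 0) (i' := 0) rfl
  -- conjugates centralising `f 0`
  obtain ⟨N, hN⟩ : ∃ N, N = Subgroup.closure {x | x ∈ C ∧ x ∈ cent (f 0)} := ⟨_, rfl⟩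
  have hNC : N ≤ cent (f 0) := by
    rw [hN, Subgroup.closure_le]; exact fun x hx => hx.2
  have hNZ : N ≤ Subgroup.normalizer (Z : Set G) := by
    rw [hN, Subgroup.closure_le]; exact fun x hx => hstep x hx.1 0 hx.2
  have hNn : cent (f 0) ≤ Subgroup.normalizer (N : Set G) := by
    have key : ∀ c ∈ cent (f 0), N ≤ N.comap (MulAut.conj c).toMonoidHom := fun c hc => by
      rw [hN, Subgroup.closure_le]
      exact fun x hx => Subgroup.subset_closure
        ⟨hCconj x hx.1 c, mul_mem (mul_mem hc hx.2) (inv_mem hc)⟩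
    exact fun c hc => mem_normalizer_of_conj_mem (fun _ hx => key c hc hx)
      (fun _ hx => key c⁻¹ (inv_mem hc) hx)
  have hout : ∀ x ∈ C, x ∈ cent (f 0) → ∀ r ∈ br (core (x * f 0)) x,
      ∃ k ∈ Subgroup.normalizer (Z : Set G), k * r * k⁻¹ ∈ Z ⊓ clos e f := by
    intro x hx hxb r hr
    obtain ⟨k, hk, hkP⟩ := exists_conj_mem_sylow P hbP hNC hNn
      (hN ▸ Subgroup.subset_closure ⟨hx, hxb⟩ : x ∈ N) ⟨1, by simpa [pow_two] using hCsq x hx⟩
    refine ⟨k, hNZ hk, hin _ (hCconj x hx k) hkP (br_conj (fun q hq => ?_) hr)⟩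
    have h1 := core_conj k hq
    rwa [show k * (x * f 0) * k⁻¹ = k * x * k⁻¹ * f 0 by
      rw [← conj_mul, mem_cent.1 (hNC hk), mul_inv_cancel_right]] at h1
  -- the dihedral groups
  have hdih : ∀ x ∈ C, ∃ x' ∈ C, x' ∈ cent (f 0) ∧ x * x' ∈ br (core (x' * f 0)) x' := by
    intro x hx
    obtain ⟨b, hb⟩ : ∃ b, b = f 0 := ⟨_, rfl⟩
    rw [← hb]
    have hbY : b ∈ Y := hb ▸ hp.right.mem 0
    have hb2 : b * b = 1 := hb ▸ hp.right.sq 0
    have hx2 := hCsq x hx
    have hbi := inv_eq_self_of_sq hb2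
    have hxi := inv_eq_self_of_sq hx2
    obtain ⟨d, hd⟩ : ∃ d, d = x * b := ⟨_, rfl⟩
    have hdi : d⁻¹ = b * x := by rw [hd, mul_inv_rev, hbi, hxi]
    have hbd : b * d * b⁻¹ = d⁻¹ := by
      rw [hdi, hd, hbi, ← mul_assoc, mul_assoc (b * x), hb2, mul_one]
    have hxd : x * d * x⁻¹ = d⁻¹ := by
      rw [hdi, hd, hxi, ← mul_assoc, hx2, one_mul]
    obtain ⟨s, q, hq, hsq⟩ := Nat.exists_eq_pow_mul_and_not_dvd (orderOf_pos d).ne' 2 (by omega)
    obtain ⟨t, rfl⟩ : ∃ t, q = 2 * t + 1 := ⟨q / 2, by omega⟩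
    obtain ⟨δ, hδ⟩ : ∃ δ, δ = d ^ (2 * t + 1) := ⟨_, rfl⟩
    obtain ⟨x', hx'⟩ : ∃ x', x' = d ^ t * x * (d ^ t)⁻¹ := ⟨_, rfl⟩
    have hx'C : x' ∈ C := hx' ▸ hCconj x hx _
    have hxdt : x * (d ^ t)⁻¹ = d ^ t * x := by
      have h1 : x * d ^ t * x⁻¹ = (d ^ t)⁻¹ := by rw [← conj_pow, hxd, inv_pow]
      rw [← h1, hxi, ← mul_assoc, ← mul_assoc, hx2, one_mul]
    have hx'eq : x' = d ^ (2 * t) * x := by
      rw [hx', mul_assoc, hxdt, ← mul_assoc, ← pow_add, two_mul]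
    have hx'δ : x' = δ * b := by
      rw [hx'eq, hδ, pow_succ, mul_assoc, hd, mul_assoc x b b, hb2, mul_one]
    have hbδ : b * δ * b⁻¹ = δ⁻¹ := by rw [hδ, ← conj_pow, hbd, inv_pow]
    have hT : IsPGroup 2 ((Subgroup.zpowers b ⊔ Subgroup.zpowers δ : Subgroup G)) := by
      refine IsPGroup.to_sup_of_normal_right' (isPGroup_zpowers hb2)
        (IsPGroup.iff_card.2 ?_) ?_
      · obtain ⟨j, -, hj⟩ := (Nat.dvd_prime_pow Nat.prime_two).1
          (orderOf_dvd_of_pow_eq_one (x := δ) (n := 2 ^ s) (by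
            rw [hδ, ← pow_mul, mul_comm, ← hsq, pow_orderOf_eq_one]))
        exact ⟨j, by rw [Nat.card_zpowers, hj]⟩
      · rw [Subgroup.zpowers_le]
        refine mem_normalizer_of_conj_mem (fun y hy => ?_) (fun y hy => ?_)
        all_goals
          obtain ⟨i, rfl⟩ := Subgroup.mem_zpowers_iff.1 hy
          first
            | (rw [← conj_zpow, hbδ]; exact zpow_mem (inv_mem (Subgroup.mem_zpowers δ)) i)
            | (rw [hbi, ← conj_zpow, hbδ]; exact zpow_mem (inv_mem (Subgroup.mem_zpowers δ)) i)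
    have hδT : δ ∈ Subgroup.zpowers b ⊔ Subgroup.zpowers δ :=
      Subgroup.mem_sup_right (Subgroup.mem_zpowers δ)
    have hbT : b ∈ Subgroup.zpowers b ⊔ Subgroup.zpowers δ :=
      Subgroup.mem_sup_left (Subgroup.mem_zpowers b)
    have hcomm : x' * b = b * x' :=
      h.commXY _ hT x' (hCX _ hx'C) (hx'δ ▸ mul_mem hδT hbT) b hbY hbT
    have hz : x' * b = δ := by rw [hx'δ, mul_assoc, hb2, mul_one]
    have hzne : x' * b ≠ 1 := fun he => hCne x' hx'C (h.sep _ (hCX _ hx'C) (by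
      rw [eq_inv_of_mul_eq_one_left he, hbi]; exact hbY))
    have hzC : cent (x' * b) ≠ ⊤ := h.nc x' (hCX _ hx'C) b hbY (hCsq _ hx'C) hb2 hcomm hzne
    have hδ2 : δ⁻¹ = δ := by
      refine inv_eq_self_of_sq ?_
      rw [← hz, Commute.mul_mul_mul_comm hcomm.symm, hCsq _ hx'C, hb2, one_mul]
    have hxC : x ∈ cent (x' * b) := by
      rw [hz]
      refine mem_cent.2 (mul_inv_eq_iff_eq_mul.1 ?_)
      rw [hδ, ← conj_pow, hxd, inv_pow, ← hδ, hδ2]
    have hbC : b ∈ cent (x' * b) := by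
      rw [hz]
      refine mem_cent.2 (mul_inv_eq_iff_eq_mul.1 ?_)
      rw [hbδ, hδ2]
    have hd2 : d * d ∈ core (x' * b) := by
      have h1 := h.loc _ hzC x (hCX x hx) hxC b hbY hbC
      rwa [commutatorElement_def, hxi, hbi, mul_assoc _ x b, ← hd] at h1
    have hw : x * x' = ((d * d) ^ t)⁻¹ := by
      rw [hx'eq, ← mul_assoc, ← pow_two, ← pow_mul]
      have h1 : x * d ^ (2 * t) * x⁻¹ = (d ^ (2 * t))⁻¹ := by rw [← conj_pow, hxd, inv_pow]
      rwa [hxi] at h1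
    have hwcore : x * x' ∈ core (x' * b) := hw ▸ inv_mem (pow_mem hd2 t)
    have hinv : x' * (x * x') * x'⁻¹ = (x * x')⁻¹ := by
      rw [mul_inv_rev, hxi, inv_eq_self_of_sq (hCsq _ hx'C)]
      rw [mul_assoc x', mul_assoc x x', hCsq _ hx'C, mul_one]
    obtain ⟨r, hr, hre, -⟩ := exists_inverted (odd_orderOf_of_mem (odd_card_core _) hwcore)
      (hCsq _ hx'C) hinv
    exact ⟨x', hx'C, mem_cent.2 hcomm, hre ▸ mem_br (Subgroup.zpowers_le.2 hwcore hr)⟩
  -- `K` normalises `Z`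
  have hCN : ∀ x ∈ C, x ∈ Subgroup.normalizer (Z : Set G) := by
    intro x hx
    obtain ⟨x', hx', hx'b, hr⟩ := hdih x hx
    obtain ⟨k, hk, hkr⟩ := hout x' hx' hx'b _ hr
    have h1 : x * x' ∈ Subgroup.normalizer (Z : Set G) := by
      have := mul_mem (mul_mem (inv_mem hk) (Subgroup.le_normalizer hkr.1)) hk
      rwa [show k⁻¹ * (k * (x * x') * k⁻¹) * k = x * x' by group] at this
    have := mul_mem h1 (inv_mem (hstep x' hx' 0 hx'b))
    rwa [mul_inv_cancel_right] at this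
  have hKZ : K ≤ Subgroup.normalizer (Z : Set G) := by
    rw [hK, Subgroup.normalClosure, Subgroup.closure_le]
    intro x hx
    obtain ⟨_, rfl, hconj⟩ := Group.mem_conjugatesOfSet_iff.1 hx
    obtain ⟨g, rfl⟩ := isConj_iff.1 hconj
    exact hCN _ (hC ▸ ⟨g, rfl⟩)
  have hcore : coreOf Z = ⊥ := odd_subgroup_eq_bot h.odd_bot (N := K)
    ((coreOf_le Z).trans (hZ ▸ inf_le_left))
    (hKZ.trans (Signalizer.normalizer_le_normalizer_coreOf Z))
    (Nat.coprime_two_right.1 (Signalizer.coprime_card_coreOf Z))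
  have hZW : Z ⊓ clos e f = ⊥ := by
    refine eq_bot_iff.2 (hcore ▸ Signalizer.le_coreOf inf_le_left (fun z hz => ?_)
      (Nat.coprime_two_right.2 (odd_card_of_le (hp.odd_card_clos h) inf_le_right)))
    refine mem_normalizer_inf (Subgroup.le_normalizer hz) ?_
    have := mem_norms.1 ((hZ.le hz).2) 1 (fun j => one_mem _)
    simpa [closAt] using this
  -- conclusion
  obtain ⟨x', hx', hx'b, hr⟩ := hdih (g₀ * e 0 * g₀⁻¹) (hC ▸ ⟨g₀, rfl⟩)
  obtain ⟨k, -, hkr⟩ := hout x' hx' hx'b _ hr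
  rw [hZW, Subgroup.mem_bot, conj_eq_one_iff] at hkr
  rw [eq_inv_of_mul_eq_one_left hkr, inv_eq_self_of_sq (hCsq x' hx')]
  exact mem_cent.1 hx'b

end Pair

end CfsgLib.ProductFusion
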