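import Cfsg.Agent.ProductFusion.Theorem
import Cfsg.Agent.Transfer.Residual

/-!
# Product fusion: the direct factorisation

If the Sylow 2-subgroup is the product of the two strongly closed factors and `O(G) = 1`, their
normal closures form a direct product and contain the factors as Sylow 2-subgroups.
-/

set_option autoImplicit false
set_option linter.style.haveILetI false
set_option linter.unusedSectionVars false

open scoped commutatorElement

namespace CfsgLib.ProductFusion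

universe u

variable {G : Type u} [Group G] [Finite G]

theorem closures_commute (hO : Cfsg.oddCore G = ⊥) (P : Sylow 2 G) {S₁ S₂ : Subgroup G}
    (h₁ : Cfsg.IsStronglyClosed S₁ (P : Subgroup G))
    (h₂ : Cfsg.IsStronglyClosed S₂ (P : Subgroup G))
    (hc : ∀ a ∈ S₁, ∀ b ∈ S₂, a * b = b * a) (hd : S₁ ⊓ S₂ = ⊥) :
    ∀ a ∈ Subgroup.normalClosure (S₁ : Set G), ∀ b ∈ Subgroup.normalClosure (S₂ : Set G),
      a * b = b * a := by
  intro a ha b hb
  have h := commutator_le_oddCore P h₁ h₂ hc hd (Subgroup.commutator_mem_commutator ha hb)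
  rwa [hO, Subgroup.mem_bot, commutatorElement_eq_one_iff_mul_comm] at h

theorem odd_relIndex_of_normal (P : Sylow 2 G) (N : Subgroup G) [N.Normal] :
    Odd ((P : Subgroup G).relIndex N) := by
  haveI : Fact (Nat.Prime 2) := ⟨Nat.prime_two⟩
  exact Nat.not_even_iff_odd.1 fun he =>
    Transfer.not_dvd_relIndex_of_normal P N (even_iff_two_dvd.1 he)

/-- The part of the other factor inside a closure is trivial. -/
theorem inf_eq_bot_of_transfer (hO : Cfsg.oddCore G = ⊥) (P : Sylow 2 G) {S₁ S₂ : Subgroup G}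
    (h₁ : Cfsg.IsStronglyClosed S₁ (P : Subgroup G))
    (h₂ : Cfsg.IsStronglyClosed S₂ (P : Subgroup G))
    (hc : ∀ a ∈ S₁, ∀ b ∈ S₂, a * b = b * a) (hd : S₁ ⊓ S₂ = ⊥)
    (hP : S₁ ⊔ S₂ = (P : Subgroup G)) :
    Subgroup.normalClosure (S₁ : Set G) ⊓ S₂ = ⊥ := by
  haveI : Fact (Nat.Prime 2) := ⟨Nat.prime_two⟩
  obtain ⟨N, hN⟩ : ∃ N, N = Subgroup.normalClosure (S₁ : Set G) := ⟨_, rfl⟩
  haveI : N.Normal := hN ▸ Subgroup.normalClosure_normal
  rw [← hN]
  obtain ⟨V, hV⟩ : ∃ V, V = (N ⊓ S₂).subgroupOf N := ⟨_, rfl⟩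
  -- `V` is central in `N`
  have hVc : ∀ v ∈ V, ∀ n : N, n * v = v * n := by
    intro v hv n
    rw [hV] at hv
    exact Subtype.ext (closures_commute hO P h₁ h₂ hc hd n (hN ▸ n.2) v
      (Subgroup.subset_normalClosure hv.2))
  have hsplit : ∀ t ∈ (P : Subgroup G), ∃ s ∈ S₁, ∃ v ∈ S₂, t = s * v := by
    intro t ht
    rw [← hP] at ht
    obtain ⟨s, hs, v, hv, rfl⟩ := Coprime.exists_mul_of_mem_sup (fun v hv => by
      refine mem_normalizer_of_conj_mem (fun s hs => ?_) (fun s hs => ?_)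
      · rw [← hc s hs v hv, mul_inv_cancel_right]; exact hs
      · rw [← hc s hs v⁻¹ (inv_mem hv), mul_inv_cancel_right]; exact hs) ht
    exact ⟨s, hs, v, hv, rfl⟩
  -- the projection
  obtain ⟨T, hT⟩ : ∃ T, T = (P : Subgroup G).subgroupOf N := ⟨_, rfl⟩
  have hproj : ∀ t : T, ∃ v : V, ((v : N) : G)⁻¹ * ((t : N) : G) ∈ S₁ := by
    intro t
    have ht : ((t : N) : G) ∈ (P : Subgroup G) := (hT.le t.2 :)
    obtain ⟨s, hs, v, hv, he⟩ := hsplit _ ht
    have hvN : v ∈ N := by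
      have := mul_mem (inv_mem (hN ▸ Subgroup.subset_normalClosure hs : s ∈ N)) (t : N).2
      rwa [he, inv_mul_cancel_left] at this
    refine ⟨⟨⟨v, hvN⟩, hV.ge ⟨hvN, hv⟩⟩, ?_⟩
    show v⁻¹ * ((t : N) : G) ∈ S₁
    rw [he, ← mul_assoc, ← hc s hs v⁻¹ (inv_mem hv), inv_mul_cancel_right]
    exact hs
  choose π hπ using hproj
  have huniq : ∀ (t : T) (v : V), ((v : N) : G)⁻¹ * ((t : N) : G) ∈ S₁ → π t = v := by
    intro t v hv
    have h1 : ((π t : N) : G)⁻¹ * ((v : N) : G) ∈ S₁ ⊓ S₂ := by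
      have hπv : ((π t : N) : G) ∈ S₂ := (hV.le (π t).2).2
      have hvv : ((v : N) : G) ∈ S₂ := (hV.le v.2).2
      refine ⟨?_, S₂.mul_mem (S₂.inv_mem hπv) hvv⟩
      have := mul_mem (hπ t) (inv_mem hv)
      rwa [show ((π t : N) : G)⁻¹ * ((t : N) : G) * (((v : N) : G)⁻¹ * ((t : N) : G))⁻¹ =
        ((π t : N) : G)⁻¹ * ((v : N) : G) by group] at this
    rw [hd, Subgroup.mem_bot, inv_mul_eq_one] at h1
    exact Subtype.ext (Subtype.ext h1)
  letI : CommGroup V := { (inferInstance : Group V) with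
    mul_comm := fun a b => Subtype.ext (hVc b b.2 a) }
  let φ : T →* V := MonoidHom.mk' π fun t t' => huniq _ _ (by
    have hv' : ((π t' : N) : G) ∈ S₂ := (hV.le (π t').2).2
    have e : (((π t * π t' : V) : N) : G)⁻¹ * (((t * t' : T) : N) : G) =
        (((π t : N) : G)⁻¹ * ((t : N) : G)) * (((π t' : N) : G)⁻¹ * ((t' : N) : G)) := by
      have h1 := hc _ (hπ t) _ (inv_mem hv')
      simp only [Subgroup.coe_mul, mul_inv_rev]
      calc ((π t' : N) : G)⁻¹ * ((π t : N) : G)⁻¹ * (((t : N) : G) * ((t' : N) : G))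
          = ((π t' : N) : G)⁻¹ * (((π t : N) : G)⁻¹ * ((t : N) : G)) * ((t' : N) : G) := by group
        _ = (((π t : N) : G)⁻¹ * ((t : N) : G)) * ((π t' : N) : G)⁻¹ * ((t' : N) : G) := by rw [h1]
        _ = _ := by group
    rw [e]
    exact mul_mem (hπ t) (hπ t'))
  have hker : N ≤ (MonoidHom.transfer φ).ker.map N.subtype := by
    conv_lhs => rw [hN]
    rw [Subgroup.normalClosure, Subgroup.closure_le]
    intro q hq
    obtain ⟨s, hs, hconj⟩ := Group.mem_conjugatesOfSet_iff.1 hq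
    obtain ⟨g, rfl⟩ := isConj_iff.1 hconj
    have hmem : g * s * g⁻¹ ∈ N :=
      (inferInstance : N.Normal).conj_mem _ (hN ▸ Subgroup.subset_normalClosure hs) g
    haveI : T.FiniteIndex := inferInstance
    letI := Fintype.ofFinite (Quotient (MulAction.orbitRel
      (Subgroup.zpowers (⟨g * s * g⁻¹, hmem⟩ : N)) (N ⧸ T)))
    refine ⟨⟨g * s * g⁻¹, hmem⟩, ?_, rfl⟩
    show MonoidHom.transfer φ _ = 1
    rw [MonoidHom.transfer_eq_prod_quotient_orbitRel_zpowers_quot]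
    refine Finset.prod_eq_one fun r _ => huniq _ 1 ?_
    simp only [OneMemClass.coe_one, inv_one, one_mul]
    refine mem_of_mem_cl h₁ ?_ (hT.le (QuotientGroup.out_conj_pow_minimalPeriod_mem T _ r.out) :)
    simp only [Subgroup.coe_mul, InvMemClass.coe_inv, SubmonoidClass.coe_pow]
    rw [conj_pow]
    have := conj_mem_cl (conj_mem_cl (mem_cl_self (pow_mem hs (Function.minimalPeriod
      ((⟨g * s * g⁻¹, hmem⟩ : N) • ·) r.out))) g) (((r.out).out : N) : G)⁻¹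
    rwa [inv_inv] at this
  refine eq_bot_iff.2 fun v hv => Subgroup.mem_bot.2 ?_
  obtain ⟨k, hk⟩ := P.isPGroup' ⟨v, h₂.1 hv.2⟩
  have hk' : v ^ 2 ^ k = 1 := by simpa using congrArg Subtype.val hk
  have hvV : (⟨v, hv.1⟩ : N) ∈ V := hV.ge hv
  have hvT : (⟨v, hv.1⟩ : N) ∈ T := hT.ge (h₂.1 hv.2)
  have h1 : MonoidHom.transfer φ ⟨v, hv.1⟩ = 1 := by
    obtain ⟨w, hw, he⟩ := hker hv.1
    rw [show (⟨v, hv.1⟩ : N) = w from Subtype.ext he.symm]
    exact MonoidHom.mem_ker.1 hw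
  rw [MonoidHom.transfer_eq_pow φ _ fun i g hg => by
    rw [mul_assoc, ← hVc _ (V.pow_mem hvV i) g, ← mul_assoc, inv_mul_cancel, one_mul]] at h1
  have h2 : φ ⟨(⟨v, hv.1⟩ : N) ^ T.index, pow_mem hvT _⟩ =
      ⟨(⟨v, hv.1⟩ : N) ^ T.index, pow_mem hvV _⟩ := huniq _ _ (by simp)
  have h3 : v ^ T.index = 1 := by
    simpa using congrArg (fun z : V => ((z : N) : G)) (h2.symm.trans h1)
  have hodd : Odd T.index := hT ▸ odd_relIndex_of_normal P N
  have hcop : Nat.Coprime T.index (2 ^ k) :=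
    Nat.Coprime.pow_right _ (Nat.coprime_two_right.2 hodd)
  exact orderOf_eq_one_iff.1 (Nat.eq_one_of_dvd_coprimes hcop (orderOf_dvd_of_pow_eq_one h3)
    (orderOf_dvd_of_pow_eq_one hk'))

theorem inf_closure_eq (hO : Cfsg.oddCore G = ⊥) (P : Sylow 2 G) {S₁ S₂ : Subgroup G}
    (h₁ : Cfsg.IsStronglyClosed S₁ (P : Subgroup G))
    (h₂ : Cfsg.IsStronglyClosed S₂ (P : Subgroup G))
    (hc : ∀ a ∈ S₁, ∀ b ∈ S₂, a * b = b * a) (hd : S₁ ⊓ S₂ = ⊥)
    (hP : S₁ ⊔ S₂ = (P : Subgroup G)) :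
    (P : Subgroup G) ⊓ Subgroup.normalClosure (S₁ : Set G) = S₁ := by
  refine le_antisymm (fun t ht => ?_) (le_inf h₁.1 Subgroup.le_normalClosure)
  obtain ⟨s, hs, v, hv, rfl⟩ := Coprime.exists_mul_of_mem_sup (fun v hv => by
    refine mem_normalizer_of_conj_mem (fun s hs => ?_) (fun s hs => ?_)
    · rw [← hc s hs v hv, mul_inv_cancel_right]; exact hs
    · rw [← hc s hs v⁻¹ (inv_mem hv), mul_inv_cancel_right]; exact hs) (hP ▸ ht.1 : _ ∈ S₁ ⊔ S₂)
  have hvN : v ∈ Subgroup.normalClosure (S₁ : Set G) := by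
    have := mul_mem (inv_mem (Subgroup.subset_normalClosure hs : s ∈ _)) ht.2
    rwa [inv_mul_cancel_left] at this
  have hv1 : v ∈ Subgroup.normalClosure (S₁ : Set G) ⊓ S₂ := ⟨hvN, hv⟩
  rw [inf_eq_bot_of_transfer hO P h₁ h₂ hc hd hP, Subgroup.mem_bot] at hv1
  rw [hv1, mul_one]; exact hs

/-- The direct factorisation. -/
theorem direct_product (hO : Cfsg.oddCore G = ⊥) (P : Sylow 2 G) {S₁ S₂ : Subgroup G}
    (h₁ : Cfsg.IsStronglyClosed S₁ (P : Subgroup G))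
    (h₂ : Cfsg.IsStronglyClosed S₂ (P : Subgroup G))
    (hc : ∀ a ∈ S₁, ∀ b ∈ S₂, a * b = b * a) (hd : S₁ ⊓ S₂ = ⊥)
    (hP : S₁ ⊔ S₂ = (P : Subgroup G)) (hidx : ∀ N : Subgroup G, N.Normal → Odd N.index → N = ⊤) :
    Cfsg.IsInternalDirectProduct (Subgroup.normalClosure (S₁ : Set G))
        (Subgroup.normalClosure (S₂ : Set G)) ⊤ ∧
      Odd (S₁.relIndex (Subgroup.normalClosure (S₁ : Set G))) ∧
      Odd (S₂.relIndex (Subgroup.normalClosure (S₂ : Set G))) := by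
  haveI : Fact (Nat.Prime 2) := ⟨Nat.prime_two⟩
  have hcomm := closures_commute hO P h₁ h₂ hc hd
  have hc' : ∀ a ∈ S₂, ∀ b ∈ S₁, a * b = b * a := fun a ha b hb => (hc b hb a ha).symm
  have hd' : S₂ ⊓ S₁ = ⊥ := by rwa [inf_comm]
  have hP' : S₂ ⊔ S₁ = (P : Subgroup G) := by rwa [sup_comm]
  obtain ⟨N₁, hN₁⟩ : ∃ N, N = Subgroup.normalClosure (S₁ : Set G) := ⟨_, rfl⟩
  obtain ⟨N₂, hN₂⟩ : ∃ N, N = Subgroup.normalClosure (S₂ : Set G) := ⟨_, rfl⟩
  have e₁ := inf_closure_eq hO P h₁ h₂ hc hd hP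
  have e₂ := inf_closure_eq hO P h₂ h₁ hc' hd' hP'
  rw [← hN₁] at e₁ hcomm ⊢
  rw [← hN₂] at e₂ hcomm ⊢
  haveI : N₁.Normal := hN₁ ▸ Subgroup.normalClosure_normal
  haveI : N₂.Normal := hN₂ ▸ Subgroup.normalClosure_normal
  have o₁ : Odd (S₁.relIndex N₁) := by
    have := odd_relIndex_of_normal P N₁
    rwa [← Subgroup.inf_relIndex_right, e₁] at this
  have o₂ : Odd (S₂.relIndex N₂) := by
    have := odd_relIndex_of_normal P N₂
    rwa [← Subgroup.inf_relIndex_right, e₂] at this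
  refine ⟨⟨le_top, le_top, hcomm, ?_, ?_⟩, o₁, o₂⟩
  · -- the intersection has odd order
    have hle : (P : Subgroup G) ⊓ (N₁ ⊓ N₂) = ⊥ := by
      rw [← le_bot_iff, ← hd]
      exact le_inf ((inf_le_inf_left _ inf_le_left).trans e₁.le)
        ((inf_le_inf_left _ inf_le_right).trans e₂.le)
    have hodd : Odd (Nat.card (N₁ ⊓ N₂ : Subgroup G)) := by
      have h := odd_relIndex_of_normal P (N₁ ⊓ N₂)
      rwa [← Subgroup.inf_relIndex_right, hle, Subgroup.relIndex_bot_left] at h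
    exact eq_bot_iff.2 (hO ▸ LocalEven50.le_pPrimeCore (inferInstance : (N₁ ⊓ N₂).Normal)
      (Nat.coprime_two_right.2 hodd))
  · refine hidx _ inferInstance (Odd.of_dvd_nat ?_ (Subgroup.index_dvd_of_le
      (hP ▸ sup_le (le_trans (hN₁ ▸ Subgroup.le_normalClosure) le_sup_left)
        (le_trans (hN₂ ▸ Subgroup.le_normalClosure) le_sup_right) :
        (P : Subgroup G) ≤ N₁ ⊔ N₂)))
    exact Nat.not_even_iff_odd.1 fun he => P.not_dvd_index (even_iff_two_dvd.1 he)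

end CfsgLib.ProductFusion
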