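import Cfsg.Agent.ProductFusion.Triples
import Cfsg.Agent.S0217

/-!
# Product fusion: the signalizer functor of a pair of four-groups and its closure

For commuting triples `e ⊆ X`, `f ⊆ Y` the subgroup `W e f` generated by all
`O(C (e i)) ⊓ O(C (f j))` has odd order.  It depends only on one member of `e` and the whole of
`f`, and is normalised by every `O(C (f j))`.
-/

set_option autoImplicit false
set_option linter.style.haveILetI false
set_option linter.unusedSectionVars false

namespace CfsgLib.ProductFusion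

universe u

variable {G : Type u} [Group G]

theorem le_comap_conj_of_normalizer {H : Subgroup G} {g : G}
    (hg : g ∈ Subgroup.normalizer (H : Set G)) : H ≤ H.comap (MulAut.conj g).toMonoidHom :=
  fun _ hx => conj_mem_of_normalizer hg hx

theorem mem_normalizer_of_conj_mem {H : Subgroup G} {g : G} (h : ∀ x ∈ H, g * x * g⁻¹ ∈ H)
    (h' : ∀ x ∈ H, g⁻¹ * x * g⁻¹⁻¹ ∈ H) : g ∈ Subgroup.normalizer (H : Set G) :=
  Subgroup.mem_normalizer_iff.2 fun x => ⟨h x, fun hx => by simpa [mul_assoc] using h' _ hx⟩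

theorem mem_normalizer_sup {H K : Subgroup G} {g : G} (hH : g ∈ Subgroup.normalizer (H : Set G))
    (hK : g ∈ Subgroup.normalizer (K : Set G)) :
    g ∈ Subgroup.normalizer ((H ⊔ K : Subgroup G) : Set G) := by
  have key : ∀ g : G, g ∈ Subgroup.normalizer (H : Set G) → g ∈ Subgroup.normalizer (K : Set G) →
      H ⊔ K ≤ (H ⊔ K).comap (MulAut.conj g).toMonoidHom := fun g hH hK =>
    sup_le ((le_comap_conj_of_normalizer hH).trans (Subgroup.comap_mono le_sup_left))
      ((le_comap_conj_of_normalizer hK).trans (Subgroup.comap_mono le_sup_right))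
  exact mem_normalizer_of_conj_mem (fun _ hx => key g hH hK hx)
    (fun _ hx => key g⁻¹ (inv_mem hH) (inv_mem hK) hx)

theorem mem_normalizer_iSup {ι : Sort*} {H : ι → Subgroup G} {g : G}
    (hH : ∀ i, g ∈ Subgroup.normalizer (H i : Set G)) :
    g ∈ Subgroup.normalizer ((⨆ i, H i : Subgroup G) : Set G) := by
  have key : ∀ g : G, (∀ i, g ∈ Subgroup.normalizer (H i : Set G)) →
      (⨆ i, H i) ≤ (⨆ i, H i).comap (MulAut.conj g).toMonoidHom := fun g hH =>
    iSup_le fun i => (le_comap_conj_of_normalizer (hH i)).trans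
      (Subgroup.comap_mono (le_iSup H i))
  exact mem_normalizer_of_conj_mem (fun _ hx => key g hH hx)
    (fun _ hx => key g⁻¹ (fun i => inv_mem (hH i)) hx)

/-- Conjugation carries cores to cores. -/
theorem core_conj [Finite G] {a x : G} (g : G) (hx : x ∈ core a) :
    g * x * g⁻¹ ∈ core (g * a * g⁻¹) := by
  have h1 : (core a).map (MulAut.conj g).toMonoidHom ≤ core (g * a * g⁻¹) := by
    refine Signalizer.le_coreOf ?_ ?_ ?_
    · rintro _ ⟨y, hy, rfl⟩
      refine mem_cent.2 ?_
      show g * y * g⁻¹ * (g * a * g⁻¹) = g * a * g⁻¹ * (g * y * g⁻¹)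
      rw [conj_mul, conj_mul, mem_cent.1 (core_le_cent a hy)]
    · have key : ∀ c ∈ cent (g * a * g⁻¹), ∀ z ∈ (core a).map (MulAut.conj g).toMonoidHom,
          c * z * c⁻¹ ∈ (core a).map (MulAut.conj g).toMonoidHom := by
        rintro c hc _ ⟨y, hy, rfl⟩
        have hc' : g⁻¹ * c * g ∈ cent a := by
          refine mem_cent.2 ?_
          calc g⁻¹ * c * g * a = g⁻¹ * (c * (g * a * g⁻¹)) * g := by group
            _ = g⁻¹ * (g * a * g⁻¹ * c) * g := by rw [mem_cent.1 hc]
            _ = a * (g⁻¹ * c * g) := by group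
        refine ⟨(g⁻¹ * c * g) * y * (g⁻¹ * c * g)⁻¹, conj_core_mem hc' hy, ?_⟩
        show g * ((g⁻¹ * c * g) * y * (g⁻¹ * c * g)⁻¹) * g⁻¹ = c * (g * y * g⁻¹) * c⁻¹
        group
      exact fun c hc => mem_normalizer_of_conj_mem (key c hc) (key c⁻¹ (inv_mem hc))
    · rw [Subgroup.card_map_of_injective (MulAut.conj g).injective]
      exact Signalizer.coprime_card_coreOf _
  exact h1 ⟨x, hx, rfl⟩

theorem dlt_conj [Finite G] {a b x : G} (g : G) (hx : x ∈ dlt a b) :
    g * x * g⁻¹ ∈ dlt (g * a * g⁻¹) (g * b * g⁻¹) :=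
  ⟨core_conj g hx.1, core_conj g hx.2⟩

/-! ### Pairs of triples -/

/-- Two commuting triples. -/
structure Pair (X Y : Set G) (e f : Fin 3 → G) : Prop where
  left : Triple X e
  right : Triple Y f
  comm : ∀ i j, e i * f j = f j * e i

theorem Pair.symm {X Y : Set G} {e f : Fin 3 → G} (hp : Pair X Y e f) : Pair Y X f e :=
  ⟨hp.right, hp.left, fun i j => (hp.comm j i).symm⟩

/-- The join of all the intersections. -/
def clos (e f : Fin 3 → G) : Subgroup G := ⨆ i, ⨆ j, dlt (e i) (f j)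

/-- The signalizer. -/
def theta (e f : Fin 3 → G) (g : G) : Subgroup G := ⨆ i, ⨆ j, dlt (e i) (f j) ⊓ cent g

theorem clos_symm [Finite G] (e f : Fin 3 → G) : clos f e = clos e f := by
  rw [clos, clos, iSup_comm]
  exact iSup_congr fun i => iSup_congr fun j => dlt_comm _ _

theorem theta_symm [Finite G] (e f : Fin 3 → G) (g : G) : theta f e g = theta e f g := by
  rw [theta, theta, iSup_comm]
  exact iSup_congr fun i => iSup_congr fun j => by rw [dlt_comm]

theorem clos_eq_col (e f : Fin 3 → G) : clos e f = ⨆ j, col e (f j) := by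
  rw [clos, iSup_comm]; rfl

theorem dlt_le_clos (e f : Fin 3 → G) (i j : Fin 3) : dlt (e i) (f j) ≤ clos e f :=
  le_iSup_of_le i (le_iSup (fun j => dlt (e i) (f j)) j)

theorem le_theta (e f : Fin 3 → G) (g : G) (i j : Fin 3) :
    dlt (e i) (f j) ⊓ cent g ≤ theta e f g :=
  le_iSup_of_le i (le_iSup (fun j => dlt (e i) (f j) ⊓ cent g) j)

theorem theta_le_cent (e f : Fin 3 → G) (g : G) : theta e f g ≤ cent g :=
  iSup_le fun _ => iSup_le fun _ => inf_le_right

/-- The elements of the four-groups' product other than the identity. -/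
def IsLab (e f : Fin 3 → G) (g : G) : Prop :=
  (∃ i, g = e i) ∨ (∃ j, g = f j) ∨ ∃ i j, g = e i * f j

variable [Finite G] {X Y : Set G} {e f : Fin 3 → G}

namespace Pair

theorem mem_cent_right (hp : Pair X Y e f) (i j : Fin 3) : e i ∈ cent (f j) :=
  mem_cent.2 (hp.comm i j)

theorem mem_cent_left (hp : Pair X Y e f) (i j : Fin 3) : f j ∈ cent (e i) :=
  mem_cent.2 (hp.comm i j).symm

theorem isLab_symm (hp : Pair X Y e f) {g : G} (hg : IsLab e f g) : IsLab f e g := by
  rcases hg with ⟨i, rfl⟩ | ⟨j, rfl⟩ | ⟨i, j, rfl⟩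
  · exact Or.inr (Or.inl ⟨i, rfl⟩)
  · exact Or.inl ⟨j, rfl⟩
  · exact Or.inr (Or.inr ⟨j, i, hp.comm i j⟩)

theorem left_mem_cent_lab (hp : Pair X Y e f) {g : G} (hg : IsLab e f g) (k : Fin 3) :
    e k ∈ cent g := by
  rcases hg with ⟨i, rfl⟩ | ⟨j, rfl⟩ | ⟨i, j, rfl⟩
  · exact hp.left.mem_cent_of k i
  · exact hp.mem_cent_right k j
  · exact mem_cent_symm (mul_mem (hp.left.mem_cent_of i k) (hp.mem_cent_left k j))

theorem right_mem_cent_lab (hp : Pair X Y e f) {g : G} (hg : IsLab e f g) (l : Fin 3) :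
    f l ∈ cent g :=
  hp.symm.left_mem_cent_lab (hp.isLab_symm hg) l

theorem mul_ne_one (h : Ctx X Y) (hp : Pair X Y e f) (i j : Fin 3) : e i * f j ≠ 1 := by
  intro he
  refine hp.left.ne i (h.sep _ (hp.left.mem i) ?_)
  rw [eq_inv_of_mul_eq_one_left he, hp.right.inv]
  exact hp.right.mem j

theorem cent_mul_ne_top (h : Ctx X Y) (hp : Pair X Y e f) (i j : Fin 3) :
    cent (e i * f j) ≠ ⊤ :=
  h.nc _ (hp.left.mem i) _ (hp.right.mem j) (hp.left.sq i) (hp.right.sq j) (hp.comm i j)
    (hp.mul_ne_one h i j)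

theorem cent_lab_ne_top (h : Ctx X Y) (hp : Pair X Y e f) {g : G} (hg : IsLab e f g) :
    cent g ≠ ⊤ := by
  rcases hg with ⟨i, rfl⟩ | ⟨j, rfl⟩ | ⟨i, j, rfl⟩
  · exact h.cent_ne_top_left (hp.left.mem i) (hp.left.sq i) (hp.left.ne i)
  · exact h.cent_ne_top_right (hp.right.mem j) (hp.right.sq j) (hp.right.ne j)
  · exact hp.cent_mul_ne_top h i j

theorem theta_le_core (h : Ctx X Y) (hp : Pair X Y e f) {g : G} (hg : IsLab e f g) :
    theta e f g ≤ core g :=
  iSup_le fun i => iSup_le fun j => fun _ hx =>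
    h.balance (hp.left.mem i) (hp.left.sq i) (hp.right.mem j) (hp.right.sq j) (hp.comm i j)
      (hp.cent_lab_ne_top h hg) (hp.left_mem_cent_lab hg i) (hp.right_mem_cent_lab hg j) hx.1.1
      hx.1.2 hx.2

theorem dlt_inf_left (h : Ctx X Y) (hp : Pair X Y e f) {i k j : Fin 3} {x : G}
    (hx : x ∈ dlt (e k) (f j)) (hxi : x ∈ cent (e i)) : x ∈ dlt (e i) (f j) :=
  h.dlt_inf_le hp.left (hp.right.mem j) (hp.right.sq j) (fun i => hp.comm i j) hx hxi

theorem dlt_inf_right (h : Ctx X Y) (hp : Pair X Y e f) {i j l : Fin 3} {x : G}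
    (hx : x ∈ dlt (e i) (f j)) (hxl : x ∈ cent (f l)) : x ∈ dlt (e i) (f l) := by
  rw [dlt_comm] at hx ⊢
  exact hp.symm.dlt_inf_left h.symm hx hxl

theorem theta_left_eq (h : Ctx X Y) (hp : Pair X Y e f) (k : Fin 3) :
    theta e f (e k) = col f (e k) := by
  refine le_antisymm (iSup_le fun i => iSup_le fun j => fun x hx => ?_)
    (iSup_le fun j => fun x hx => ?_)
  · refine dlt_le_col f (e k) j ?_
    rw [dlt_comm]
    exact hp.dlt_inf_left h hx.1 hx.2
  · rw [dlt_comm] at hx
    exact le_theta e f (e k) k j ⟨hx, core_le_cent _ hx.1⟩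

theorem theta_right_eq (h : Ctx X Y) (hp : Pair X Y e f) (l : Fin 3) :
    theta e f (f l) = col e (f l) := by
  rw [← theta_symm]; exact hp.symm.theta_left_eq h.symm l

/-- `x` and `y` generate the same commutators on elements centralising their product. -/
theorem br_core_mul_le {a b : G} (hab : a * b = b * a) (ha : a * a = 1) :
    br (core (a * b)) a ≤ br (core (a * b)) b := by
  rw [br, Subgroup.closure_le]
  rintro _ ⟨q, hq, rfl⟩
  have hqu : q * (a * b) = a * b * q := mem_cent.1 (core_le_cent _ hq)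
  have h1 : b * q * b⁻¹ = a * q * a⁻¹ := by
    calc b * q * b⁻¹ = a * (a * b) * q * (a * (a * b))⁻¹ := by rw [← mul_assoc, ha, one_mul]
      _ = a * ((a * b) * q) * (a * b)⁻¹ * a⁻¹ := by group
      _ = a * (q * (a * b)) * (a * b)⁻¹ * a⁻¹ := by rw [hqu]
      _ = a * q * a⁻¹ := by group
  rw [← h1]
  exact mem_br hq

/-- The subgroup attached to a mixed involution. -/
abbrev mixed (e f : Fin 3 → G) (i j : Fin 3) : Subgroup G :=
  br (core (e i * f j)) (e i) ⊔ dlt (e i) (f j)

theorem isLab_mul (e f : Fin 3 → G) (i j : Fin 3) : IsLab e f (e i * f j) :=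
  Or.inr (Or.inr ⟨i, j, rfl⟩)

theorem mixed_le_core (h : Ctx X Y) (hp : Pair X Y e f) (i j : Fin 3) :
    mixed e f i j ≤ core (e i * f j) := by
  refine sup_le (br_le (core_normalized (hp.left_mem_cent_lab (isLab_mul e f i j) i))) fun x hx => ?_
  refine hp.theta_le_core h (isLab_mul e f i j) (le_theta e f _ i j ⟨hx, ?_⟩)
  exact mem_cent_symm (mul_mem (mem_cent_symm (core_le_cent _ hx.1))
    (mem_cent_symm (core_le_cent _ hx.2)))

theorem br_mixed_inf (h : Ctx X Y) (hp : Pair X Y e f) (i j : Fin 3) {x : G}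
    (hx : x ∈ br (core (e i * f j)) (e i)) (hxi : x ∈ cent (e i)) : x ∈ core (e i) := by
  have hn : ∀ k, e k ∈ Subgroup.normalizer ((core (e i * f j) : Subgroup G) : Set G) :=
    fun k => core_normalized (hp.left_mem_cent_lab (isLab_mul e f i j) k)
  refine h.mem_core_side (hp.left.mem i) (hp.left.sq i) (hp.left.ne i) (hp.right.mem j)
    (hp.right.sq j) (hp.comm i j) (D := core (e i * f j) ⊓ cent (e i))
    (odd_card_of_le (odd_card_core (e i * f j)) inf_le_left) inf_le_right
    (fun g hg => mem_normalizer_inf (core_normalized ?_) (cent_normalized hg.1))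
    ⟨br_le (hn i) hx, hxi⟩ (h.br_le_cen hp.left (odd_card_core _) hn hx hxi)
  exact mem_cent_symm (mul_mem (mem_cent_symm hg.1) (mem_cent_symm hg.2))

theorem mixed_inf (h : Ctx X Y) (hp : Pair X Y e f) (i j : Fin 3) {x : G}
    (hx : x ∈ mixed e f i j) (hxi : x ∈ cent (e i)) : x ∈ dlt (e i) (f j) := by
  have hd : ∀ d ∈ dlt (e i) (f j), d ∈ cent (e i * f j) := fun d hd =>
    core_le_cent _ (hp.mixed_le_core h i j (Subgroup.mem_sup_right hd))
  obtain ⟨w, hw, d, hdD, rfl⟩ := Coprime.exists_mul_of_mem_sup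
    (fun d (hdD : d ∈ dlt (e i) (f j)) =>
      conj_br (core_normalized (hd d hdD)) (core_le_cent _ hdD.1)) hx
  have hwi : w ∈ cent (e i) := by
    have := mul_mem hxi (inv_mem (core_le_cent _ hdD.1))
    rwa [mul_inv_cancel_right] at this
  have hwu : w ∈ cent (e i * f j) :=
    core_le_cent _ (hp.mixed_le_core h i j (Subgroup.mem_sup_left hw))
  have hwj : w ∈ cent (f j) := by
    have := mem_cent_symm (mul_mem (inv_mem (mem_cent_symm hwi)) (mem_cent_symm hwu))
    rwa [inv_mul_cancel_left] at this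
  refine mul_mem ⟨hp.br_mixed_inf h i j hw hwi, ?_⟩ hdD
  refine hp.symm.br_mixed_inf h.symm j i ?_ hwj
  rw [← hp.comm i j]
  exact br_core_mul_le (hp.comm i j) (hp.left.sq i) hw

theorem theta_le_mixed (h : Ctx X Y) (hp : Pair X Y e f) (p q : Fin 3) :
    theta e f (e p * f q) ≤ mixed e f p q := by
  refine iSup_le fun i => iSup_le fun j => fun x hx => ?_
  have hlab := isLab_mul e f p q
  have hle : dlt (e i) (f j) ⊓ cent (e p * f q) ≤ core (e p * f q) :=
    (le_theta e f _ i j).trans (hp.theta_le_core h hlab)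
  obtain ⟨w, hw, hxw, hxwD, -, -⟩ := exists_split (odd_card_of_le (odd_card_core _) hle)
    (hp.left.sq p) (mem_normalizer_inf
      (dlt_normalized (hp.left.mem_cent_of p i) (hp.mem_cent_right p j))
      (cent_normalized (hp.left_mem_cent_lab hlab p))) hx
  have hb : x * w ∈ cent (f q) := by
    have := mem_cent_symm (mul_mem (inv_mem (mem_cent_symm hxw)) (mem_cent_symm hxwD.2))
    rwa [inv_mul_cancel_left] at this
  have h1 : x * w ∈ mixed e f p q :=
    Subgroup.mem_sup_right (hp.dlt_inf_right h (hp.dlt_inf_left h hxwD.1 hxw) hb)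
  have := mul_mem h1 (inv_mem (Subgroup.mem_sup_left (br_mono hle _ hw) : w ∈ mixed e f p q))
  rwa [mul_inv_cancel_right] at this

theorem mixed_meet (h : Ctx X Y) (hp : Pair X Y e f) {p q k l : Fin 3} {x : G}
    (hx : x ∈ mixed e f p q) (hxk : x ∈ cent (e k)) (hxl : x ∈ cent (f l)) :
    x ∈ dlt (e k) (f l) := by
  have hlab := isLab_mul e f p q
  have hxu := hp.mixed_le_core h p q hx
  have hodd := odd_card_core (e p * f q)
  obtain ⟨w, hw, hxw, hxwD, hinv, hwc⟩ :=
    exists_split hodd (hp.left.sq p) (core_normalized (hp.left_mem_cent_lab hlab p)) hxu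
  have hwk : w ∈ cent (e k) := hwc _ hxk (hp.left.mem_cent_of p k)
  have hwl : w ∈ cent (f l) := hwc _ hxl (hp.mem_cent_right p l)
  have hxwM : x * w ∈ mixed e f p q := mul_mem hx (Subgroup.mem_sup_left hw)
  have hxw' : x * w ∈ dlt (e k) (f l) :=
    hp.dlt_inf_right h (hp.dlt_inf_left h (hp.mixed_inf h p q hxwM hxw) (mul_mem hxk hwk))
      (mul_mem hxl hwl)
  have hwQ : w ∈ core (e p * f q) :=
    hp.mixed_le_core h p q (Subgroup.mem_sup_left hw)
  have hwodd := odd_orderOf_of_mem hodd hwQ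
  have hinv' : f q * w * (f q)⁻¹ = w⁻¹ := by
    have hwu : w * (e p * f q) = e p * f q * w := mem_cent.1 (core_le_cent _ hwQ)
    calc f q * w * (f q)⁻¹ = (e p)⁻¹ * ((e p * f q) * w) * (f q)⁻¹ := by group
      _ = (e p)⁻¹ * (w * (e p * f q)) * (f q)⁻¹ := by rw [hwu]
      _ = (e p)⁻¹ * w * e p := by group
      _ = e p * w * (e p)⁻¹ := by simp only [hp.left.inv]
      _ = _ := hinv
  obtain ⟨s, hs, -, hse⟩ := exists_inverted hwodd (hp.left.sq p) hinv
  obtain ⟨t, ht, -, hte⟩ := exists_inverted hwodd (hp.right.sq q) hinv'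
  have hwmem : ∀ {g : G}, w ∈ cent g → ∀ {r : G}, r ∈ Subgroup.zpowers w → r⁻¹ ∈ cent g :=
    fun hg _ hr => inv_mem (Subgroup.zpowers_le.2 hg hr)
  have hk : w ∈ core (e k) :=
    h.mem_core_of_cen (h.cent_ne_top_left (hp.left.mem k) (hp.left.sq k) (hp.left.ne k))
      (hp.left.mem p) (hp.left.mem_cent_of p k) (hp.right.mem q) (hp.mem_cent_left k q) hwk hwodd
      (hwmem hwk hs) (hwmem hwk ht) hse hte
  have hl : w ∈ core (f l) :=
    h.symm.mem_core_of_cen (h.cent_ne_top_right (hp.right.mem l) (hp.right.sq l) (hp.right.ne l))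
      (hp.right.mem q) (hp.right.mem_cent_of q l) (hp.left.mem p) (hp.mem_cent_right p l) hwl hwodd
      (hwmem hwl ht) (hwmem hwl hs) hte hse
  have := mul_mem hxw' (inv_mem (⟨hk, hl⟩ : w ∈ dlt (e k) (f l)))
  rwa [mul_inv_cancel_right] at this

theorem mixed_normalized (hp : Pair X Y e f) {p q : Fin 3} {g : G} (hga : g ∈ cent (e p))
    (hgb : g ∈ cent (f q)) : g ∈ Subgroup.normalizer ((mixed e f p q : Subgroup G) : Set G) :=
  mem_normalizer_sup
    (conj_br (core_normalized (mem_cent_symm (mul_mem (mem_cent_symm hga) (mem_cent_symm hgb))))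
      hga)
    (dlt_normalized hga hgb)

theorem mixed_le_clos (h : Ctx X Y) (hp : Pair X Y e f) (p q : Fin 3) :
    mixed e f p q ≤ clos e f := by
  have hodd := odd_card_of_le (odd_card_core _) (hp.mixed_le_core h p q)
  refine le_of_fixed_le hp.left hodd
    (fun i => hp.mixed_normalized (hp.left.mem_cent_of i p) (hp.mem_cent_right i q))
    fun k x hx hxk => ?_
  have hle : mixed e f p q ⊓ cent (e k) ≤ clos e f :=
    le_of_fixed_le hp.right (odd_card_of_le hodd inf_le_left)
      (fun l => mem_normalizer_inf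
        (hp.mixed_normalized (hp.mem_cent_left p l) (hp.right.mem_cent_of l q))
        (cent_normalized (hp.mem_cent_left k l)))
      fun l y hy hyl => dlt_le_clos e f k l (hp.mixed_meet h hy.1 hy.2 hyl)
  exact hle ⟨hx, hxk⟩

theorem theta_normalized (hp : Pair X Y e f) {g c : G} (hg : c ∈ cent g)
    (he : ∀ i, c ∈ cent (e i)) (hf : ∀ j, c ∈ cent (f j)) :
    c ∈ Subgroup.normalizer (theta e f g : Set G) :=
  mem_normalizer_iSup fun i => mem_normalizer_iSup fun j =>
    mem_normalizer_inf (dlt_normalized (he i) (hf j)) (cent_normalized hg)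

theorem theta_inf_left (h : Ctx X Y) (hp : Pair X Y e f) {g : G} (hg : IsLab e f g) {k : Fin 3}
    {x : G} (hx : x ∈ theta e f g) (hxk : x ∈ cent (e k)) : x ∈ theta e f (e k) := by
  have hdlt : ∀ {y : G} {l : Fin 3}, y ∈ dlt (e k) (f l) → y ∈ theta e f (e k) :=
    fun hy => le_theta e f (e k) k _ ⟨hy, core_le_cent _ hy.1⟩
  have hgen : ∀ g', IsLab e f g' → (∀ l, ∀ y ∈ theta e f g', y ∈ cent (e k) → y ∈ cent (f l) →
      y ∈ dlt (e k) (f l)) → theta e f g' ⊓ cent (e k) ≤ theta e f (e k) := fun g' hg' hy =>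
    le_of_fixed_le hp.right
      (odd_card_of_le (odd_card_core g') (inf_le_left.trans (hp.theta_le_core h hg')))
      (fun l => mem_normalizer_inf
        (hp.theta_normalized (hp.right_mem_cent_lab hg' l) (fun i => hp.mem_cent_left i l)
          (fun j => hp.right.mem_cent_of l j))
        (cent_normalized (hp.mem_cent_left k l)))
      fun l y hy' hyl => hdlt (hy l y hy'.1 hy'.2 hyl)
  rcases hg with ⟨i, rfl⟩ | ⟨j, rfl⟩ | ⟨p, q, rfl⟩
  · refine hgen _ (Or.inl ⟨i, rfl⟩) (fun l y hy hyk hyl => ?_) ⟨hx, hxk⟩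
    rw [hp.theta_left_eq h] at hy
    have h1 := h.symm.col_inf_le hp.right (hp.left.mem i) (hp.left.sq i)
      (fun j => (hp.comm i j).symm) hy hyl
    rw [dlt_comm] at h1
    exact hp.dlt_inf_left h h1 hyk
  · rw [hp.theta_right_eq h] at hx
    exact hdlt (h.col_inf_le hp.left (hp.right.mem j) (hp.right.sq j) (fun i => hp.comm i j) hx hxk)
  · exact hgen _ (isLab_mul e f p q) (fun l y hy hyk hyl =>
      hp.mixed_meet h (hp.theta_le_mixed h p q hy) hyk hyl) ⟨hx, hxk⟩

theorem theta_inf_right (h : Ctx X Y) (hp : Pair X Y e f) {g : G} (hg : IsLab e f g) {l : Fin 3}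
    {x : G} (hx : x ∈ theta e f g) (hxl : x ∈ cent (f l)) : x ∈ theta e f (f l) := by
  rw [← theta_symm] at hx ⊢
  exact hp.symm.theta_inf_left h.symm (hp.isLab_symm hg) hx hxl

theorem theta_balance (h : Ctx X Y) (hp : Pair X Y e f) {g g' : G} (hg : IsLab e f g)
    (hg' : IsLab e f g') : theta e f g ⊓ cent g' ≤ theta e f g' := by
  have hB : ∀ k, theta e f (e k) ⊓ cent g' ≤ theta e f g' := fun k => by
    have hk : IsLab e f (e k) := Or.inl ⟨k, rfl⟩
    refine le_of_fixed_le hp.right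
      (odd_card_of_le (odd_card_core (e k)) (inf_le_left.trans (hp.theta_le_core h hk)))
      (fun l => mem_normalizer_inf
        (hp.theta_normalized (hp.right_mem_cent_lab hk l) (fun i => hp.mem_cent_left i l)
          (fun j => hp.right.mem_cent_of l j))
        (cent_normalized (hp.right_mem_cent_lab hg' l)))
      fun l y hy hyl => le_theta e f g' k l ⟨⟨hp.theta_le_core h hk hy.1, ?_⟩, hy.2⟩
    exact hp.theta_le_core h (Or.inr (Or.inl ⟨l, rfl⟩)) (hp.theta_inf_right h hk hy.1 hyl)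
  exact le_of_fixed_le hp.left
    (odd_card_of_le (odd_card_core g) (inf_le_left.trans (hp.theta_le_core h hg)))
    (fun k => mem_normalizer_inf
      (hp.theta_normalized (hp.left_mem_cent_lab hg k) (fun i => hp.left.mem_cent_of k i)
        (fun j => hp.mem_cent_right k j))
      (cent_normalized (hp.left_mem_cent_lab hg' k)))
    fun k y hy hyk => hB k ⟨hp.theta_inf_left h hg hy.1 hyk, hy.2⟩

end Pair

namespace Triple

/-- The four-group of a triple. -/
def grp (he : Triple X e) : Subgroup G where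
  carrier := {x | x = 1 ∨ ∃ i, x = e i}
  one_mem' := Or.inl rfl
  mul_mem' := by
    rintro x y (rfl | ⟨i, rfl⟩) hy
    · rwa [one_mul]
    · rcases hy with rfl | ⟨j, rfl⟩
      · rw [mul_one]; exact Or.inr ⟨i, rfl⟩
      · have h0 := he.prod 0
        have h1 := he.prod 1
        have h2 := he.prod 2
        fin_cases i <;> fin_cases j <;>
          first
            | exact Or.inl (he.sq _)
            | exact Or.inr ⟨2, h0⟩
            | exact Or.inr ⟨0, h1⟩
            | exact Or.inr ⟨1, h2⟩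
            | exact Or.inr ⟨2, (he.comm 1 0).trans h0⟩
            | exact Or.inr ⟨0, (he.comm 2 1).trans h1⟩
            | exact Or.inr ⟨1, (he.comm 0 2).trans h2⟩
  inv_mem' := by
    rintro x (rfl | ⟨i, rfl⟩)
    · rw [inv_one]; exact Or.inl rfl
    · rw [he.inv]; exact Or.inr ⟨i, rfl⟩

theorem mem_grp {he : Triple X e} {x : G} : x ∈ he.grp ↔ x = 1 ∨ ∃ i, x = e i := Iff.rfl

theorem injective (he : Triple X e) : Function.Injective e := by
  intro i j hij
  by_contra hne
  obtain ⟨k, hk⟩ : ∃ k, e i * e j = e k := by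
    fin_cases i <;> fin_cases j <;>
      first
        | exact absurd rfl hne
        | exact ⟨_, he.prod _⟩
        | exact ⟨_, (he.comm _ _).trans (he.prod _)⟩
  rw [hij, he.sq] at hk
  exact he.ne k hk.symm

theorem card_grp (he : Triple X e) : 4 ≤ Nat.card he.grp := by
  have hi : Function.Injective (fun o : Option (Fin 3) => (match o with
      | none => ⟨1, Or.inl rfl⟩
      | some i => ⟨e i, Or.inr ⟨i, rfl⟩⟩ : he.grp)) := by
    rintro (_ | i) (_ | j) hij
    · rfl
    · exact absurd (congrArg Subtype.val hij).symm (he.ne j)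
    · exact absurd (congrArg Subtype.val hij) (he.ne i)
    · exact congrArg some (he.injective (congrArg Subtype.val hij))
  have := Nat.card_le_card_of_injective _ hi
  rw [Nat.card_eq_fintype_card (α := Option (Fin 3))] at this
  simpa using this

end Triple

namespace Pair

theorem odd_card_clos (h : Ctx X Y) (hp : Pair X Y e f) : Odd (Nat.card (clos e f)) := by
  haveI : Fact (Nat.Prime 2) := ⟨Nat.prime_two⟩
  obtain ⟨E, hE⟩ : ∃ E, E = hp.left.grp ⊔ hp.right.grp := ⟨_, rfl⟩
  have hprod : ∀ x ∈ E, ∃ a ∈ hp.left.grp, ∃ b ∈ hp.right.grp, x = a * b := by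
    intro x hx
    rw [hE] at hx
    obtain ⟨a, ha, b, hb, rfl⟩ := Coprime.exists_mul_of_mem_sup (fun b hb => by
      refine mem_normalizer_of_conj_mem (fun a ha => ?_) (fun a ha => ?_) <;>
      · have hc : b * a = a * b := by
          rcases Triple.mem_grp.1 ha with rfl | ⟨i, rfl⟩
          · simp
          rcases Triple.mem_grp.1 hb with rfl | ⟨j, rfl⟩
          · simp
          exact (hp.comm i j).symm
        have hc' : Commute b a := hc
        first
          | (rw [hc, mul_inv_cancel_right]; exact ha)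
          | (rw [hc'.inv_left.eq, mul_inv_cancel_right]; exact ha)) hx
    exact ⟨a, ha, b, hb, rfl⟩
  have hlab : ∀ x ∈ E, x ≠ 1 → IsLab e f x := by
    intro x hx hx1
    obtain ⟨a, ha, b, hb, rfl⟩ := hprod x hx
    rcases Triple.mem_grp.1 ha with rfl | ⟨i, rfl⟩ <;>
      rcases Triple.mem_grp.1 hb with rfl | ⟨j, rfl⟩
    · simp at hx1
    · exact Or.inr (Or.inl ⟨j, one_mul _⟩)
    · exact Or.inl ⟨i, mul_one _⟩
    · exact Pair.isLab_mul e f i j
  have hcE : ∀ x ∈ E, (∀ i, x ∈ cent (e i)) ∧ ∀ j, x ∈ cent (f j) := by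
    intro x hx
    obtain ⟨a, ha, b, hb, rfl⟩ := hprod x hx
    constructor <;> intro k <;> refine mul_mem ?_ ?_
    · rcases Triple.mem_grp.1 ha with rfl | ⟨i, rfl⟩
      exacts [one_mem _, hp.left.mem_cent_of i k]
    · rcases Triple.mem_grp.1 hb with rfl | ⟨j, rfl⟩
      exacts [one_mem _, hp.mem_cent_left k j]
    · rcases Triple.mem_grp.1 ha with rfl | ⟨i, rfl⟩
      exacts [one_mem _, hp.mem_cent_right i k]
    · rcases Triple.mem_grp.1 hb with rfl | ⟨j, rfl⟩
      exacts [one_mem _, hp.right.mem_cent_of j k]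
  have hcomm : ∀ x ∈ E, ∀ y ∈ E, x * y = y * x := by
    intro x hx y hy
    refine mem_cent.1 ?_
    rcases eq_or_ne y 1 with rfl | hy1
    · exact mem_cent.2 (by simp)
    obtain ⟨a, ha, b, hb, rfl⟩ := hprod x hx
    refine mul_mem ?_ ?_
    · rcases Triple.mem_grp.1 ha with rfl | ⟨i, rfl⟩
      exacts [one_mem _, hp.left_mem_cent_lab (hlab y hy hy1) i]
    · rcases Triple.mem_grp.1 hb with rfl | ⟨j, rfl⟩
      exacts [one_mem _, hp.right_mem_cent_lab (hlab y hy hy1) j]
  have hexp : ∀ x ∈ E, x ^ 2 = 1 := by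
    intro x hx
    rcases eq_or_ne x 1 with rfl | hx1
    · exact one_pow 2
    rw [pow_two]
    rcases hlab x hx hx1 with ⟨i, rfl⟩ | ⟨j, rfl⟩ | ⟨i, j, rfl⟩
    · exact hp.left.sq i
    · exact hp.right.sq j
    · rw [Commute.mul_mul_mul_comm (hp.comm i j).symm, hp.left.sq, hp.right.sq, one_mul]
  have hdisj : ∀ x ∈ hp.left.grp, x ∈ hp.right.grp → x = 1 := by
    intro x hx hy
    rcases Triple.mem_grp.1 hx with rfl | ⟨i, rfl⟩
    · rfl
    rcases Triple.mem_grp.1 hy with hy | ⟨j, hj⟩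
    · exact hy
    · exact h.sep _ (hp.left.mem i) (hj ▸ hp.right.mem j)
  have hrank : 2 ^ 3 ≤ Nat.card E := by
    have hi : Function.Injective (fun ab : hp.left.grp × hp.right.grp =>
        (⟨(ab.1 : G) * ab.2, hE ▸ Subgroup.mul_mem_sup ab.1.2 ab.2.2⟩ : E)) := by
      rintro ⟨⟨a, ha⟩, ⟨b, hb⟩⟩ ⟨⟨a', ha'⟩, ⟨b', hb'⟩⟩ hab
      have hab' : a * b = a' * b' := congrArg Subtype.val hab
      have he' : a'⁻¹ * a = b' * b⁻¹ := by
        rw [eq_mul_inv_iff_mul_eq, mul_assoc, hab', inv_mul_cancel_left]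
      have h1 := hdisj _ (mul_mem (inv_mem ha') ha) (he' ▸ mul_mem hb' (inv_mem hb))
      obtain rfl : a = a' := (inv_mul_eq_one.1 h1).symm
      exact Prod.ext rfl (Subtype.ext (mul_left_cancel hab'))
    have h1 := Nat.card_le_card_of_injective _ hi
    rw [Nat.card_prod] at h1
    exact le_trans (by norm_num) (le_trans (Nat.mul_le_mul hp.left.card_grp hp.right.card_grp) h1)
  obtain ⟨hodd, -⟩ := Cfsg.Agent.S0217.result (p := 2) E hcomm hexp hrank (theta e f)
    (fun a _ _ => theta_le_cent e f a)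
    (fun a ha ha1 hd => Nat.not_even_iff_odd.2
      (odd_card_of_le (odd_card_core a) (hp.theta_le_core h (hlab a ha ha1)))
      (even_iff_two_dvd.2 hd))
    (fun a ha ha1 b hb x hx => conj_mem_of_normalizer
      (hp.theta_normalized (mem_cent.2 (hcomm b hb a ha)) (hcE b hb).1 (hcE b hb).2) hx)
    (fun a ha ha1 => isSolvable_of_odd
      (odd_card_of_le (odd_card_core a) (hp.theta_le_core h (hlab a ha ha1))))
    (fun a ha ha1 b hb hb1 => hp.theta_balance h (hlab a ha ha1) (hlab b hb hb1))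
  refine odd_card_of_le (Nat.not_even_iff_odd.1 fun he => hodd (even_iff_two_dvd.1 he))
    (iSup_le fun i => iSup_le fun j => fun x hx => ?_)
  refine Subgroup.mem_iSup_of_mem (⟨e i, ?_, hp.left.ne i⟩ : {a : G // a ∈ E ∧ a ≠ 1})
    (le_theta e f (e i) i j ⟨hx, core_le_cent _ hx.1⟩)
  exact hE ▸ Subgroup.mem_sup_left (Triple.mem_grp.2 (Or.inr ⟨i, rfl⟩))

/-- The closure depends only on one member of the first triple. -/
theorem clos_congr (h : Ctx X Y) (hp : Pair X Y e f) {e' : Fin 3 → G} (hp' : Pair X Y e' f)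
    {i i' : Fin 3} (hi : e' i' = e i) : clos e' f = clos e f := by
  rw [clos_eq_col, clos_eq_col]
  exact iSup_congr fun j => by
    rw [h.col_eq hp'.left (hp.right.mem j) (hp.right.sq j) (fun k => hp'.comm k j) i',
      h.col_eq hp.left (hp.right.mem j) (hp.right.sq j) (fun k => hp.comm k j) i, hi]

theorem conj_left (h : Ctx X Y) (hp : Pair X Y e f) {g : G} (hg : ∀ j, g ∈ cent (f j)) :
    Pair X Y (fun i => g * e i * g⁻¹) f :=
  ⟨hp.left.conj h.conjX g, hp.right, fun i j => mem_cent.1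
    (mul_mem (mul_mem (hg j) (hp.mem_cent_right i j)) (inv_mem (hg j)))⟩

theorem conj_mem_clos (hp : Pair X Y e f) {g : G} (hg : ∀ j, g ∈ cent (f j)) {x : G}
    (hx : x ∈ clos e f) : g * x * g⁻¹ ∈ clos (fun i => g * e i * g⁻¹) f := by
  have hle : clos e f ≤
      (clos (fun i => g * e i * g⁻¹) f).comap (MulAut.conj g).toMonoidHom := by
    refine iSup_le fun i => iSup_le fun j => fun y hy => ?_
    refine dlt_le_clos (fun i => g * e i * g⁻¹) f i j ?_
    have h1 := dlt_conj g hy
    rwa [show g * f j * g⁻¹ = f j by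
      rw [mem_cent.1 (hg j), mul_inv_cancel_right]] at h1
  exact hle hx

theorem clos_normalized_left (h : Ctx X Y) (hp : Pair X Y e f) {g : G} {i : Fin 3}
    (hgi : g ∈ cent (e i)) (hg : ∀ j, g ∈ cent (f j)) :
    g ∈ Subgroup.normalizer (clos e f : Set G) := by
  have key : ∀ g, g ∈ cent (e i) → (∀ j, g ∈ cent (f j)) → ∀ x ∈ clos e f,
      g * x * g⁻¹ ∈ clos e f := fun g hgi hg x hx => by
    rw [← hp.clos_congr h (hp.conj_left h hg) (i := i) (i' := i)
      (by show g * e i * g⁻¹ = e i; rw [mem_cent.1 hgi, mul_inv_cancel_right])]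
    exact hp.conj_mem_clos hg hx
  exact mem_normalizer_of_conj_mem (key g hgi hg)
    (key g⁻¹ (inv_mem hgi) fun j => inv_mem (hg j))

theorem core_normalizes_clos (h : Ctx X Y) (hp : Pair X Y e f) (j : Fin 3) :
    core (f j) ≤ Subgroup.normalizer (clos e f : Set G) := by
  intro x hx
  have hn : ∀ i, e i ∈ Subgroup.normalizer ((core (f j) : Subgroup G) : Set G) :=
    fun i => core_normalized (hp.mem_cent_right i j)
  have hbr : ∀ i, br (core (f j)) (e i) ≤ clos e f := fun i =>
    (h.br_le_col hp.left (hp.right.mem j) (hp.right.sq j) (fun k => hp.comm k j) i).trans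
      (by rw [clos_eq_col]; exact le_iSup (fun j => col e (f j)) j)
  obtain ⟨w, hw, hxw, hxwQ, -, -⟩ := exists_split (odd_card_core (f j)) (hp.left.sq 0) (hn 0) hx
  obtain ⟨w', hw', hy, hyQ, -, hwc⟩ := exists_split (odd_card_core (f j)) (hp.left.sq 1) (hn 1) hxwQ
  have hy0 : x * w * w' ∈ cent (e 0) :=
    mul_mem hxw (hwc _ hxw (hp.left.mem_cent_of 1 0))
  have h1 : x * w * w' ∈ Subgroup.normalizer (clos e f : Set G) := by
    rw [← clos_symm]
    exact hp.symm.clos_normalized_left h.symm (i := j) (core_le_cent _ hyQ)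
      (hp.left.cent_all hy0 hy)
  have := mul_mem (mul_mem h1 (inv_mem (Subgroup.le_normalizer (hbr 1 hw'))))
    (inv_mem (Subgroup.le_normalizer (hbr 0 hw)))
  rwa [mul_inv_cancel_right, mul_inv_cancel_right] at this

end Pair

end CfsgLib.ProductFusion
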