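import Cfsg.Agent.ProductFusion.FourLemma
import Cfsg.Agent.Signalizer.CoreComponents
import Cfsg.Agent.LocalEven50.Basic
import Cfsg.Agent.S0205

/-!
# Product fusion: the local tools

`X` and `Y` are two conjugation invariant sets of 2-elements behaving like the conjugates of two
commuting strongly closed subgroups with trivial intersection, in a configuration in which the
product theorem holds in all proper subgroups.
-/

set_option autoImplicit false
set_option linter.style.haveILetI false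
set_option linter.unusedSectionVars false

open scoped commutatorElement

namespace CfsgLib.ProductFusion

open CfsgLib.Signalizer (coreOf coreOf_le)

universe u

variable {G : Type u} [Group G]

/-- The centraliser of an element. -/
abbrev cent (f : G) : Subgroup G := Subgroup.centralizer ({f} : Set G)

/-- The odd core of the centraliser of an element. -/
abbrev core (f : G) : Subgroup G := coreOf (cent f)

theorem mem_cent {f x : G} : x ∈ cent f ↔ x * f = f * x :=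
  Subgroup.mem_centralizer_singleton_iff

/-- The configuration. -/
structure Ctx (X Y : Set G) : Prop where
  conjX : ∀ x ∈ X, ∀ g : G, g * x * g⁻¹ ∈ X
  conjY : ∀ y ∈ Y, ∀ g : G, g * y * g⁻¹ ∈ Y
  oneX : (1 : G) ∈ X
  oneY : (1 : G) ∈ Y
  twoX : ∀ x ∈ X, ∃ k : ℕ, x ^ 2 ^ k = 1
  twoY : ∀ y ∈ Y, ∃ k : ℕ, y ^ 2 ^ k = 1
  subX : ∀ T : Subgroup G, IsPGroup 2 T → ∀ x ∈ X, x ∈ T → ∀ x' ∈ X, x' ∈ T → x * x' ∈ X
  subY : ∀ T : Subgroup G, IsPGroup 2 T → ∀ y ∈ Y, y ∈ T → ∀ y' ∈ Y, y' ∈ T → y * y' ∈ Y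
  sep : ∀ x ∈ X, x ∈ Y → x = 1
  commXY : ∀ T : Subgroup G, IsPGroup 2 T → ∀ x ∈ X, x ∈ T → ∀ y ∈ Y, y ∈ T → x * y = y * x
  odd_bot : ∀ N : Subgroup G, N.Normal → Odd (Nat.card N) → N = ⊥
  nc : ∀ x ∈ X, ∀ y ∈ Y, x * x = 1 → y * y = 1 → x * y = y * x → x * y ≠ 1 → cent (x * y) ≠ ⊤
  loc : ∀ H : Subgroup G, H ≠ ⊤ → ∀ x ∈ X, x ∈ H → ∀ y ∈ Y, y ∈ H → ⁅x, y⁆ ∈ coreOf H

namespace Ctx

variable {X Y : Set G}

theorem symm (h : Ctx X Y) : Ctx Y X where
  conjX := h.conjY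
  conjY := h.conjX
  oneX := h.oneY
  oneY := h.oneX
  twoX := h.twoY
  twoY := h.twoX
  subX := h.subY
  subY := h.subX
  sep y hy hy' := h.sep y hy' hy
  commXY T hT y hy hyT x hx hxT := (h.commXY T hT x hx hxT y hy hyT).symm
  odd_bot := h.odd_bot
  nc y hy x hx hy2 hx2 hc hne := by
    rw [hc] at hne ⊢
    exact h.nc x hx y hy hx2 hy2 hc.symm hne
  loc H hH y hy hyH x hx hxH := by
    rw [← commutatorElement_inv x y]
    exact inv_mem (h.loc H hH x hx hxH y hy hyH)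

theorem cent_ne_top_left (h : Ctx X Y) {x : G} (hx : x ∈ X) (hx2 : x * x = 1) (hx1 : x ≠ 1) :
    cent x ≠ ⊤ := by
  have := h.nc x hx 1 h.oneY hx2 (one_mul 1) (by simp) (by simpa using hx1)
  simpa using this

theorem cent_ne_top_right (h : Ctx X Y) {y : G} (hy : y ∈ Y) (hy2 : y * y = 1) (hy1 : y ≠ 1) :
    cent y ≠ ⊤ :=
  h.symm.cent_ne_top_left hy hy2 hy1

end Ctx

/-! ### Odd subgroups in groups with trivial odd core -/

theorem odd_subgroup_eq_bot [Finite G] (hO : ∀ N : Subgroup G, N.Normal → Odd (Nat.card N) → N = ⊥)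
    {N W : Subgroup G} [N.Normal] (hW : W ≤ N) (hn : N ≤ Subgroup.normalizer (W : Set G))
    (hodd : Odd (Nat.card W)) : W = ⊥ := by
  haveI : (Cfsg.oddCore N).Characteristic := PLocal.pPrimeCoreCharacteristic 2 N
  have hbot : coreOf N = ⊥ := hO _ inferInstance
    (Nat.coprime_two_right.1 (Signalizer.coprime_card_coreOf N))
  exact eq_bot_iff.2 (hbot ▸ Signalizer.le_coreOf hW hn (Nat.coprime_two_right.2 hodd))

theorem odd_orderOf_of_mem [Finite G] {D : Subgroup G} (hD : Odd (Nat.card D)) {x : G}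
    (hx : x ∈ D) : Odd (orderOf x) :=
  hD.of_dvd_nat (Subgroup.orderOf_dvd_natCard D hx)

theorem odd_card_of_le [Finite G] {D E : Subgroup G} (hE : Odd (Nat.card E)) (h : D ≤ E) :
    Odd (Nat.card D) :=
  hE.of_dvd_nat (Subgroup.card_dvd_of_le h)

theorem odd_card_core [Finite G] (f : G) : Odd (Nat.card (core f)) :=
  Nat.coprime_two_right.1 (Signalizer.coprime_card_coreOf _)

theorem isSolvable_of_odd [Finite G] {D : Subgroup G} (hD : Odd (Nat.card D)) :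
    Group.IsSolvable D :=
  Cfsg.Agent.S0205.result hD

theorem core_le_cent (f : G) : core f ≤ cent f := coreOf_le _

theorem core_normalized {f c : G} (hc : c ∈ cent f) :
    c ∈ Subgroup.normalizer ((core f : Subgroup G) : Set G) :=
  Signalizer.le_normalizer_coreOf _ hc

theorem conj_core_mem {f c x : G} (hc : c ∈ cent f) (hx : x ∈ core f) : c * x * c⁻¹ ∈ core f :=
  (Subgroup.mem_normalizer_iff.1 (core_normalized hc) x).1 hx

/-- The map onto `C(f)/O(C(f))`. -/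
abbrev modC (f : G) : cent f →* cent f ⧸ Cfsg.oddCore (cent f) :=
  QuotientGroup.mk' (Cfsg.oddCore (cent f))

theorem modC_eq_one {f : G} {x : cent f} : modC f x = 1 ↔ (x : G) ∈ core f := by
  rw [QuotientGroup.mk'_apply, QuotientGroup.eq_one_iff]
  exact (Subgroup.mem_map_iff_mem (Subgroup.subtype_injective _)).symm

theorem modC_odd_bot [Finite G] (f : G) (N : Subgroup (cent f ⧸ Cfsg.oddCore (cent f)))
    (hn : N.Normal) (hN : Odd (Nat.card N)) : N = ⊥ := by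
  have h := LocalEven50.le_pPrimeCore (p := 2) hn (Nat.coprime_two_right.2 hN)
  rw [PLocal.pPrimeCore_quotient_pPrimeCore_eq_bot 2 (cent f)] at h
  exact eq_bot_iff.2 h

/-! ### Elements centralising the images of a class -/

/-- The elements of `C(f)` centralising the image of `Y ∩ C(f)` in `C(f)/O(C(f))`. -/
def cen (Y : Set G) (f : G) : Subgroup G :=
  ((Subgroup.centralizer (modC f '' {y : cent f | (y : G) ∈ Y})).comap (modC f)).map
    (cent f).subtype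

theorem mem_cen {Y : Set G} {f x : G} :
    x ∈ cen Y f ↔ x ∈ cent f ∧ ∀ y ∈ Y, y ∈ cent f → ⁅x, y⁆ ∈ core f := by
  constructor
  · rintro ⟨z, hz, rfl⟩
    refine ⟨z.2, fun y hy hyC => ?_⟩
    have h1 := Subgroup.mem_centralizer_iff.1 hz (modC f ⟨y, hyC⟩) ⟨⟨y, hyC⟩, hy, rfl⟩
    have h2 : modC f ⁅z, (⟨y, hyC⟩ : cent f)⁆ = 1 := by
      rw [map_commutatorElement, commutatorElement_eq_one_iff_mul_comm]
      exact h1.symm
    exact modC_eq_one.1 h2
  · rintro ⟨hx, h⟩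
    refine ⟨⟨x, hx⟩, Subgroup.mem_centralizer_iff.2 ?_, rfl⟩
    rintro _ ⟨y, hy, rfl⟩
    have h2 : modC f ⁅(⟨x, hx⟩ : cent f), y⁆ = 1 := modC_eq_one.2 (h y hy y.2)
    rw [map_commutatorElement, commutatorElement_eq_one_iff_mul_comm] at h2
    exact h2.symm

theorem cen_le_cent (Y : Set G) (f : G) : cen Y f ≤ cent f := fun _ hx => (mem_cen.1 hx).1

theorem core_le_cen (Y : Set G) (f : G) : core f ≤ cen Y f := fun x hx =>
  mem_cen.2 ⟨core_le_cent f hx, fun y _ hyC => by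
    rw [show ⁅x, y⁆ = x * (y * x⁻¹ * y⁻¹) by simp only [commutatorElement_def]; group]
    exact mul_mem hx (conj_core_mem hyC (inv_mem hx))⟩

theorem conj_cen_mem {Y : Set G} (hY : ∀ y ∈ Y, ∀ g : G, g * y * g⁻¹ ∈ Y) {f c x : G}
    (hc : c ∈ cent f) (hx : x ∈ cen Y f) : c * x * c⁻¹ ∈ cen Y f := by
  obtain ⟨hxC, h⟩ := mem_cen.1 hx
  refine mem_cen.2 ⟨mul_mem (mul_mem hc hxC) (inv_mem hc), fun y hy hyC => ?_⟩
  have h1 := conj_core_mem hc (h (c⁻¹ * y * c⁻¹⁻¹) (hY y hy c⁻¹)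
    (mul_mem (mul_mem (inv_mem hc) hyC) (inv_mem (inv_mem hc))))
  rwa [show ⁅c * x * c⁻¹, y⁆ = c * ⁅x, c⁻¹ * y * c⁻¹⁻¹⁆ * c⁻¹ by
    simp only [commutatorElement_def]; group]

variable [Finite G] {X Y : Set G}

namespace Ctx

theorem mem_cen_of_mem (h : Ctx X Y) {f x : G} (hf : cent f ≠ ⊤) (hx : x ∈ X)
    (hxC : x ∈ cent f) : x ∈ cen Y f :=
  mem_cen.2 ⟨hxC, fun y hy hyC => h.loc _ hf x hx hxC y hy hyC⟩

theorem commutator_mem_cen (h : Ctx X Y) {f x e : G} (hf : cent f ≠ ⊤) (hx : x ∈ cent f)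
    (he : e ∈ X) (heC : e ∈ cent f) : x⁻¹ * (e * x * e⁻¹) ∈ cen Y f := by
  have h1 := h.mem_cen_of_mem hf he heC
  rw [show x⁻¹ * (e * x * e⁻¹) = x⁻¹ * e * x⁻¹⁻¹ * e⁻¹ by group]
  exact mul_mem (conj_cen_mem h.conjY (inv_mem hx) h1) (inv_mem h1)

end Ctx

/-! ### Lifting commuting 2-elements -/

theorem exists_two_lift {f : G} {S : Set G} (hS : ∀ s ∈ S, s ∈ cent f)
    (h2 : ∀ s ∈ S, ∃ k : ℕ, s ^ 2 ^ k = 1) (hc : ∀ s ∈ S, ∀ t ∈ S, ⁅s, t⁆ ∈ core f)
    {T₀ : Subgroup G} (hT₀ : IsPGroup 2 T₀) (hT₀S : ∀ x ∈ T₀, x ∈ S) :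
    ∃ T : Subgroup G, IsPGroup 2 T ∧ T₀ ≤ T ∧ T ≤ cent f ∧
      ∀ s ∈ S, ∃ o ∈ core f, o * s * o⁻¹ ∈ T := by
  haveI : Fact (Nat.Prime 2) := ⟨Nat.prime_two⟩
  obtain ⟨Tb, hTb⟩ : ∃ Tb, Tb = Subgroup.closure (modC f '' {s : cent f | (s : G) ∈ S}) := ⟨_, rfl⟩
  have hcomm : ∀ a ∈ Tb, ∀ b ∈ Tb, a * b = b * a := by
    have hgen : Tb ≤ Subgroup.centralizer (modC f '' {s : cent f | (s : G) ∈ S}) := by
      rw [hTb, Subgroup.closure_le]
      rintro _ ⟨s, hs, rfl⟩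
      refine Subgroup.mem_centralizer_iff.2 ?_
      rintro _ ⟨t, ht, rfl⟩
      have := (modC_eq_one (x := ⁅t, s⁆)).2 (hc _ ht _ hs)
      rwa [map_commutatorElement, commutatorElement_eq_one_iff_mul_comm] at this
    intro a ha b hb
    have hb' : Tb ≤ Subgroup.centralizer {a} := by
      rw [hTb, Subgroup.closure_le]
      intro t ht
      exact Subgroup.mem_centralizer_singleton_iff.2 (Subgroup.mem_centralizer_iff.1 (hgen ha) t ht)
    exact (Subgroup.mem_centralizer_singleton_iff.1 (hb' hb)).symm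
  have hTp : IsPGroup 2 Tb := by
    rintro ⟨q, hq⟩
    suffices ∃ k : ℕ, q ^ 2 ^ k = 1 by
      obtain ⟨k, hk⟩ := this
      exact ⟨k, Subtype.ext (by simpa using hk)⟩
    have hq' : q ∈ Subgroup.closure (modC f '' {s : cent f | (s : G) ∈ S}) := hTb ▸ hq
    clear hq
    induction hq' using Subgroup.closure_induction with
    | mem x hx =>
      obtain ⟨s, hs, rfl⟩ := hx
      obtain ⟨k, hk⟩ := h2 _ hs
      exact ⟨k, by
        have : s ^ 2 ^ k = 1 := Subtype.ext (by simpa using hk)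
        rw [← map_pow, this, map_one]⟩
    | one => exact ⟨0, by simp⟩
    | mul x y hx hy ihx ihy =>
      obtain ⟨k, hk⟩ := ihx
      obtain ⟨l, hl⟩ := ihy
      refine ⟨k + l, ?_⟩
      rw [(show Commute x y from hcomm x (hTb ▸ hx) y (hTb ▸ hy)).mul_pow, pow_add, pow_mul, hk,
        one_pow, one_mul, mul_comm, pow_mul, hl, one_pow]
    | inv x hx ih =>
      obtain ⟨k, hk⟩ := ih
      exact ⟨k, by rw [inv_pow, hk, inv_one]⟩
  obtain ⟨L, hL⟩ : ∃ L, L = Tb.comap (modC f) := ⟨_, rfl⟩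
  have hmemS : ∀ s (hs : s ∈ S), (⟨s, hS s hs⟩ : cent f) ∈ L := fun s hs => by
    rw [hL, Subgroup.mem_comap, hTb]
    exact Subgroup.subset_closure ⟨⟨s, hS s hs⟩, hs, rfl⟩
  let T₀' : Subgroup L := (T₀.subgroupOf (cent f)).subgroupOf L
  obtain ⟨T', hT'⟩ := (show IsPGroup 2 T₀' from
    (hT₀.comap_of_injective _ (Subgroup.subtype_injective _)).comap_of_injective _
      (Subgroup.subtype_injective _)).exists_le_sylow
  let ψ : L →* Tb := ((modC f).comp L.subtype).codRestrict Tb fun x =>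
    Subgroup.mem_comap.1 (hL.le x.2)
  have hψ : ψ.ker ⊔ (T' : Subgroup L) = ⊤ := by
    refine Subgroup.index_eq_one.1 ?_
    obtain ⟨n, hn⟩ := IsPGroup.iff_card.1 hTp
    have h1 : (ψ.ker ⊔ (T' : Subgroup L)).index ∣ 2 ^ n := by
      refine (Subgroup.index_dvd_of_le le_sup_left).trans ?_
      rw [Subgroup.index_ker, ← hn]
      exact Subgroup.card_subgroup_dvd_card _
    have h2 : ¬ 2 ∣ (ψ.ker ⊔ (T' : Subgroup L)).index := fun hd =>
      T'.not_dvd_index (hd.trans (Subgroup.index_dvd_of_le le_sup_right))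
    obtain ⟨i, -, hi⟩ := (Nat.dvd_prime_pow Nat.prime_two).1 h1
    rcases i with _ | i
    · simpa using hi
    · exact absurd ⟨2 ^ i, by rw [hi, pow_succ']⟩ h2
  refine ⟨((T' : Subgroup L).map L.subtype).map (cent f).subtype, (T'.isPGroup'.map _).map _,
    fun x hx => ?_, Subgroup.map_subtype_le _, fun s hs => ?_⟩
  · exact ⟨⟨x, hS x (hT₀S x hx)⟩, ⟨⟨_, hmemS x (hT₀S x hx)⟩, hT' hx, rfl⟩, rfl⟩
  · obtain ⟨s', hs'⟩ : ∃ s' : L, s' = ⟨⟨s, hS s hs⟩, hmemS s hs⟩ := ⟨_, rfl⟩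
    obtain ⟨k, hk⟩ := h2 s hs
    have hzp : IsPGroup 2 (Subgroup.zpowers s') := by
      obtain ⟨j, hj⟩ := (Nat.dvd_prime_pow Nat.prime_two).1
        (orderOf_dvd_of_pow_eq_one (x := s') (n := 2 ^ k) (Subtype.ext (Subtype.ext (by
          rw [hs']; simpa using hk))))
      exact IsPGroup.of_card (n := j) (by rw [Nat.card_zpowers, hj.2])
    obtain ⟨T'', hT''⟩ := hzp.exists_le_sylow
    obtain ⟨l, hl⟩ := MulAction.exists_smul_eq L T'' T'
    have hlmem : l ∈ (T' : Subgroup L) ⊔ ψ.ker := by rw [sup_comm, hψ]; exact Subgroup.mem_top l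
    obtain ⟨t, ht, o, ho, rfl⟩ := Subgroup.mem_sup_of_normal_right.1 hlmem
    have hmem : t * o * s' * (t * o)⁻¹ ∈ (T' : Subgroup L) := by
      rw [← hl, Sylow.coe_subgroup_smul]
      exact ⟨s', hT'' (Subgroup.mem_zpowers _), rfl⟩
    have hmem' : o * s' * o⁻¹ ∈ (T' : Subgroup L) := by
      have := mul_mem (mul_mem (inv_mem ht) hmem) ht
      rwa [show t⁻¹ * (t * o * s' * (t * o)⁻¹) * t = o * s' * o⁻¹ by group] at this
    refine ⟨((o : cent f) : G), ?_, ⟨_, ⟨_, hmem', rfl⟩, by rw [hs']; rfl⟩⟩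
    exact modC_eq_one.1 (congrArg Subtype.val (MonoidHom.mem_ker.1 ho))

theorem eq_of_two_group {f : G} {T : Subgroup G} (hT : IsPGroup 2 T) {x y : G} (hx : x ∈ T)
    (hy : y ∈ T) (h : x⁻¹ * y ∈ core f) : x = y := by
  obtain ⟨k, hk⟩ := hT ⟨x⁻¹ * y, mul_mem (inv_mem hx) hy⟩
  exact inv_mul_eq_one.1 (Signalizer.eq_one_of_pow_two_pow (Signalizer.coprime_card_coreOf _) h
    (k := k) (by simpa using congrArg Subtype.val hk))

theorem isPGroup_zpowers {x : G} (hx : x * x = 1) : IsPGroup 2 (Subgroup.zpowers x) := by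
  have h : orderOf x ∣ 2 := orderOf_dvd_of_pow_eq_one (by rwa [pow_two])
  rcases (Nat.dvd_prime Nat.prime_two).1 h with h1 | h1
  · exact IsPGroup.of_card (n := 0) (by rw [Nat.card_zpowers, h1, pow_zero])
  · exact IsPGroup.of_card (n := 1) (by rw [Nat.card_zpowers, h1, pow_one])

theorem mem_zpowers_cases {x y : G} (hx : x * x = 1) (hy : y ∈ Subgroup.zpowers x) :
    y = 1 ∨ y = x := by
  obtain ⟨i, rfl⟩ := Subgroup.mem_zpowers_iff.1 hy
  have h2 : x ^ (2 : ℤ) = 1 := by rw [zpow_two]; exact hx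
  rcases Int.even_or_odd i with ⟨j, rfl⟩ | ⟨j, rfl⟩
  · left; rw [← two_mul, zpow_mul, h2, one_zpow]
  · right; rw [zpow_add, zpow_mul, h2, one_zpow, one_mul, zpow_one]

namespace Ctx

/-- Conjugates of elements of `Y ∩ C(f)` commuting with an involution of `X ∩ C(f)`. -/
theorem exists_pull (h : Ctx X Y) {f a y : G} (hf : cent f ≠ ⊤) (ha : a ∈ X) (ha2 : a * a = 1)
    (haC : a ∈ cent f) (hy : y ∈ Y) (hyC : y ∈ cent f) :
    ∃ o ∈ core f, o * y * o⁻¹ ∈ cent a ∧ o * y * o⁻¹ ∈ cent f := by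
  have hay : ⁅a, y⁆ ∈ core f := h.loc _ hf a ha haC y hy hyC
  obtain ⟨T, hT, hT₀, hTC, hlift⟩ := exists_two_lift (f := f) (S := {s | s = 1 ∨ s = a ∨ s = y})
    (by rintro s (rfl | rfl | rfl); exacts [one_mem _, haC, hyC])
    (by rintro s (rfl | rfl | rfl); exacts [⟨0, by simp⟩, h.twoX _ ha, h.twoY _ hy])
    (by
      have hya : ⁅y, a⁆ ∈ core f := commutatorElement_inv a y ▸ inv_mem hay
      rintro s (rfl | rfl | rfl) t (rfl | rfl | rfl) <;>
        first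
          | exact hay
          | exact hya
          | simp [commutatorElement_def])
    (T₀ := Subgroup.zpowers a) (isPGroup_zpowers ha2)
    (fun x hx => by rcases mem_zpowers_cases ha2 hx with rfl | rfl; exacts [Or.inl rfl, Or.inr (Or.inl rfl)])
  obtain ⟨o, ho, hoT⟩ := hlift y (Or.inr (Or.inr rfl))
  exact ⟨o, ho, mem_cent.2 (h.commXY T hT a ha (hT₀ (Subgroup.mem_zpowers a)) _
    (h.conjY y hy o) hoT).symm, hTC hoT⟩

/-- A normalised odd subgroup is invisible to the other class. -/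
theorem le_cen (h : Ctx X Y) {f a : G} (hf : cent f ≠ ⊤) (ha : a ∈ X) (ha2 : a * a = 1)
    (haC : a ∈ cent f) {D : Subgroup G} (hD : Odd (Nat.card D)) (hDC : D ≤ cent f)
    (hDn : cent f ⊓ cent a ≤ Subgroup.normalizer (D : Set G)) : D ≤ cen Y f := by
  obtain ⟨N, hN⟩ : ∃ N, N = Subgroup.normalClosure (modC f '' {y : cent f | (y : G) ∈ Y}) :=
    ⟨_, rfl⟩
  haveI : N.Normal := hN ▸ Subgroup.normalClosure_normal
  obtain ⟨Db, hDb⟩ : ∃ Db, Db = (D.subgroupOf (cent f)).map (modC f) := ⟨_, rfl⟩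
  have hgen : ∀ y (hyY : y ∈ Y) (hyC : y ∈ cent f),
      modC f ⟨y, hyC⟩ ∈ Subgroup.normalizer (Db : Set _) := by
    intro y hyY hyC
    obtain ⟨o, ho, hoa, hof⟩ := h.exists_pull hf ha ha2 haC hyY hyC
    have hmod : modC f ⟨y, hyC⟩ = modC f ⟨_, hof⟩ := by
      have h1 : modC f (⟨o, core_le_cent f ho⟩ : cent f) = 1 := modC_eq_one.2 ho
      have e : (⟨o * y * o⁻¹, hof⟩ : cent f) = (⟨o, core_le_cent f ho⟩ : cent f) * ⟨y, hyC⟩ *
          (⟨o, core_le_cent f ho⟩ : cent f)⁻¹ := rfl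
      rw [e, map_mul, map_mul, map_inv, h1, one_mul, inv_one, mul_one]
    rw [hmod, hDb]
    refine Subgroup.le_normalizer_map (modC f) (Subgroup.mem_map_of_mem (modC f) ?_)
    refine Subgroup.mem_normalizer_iff.2 fun d => ?_
    exact Subgroup.mem_normalizer_iff.1 (hDn ⟨hof, hoa⟩) (d : G)
  have hNn : N ≤ Subgroup.normalizer (Db : Set _) := by
    rw [hN, Subgroup.normalClosure, Subgroup.closure_le]
    intro q hq
    obtain ⟨q₀, hq₀, hconj⟩ := Group.mem_conjugatesOfSet_iff.1 hq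
    obtain ⟨y, hy, rfl⟩ := hq₀
    obtain ⟨g, rfl⟩ := isConj_iff.1 hconj
    obtain ⟨g, rfl⟩ := QuotientGroup.mk'_surjective _ g
    rw [← map_inv, ← map_mul, ← map_mul]
    exact hgen _ (h.conjY _ hy g) _
  have hodd : Odd (Nat.card Db) := by
    refine hD.of_dvd_nat ?_
    rw [hDb, ← Nat.card_congr (Subgroup.subgroupOfEquivOfLe hDC).toEquiv]
    exact Subgroup.card_map_dvd _ _
  have hbot : N ⊓ Db = ⊥ := odd_subgroup_eq_bot (modC_odd_bot f) inf_le_left
    ((le_inf Subgroup.le_normalizer hNn).trans Subgroup.inf_normalizer_le_normalizer_inf)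
    (odd_card_of_le hodd inf_le_right)
  intro d hd
  refine mem_cen.2 ⟨hDC hd, fun y hy hyC => ?_⟩
  have h1 : modC f ⁅(⟨d, hDC hd⟩ : cent f), ⟨y, hyC⟩⁆ ∈ N ⊓ Db := by
    have hyN : modC f ⟨y, hyC⟩ ∈ N := hN ▸ Subgroup.subset_normalClosure ⟨_, hy, rfl⟩
    have hdD : modC f ⟨d, hDC hd⟩ ∈ Db := hDb ▸ Subgroup.mem_map_of_mem (modC f) hd
    rw [map_commutatorElement, commutatorElement_def]
    refine ⟨mul_mem ((inferInstance : N.Normal).conj_mem _ hyN _) (N.inv_mem hyN), ?_⟩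
    rw [mul_assoc, mul_assoc]
    refine mul_mem hdD ?_
    rw [← mul_assoc]
    exact (Subgroup.mem_normalizer_iff.1 (hgen y hy hyC) _).1 (Db.inv_mem hdD)
  rw [hbot, Subgroup.mem_bot] at h1
  exact modC_eq_one.1 h1

/-- An element of odd order of `C(f)` invisible to both classes lies in the core. -/
theorem mem_core (h : Ctx X Y) {f a b : G} (hf : cent f ≠ ⊤) (ha : a ∈ X) (ha2 : a * a = 1)
    (haC : a ∈ cent f) (hb : b ∈ Y) (hb2 : b * b = 1) (hbC : b ∈ cent f) (hab : a * b = b * a)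
    {D : Subgroup G} (hD : Odd (Nat.card D)) (hDC : D ≤ cent f)
    (hDn : cent f ⊓ cent a ⊓ cent b ≤ Subgroup.normalizer (D : Set G)) {x : G} (hx : x ∈ D)
    (hxX : x ∈ cen X f) (hxY : x ∈ cen Y f) : x ∈ core f := by
  obtain ⟨Z, hZ⟩ : ∃ Z, Z = Subgroup.centralizer
      (modC f '' ({z : cent f | (z : G) ∈ X} ∪ {z : cent f | (z : G) ∈ Y})) := ⟨_, rfl⟩
  haveI : Z.Normal := ⟨fun z hz g => by
    obtain ⟨g, rfl⟩ := QuotientGroup.mk'_surjective _ g
    rw [hZ] at hz ⊢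
    refine Subgroup.mem_centralizer_iff.2 ?_
    rintro _ ⟨w, hw, rfl⟩
    have hw' : g⁻¹ * w * g⁻¹⁻¹ ∈ ({z : cent f | (z : G) ∈ X} ∪ {z : cent f | (z : G) ∈ Y} :
        Set (cent f)) := hw.imp (fun hw => h.conjX _ hw _) (fun hw => h.conjY _ hw _)
    have h1 := Subgroup.mem_centralizer_iff.1 hz _ ⟨_, hw', rfl⟩
    simp only [map_mul, map_inv, inv_inv] at h1
    calc modC f w * (modC f g * z * (modC f g)⁻¹)
        = modC f g * ((modC f g)⁻¹ * modC f w * modC f g * z) * (modC f g)⁻¹ := by group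
      _ = _ := by rw [h1]; group⟩
  obtain ⟨Db, hDb⟩ : ∃ Db, Db = (D.subgroupOf (cent f)).map (modC f) := ⟨_, rfl⟩
  have hZn : Z ≤ Subgroup.normalizer (Db : Set _) := by
    intro z hz
    obtain ⟨z, rfl⟩ := QuotientGroup.mk'_surjective _ z
    rw [hZ] at hz
    have hz' := Subgroup.mem_centralizer_iff.1 hz
    -- lift to the centraliser of `a` and `b`
    have key : ∀ (w : G) (hw : w ∈ cent f) (e : G), e * e = 1 → ∀ heC : e ∈ cent f,
        modC f ⟨e, heC⟩ * modC f ⟨w, hw⟩ = modC f ⟨w, hw⟩ * modC f ⟨e, heC⟩ →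
        ∃ w' ∈ cent f, w⁻¹ * w' ∈ core f ∧ w' ∈ cent e ∧
          ∀ c : G, c ∈ cent w → c ∈ cent e → w' ∈ cent c := by
      intro w hw e he2 heC hcom
      have hv : w⁻¹ * (e * w * e⁻¹) ∈ core f := by
        have h1 : modC f ((⟨w, hw⟩ : cent f)⁻¹ * (⟨e, heC⟩ * ⟨w, hw⟩ * (⟨e, heC⟩)⁻¹)) = 1 := by
          rw [map_mul, map_mul, map_mul, map_inv, map_inv, hcom, mul_inv_cancel_right,
            inv_mul_cancel]
        exact modC_eq_one.1 h1
      have hei : e⁻¹ = e := inv_eq_of_mul_eq_one_right he2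
      obtain ⟨k, hk⟩ := exists_sqrt_of_odd (odd_card_core f)
        (⟨w⁻¹ * (e * w * e⁻¹), hv⟩ : core f)
      have hk' : (w⁻¹ * (e * w * e⁻¹)) ^ k * (w⁻¹ * (e * w * e⁻¹)) ^ k =
          w⁻¹ * (e * w * e⁻¹) := by simpa using congrArg Subtype.val hk
      obtain ⟨v, hvdef⟩ : ∃ v, v = w⁻¹ * (e * w * e⁻¹) := ⟨_, rfl⟩
      rw [← hvdef] at hk' hv
      refine ⟨w * v ^ k, mul_mem hw (core_le_cent f (pow_mem hv k)),
        by rw [inv_mul_cancel_left]; exact pow_mem hv k, ?_, fun c hcw hce => ?_⟩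
      · have h1 : e * v * e⁻¹ = v⁻¹ := by rw [hvdef, hei]; simp only [mul_inv_rev, inv_inv, hei, mul_assoc, he2, mul_one]
        have h2 : e * (w * v ^ k) * e⁻¹ = w * v ^ k := by
          rw [show e * (w * v ^ k) * e⁻¹ = e * w * e⁻¹ * (e * v ^ k * e⁻¹) by group, ← conj_pow,
            h1, inv_pow, show e * w * e⁻¹ = w * v by rw [hvdef]; group]
          calc w * v * (v ^ k)⁻¹ = w * (v ^ k * v ^ k) * (v ^ k)⁻¹ := by rw [hk']
            _ = w * v ^ k := by group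
        exact mem_cent.2 (mul_inv_eq_iff_eq_mul.1 h2).symm
      · have hvc : v ∈ cent c := by
          rw [hvdef]
          have hw' : w ∈ cent c := mem_cent.2 (mem_cent.1 hcw).symm
          have he' : e ∈ cent c := mem_cent.2 (mem_cent.1 hce).symm
          exact mul_mem (inv_mem hw') (mul_mem (mul_mem he' hw') (inv_mem he'))
        exact mul_mem (mem_cent.2 (mem_cent.1 hcw).symm) (pow_mem hvc k)
    obtain ⟨w₁, hw₁, hzw₁, hw₁a, -⟩ := key z z.2 a ha2 haC (hz' _ ⟨⟨a, haC⟩, Or.inl ha, rfl⟩)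
    have hsame : modC f z = modC f ⟨w₁, hw₁⟩ := by
      have h1 : modC f (z⁻¹ * ⟨w₁, hw₁⟩) = 1 := modC_eq_one.2 hzw₁
      rwa [map_mul, map_inv, inv_mul_eq_one] at h1
    obtain ⟨w₂, hw₂, hzw₂, hw₂b, hw₂c⟩ := key w₁ hw₁ b hb2 hbC (by
      rw [← hsame]; exact hz' _ ⟨⟨b, hbC⟩, Or.inr hb, rfl⟩)
    have hsame₂ : modC f ⟨w₁, hw₁⟩ = modC f ⟨w₂, hw₂⟩ := by
      have h1 : modC f ((⟨w₁, hw₁⟩ : cent f)⁻¹ * ⟨w₂, hw₂⟩) = 1 := modC_eq_one.2 hzw₂
      rwa [map_mul, map_inv, inv_mul_eq_one] at h1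
    have hw₂a : w₂ ∈ cent a := hw₂c a (mem_cent.2 (mem_cent.1 hw₁a).symm) (mem_cent.2 hab)
    rw [hsame, hsame₂, hDb]
    refine Subgroup.le_normalizer_map (modC f) (Subgroup.mem_map_of_mem (modC f) ?_)
    refine Subgroup.mem_normalizer_iff.2 fun d => ?_
    exact Subgroup.mem_normalizer_iff.1 (hDn ⟨⟨hw₂, hw₂a⟩, hw₂b⟩) (d : G)
  have hodd : Odd (Nat.card Db) := by
    refine hD.of_dvd_nat ?_
    rw [hDb, ← Nat.card_congr (Subgroup.subgroupOfEquivOfLe hDC).toEquiv]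
    exact Subgroup.card_map_dvd _ _
  have hbot : Z ⊓ Db = ⊥ := odd_subgroup_eq_bot (modC_odd_bot f) inf_le_left
    ((le_inf Subgroup.le_normalizer hZn).trans Subgroup.inf_normalizer_le_normalizer_inf)
    (odd_card_of_le hodd inf_le_right)
  have h1 : modC f ⟨x, hDC hx⟩ ∈ Z ⊓ Db := by
    refine ⟨?_, hDb ▸ Subgroup.mem_map_of_mem (modC f) hx⟩
    rw [hZ]
    refine Subgroup.mem_centralizer_iff.2 ?_
    rintro _ ⟨w, hw, rfl⟩
    have h2 : modC f ⁅(⟨x, hDC hx⟩ : cent f), w⁆ = 1 := modC_eq_one.2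
      (hw.elim (fun hw => (mem_cen.1 hxX).2 _ hw w.2) (fun hw => (mem_cen.1 hxY).2 _ hw w.2))
    rw [map_commutatorElement, commutatorElement_eq_one_iff_mul_comm] at h2
    exact h2.symm
  rw [hbot, Subgroup.mem_bot] at h1
  exact modC_eq_one.1 h1

/-- The normal subgroup generated by the images of a class. -/
def imgClosure (Y : Set G) (f : G) : Subgroup (cent f ⧸ Cfsg.oddCore (cent f)) :=
  Subgroup.normalClosure (modC f '' {y : cent f | (y : G) ∈ Y})

/-- An element of odd order in the subgroup generated by the images of a class and centralising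
them lies in the core. -/
theorem mem_core_of_imgClosure (h : Ctx X Y) {f x : G} (hxcen : x ∈ cen Y f)
    (hxo : Odd (orderOf x))
    (hxN : modC f ⟨x, cen_le_cent Y f hxcen⟩ ∈ imgClosure Y f) : x ∈ core f := by
  have hxC : x ∈ cent f := cen_le_cent Y f hxcen
  obtain ⟨N, hN⟩ : ∃ N, N = imgClosure Y f := ⟨_, rfl⟩
  haveI : N.Normal := hN ▸ Subgroup.normalClosure_normal
  rw [← hN] at hxN
  unfold imgClosure at hN
  have hNc : N ≤ Subgroup.centralizer {modC f ⟨x, hxC⟩} := by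
    rw [hN, Subgroup.normalClosure, Subgroup.closure_le]
    intro q hq
    obtain ⟨q₀, ⟨y, hy, rfl⟩, hconj⟩ := Group.mem_conjugatesOfSet_iff.1 hq
    obtain ⟨g, rfl⟩ := isConj_iff.1 hconj
    obtain ⟨g, rfl⟩ := QuotientGroup.mk'_surjective _ g
    rw [← map_inv, ← map_mul, ← map_mul]
    have h2 : modC f ⁅(⟨x, hxC⟩ : cent f), g * y * g⁻¹⁆ = 1 :=
      modC_eq_one.2 ((mem_cen.1 hxcen).2 _ (h.conjY _ hy g) (g * y * g⁻¹).2)
    rw [map_commutatorElement, commutatorElement_eq_one_iff_mul_comm] at h2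
    exact Subgroup.mem_centralizer_singleton_iff.2 h2.symm
  have hbot := odd_subgroup_eq_bot (modC_odd_bot f) (N := N)
    (W := Subgroup.zpowers (modC f ⟨x, hxC⟩)) (Subgroup.zpowers_le.2 hxN)
    (fun n hn => Subgroup.mem_normalizer_iff.2 fun w => by
      have hcn : Commute n (modC f ⟨x, hxC⟩) :=
        Subgroup.mem_centralizer_singleton_iff.1 (hNc hn)
      constructor
      · intro hw
        obtain ⟨i, rfl⟩ := Subgroup.mem_zpowers_iff.1 hw
        rw [(hcn.zpow_right i).eq, mul_inv_cancel_right]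
        exact hw
      · intro hw
        obtain ⟨i, hi⟩ := Subgroup.mem_zpowers_iff.1 hw
        have : w = n⁻¹ * (modC f ⟨x, hxC⟩) ^ i * n := by rw [hi]; group
        rw [this, mul_assoc, ← (hcn.zpow_right i).eq, inv_mul_cancel_left]
        exact Subgroup.zpow_mem_zpowers _ i)
    (by
      rw [Nat.card_zpowers]
      refine hxo.of_dvd_nat ((orderOf_map_dvd (modC f) _).trans ?_)
      rw [Subgroup.orderOf_mk])
  exact modC_eq_one.1 (Subgroup.zpowers_eq_bot.1 hbot)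

/-- An element of the subgroup generated by both classes' images, of odd order and central
modulo the core, lies in the core. -/
theorem mem_core_of_cen (h : Ctx X Y) {f e d x : G} (hf : cent f ≠ ⊤) (he : e ∈ X)
    (heC : e ∈ cent f) (hd : d ∈ Y) (hdC : d ∈ cent f) (hxC : x ∈ cent f)
    (hxo : Odd (orderOf x)) {c c' : G} (hc : c ∈ cent f) (hc' : c' ∈ cent f)
    (hxe : x = c * e * c⁻¹ * e) (hxd : x = c' * d * c'⁻¹ * d) : x ∈ core f := by
  have hxcen : x ∈ cen Y f := by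
    rw [hxe]
    have h1 := h.mem_cen_of_mem hf he heC
    exact mul_mem (conj_cen_mem h.conjY hc h1) h1
  refine h.mem_core_of_imgClosure hxcen hxo ?_
  haveI : (imgClosure Y f).Normal := Subgroup.normalClosure_normal
  have e' : (⟨x, hxC⟩ : cent f) = (⟨c', hc'⟩ : cent f) * ⟨d, hdC⟩ * (⟨c', hc'⟩)⁻¹ * ⟨d, hdC⟩ :=
    Subtype.ext hxd
  have hd' : modC f ⟨d, hdC⟩ ∈ imgClosure Y f := Subgroup.subset_normalClosure ⟨_, hd, rfl⟩
  rw [e', map_mul, map_mul, map_mul, map_inv]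
  exact mul_mem ((inferInstance : (imgClosure Y f).Normal).conj_mem _ hd' _) hd'

end Ctx

end CfsgLib.ProductFusion
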