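import Cfsg.Agent.ProductFusion.DihedralSquare

/-!
# A dihedral factor of order at least eight and a four-group, no normal subgroup of index two

A suitable factorisation of the Sylow subgroup has both factors strongly closed.
-/

set_option autoImplicit false
set_option linter.style.haveILetI false
set_option linter.unusedSectionVars false

namespace CfsgLib.ProductFusion.DD

open DihedralGroup (r sr)
open CfsgLib.DihedralClasses (zz)
open CfsgLib.TwoGroups (par)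

universe u

theorem four_third : ∀ v w u : DihedralGroup 2, v ≠ 1 → w ≠ 1 → v ≠ w → u ≠ 1 → u ≠ v →
    u = w ∨ u = v * w := by decide

theorem four_ne : ∀ v w : DihedralGroup 2, v ≠ 1 → w ≠ 1 → v ≠ w →
    v * w ≠ 1 ∧ v * w ≠ v ∧ v * w ≠ w := by decide

theorem four_cycle : ∀ v w u : DihedralGroup 2, v ≠ 1 → w ≠ 1 → u ≠ 1 → v ≠ w → u ≠ v → u ≠ w →
    v * w * u = 1 := by decide

theorem exists_other : ∀ v : DihedralGroup 2, ∃ w : DihedralGroup 2, w ≠ 1 ∧ w ≠ v := by decide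

theorem exists_sign : ∀ v : DihedralGroup 2, v ≠ 1 → ∃ a b : Multiplicative (ZMod 2),
    a * a = 1 ∧ b * b = 1 ∧ a * b = b * a ∧
      ((v = r 1 ∧ a * b ≠ 1) ∨ (v = sr 0 ∧ a ≠ 1) ∨ (v = sr 1 ∧ b ≠ 1)) := by decide

theorem two_perm : ∀ p : ZMod 2 → ZMod 2, Function.Injective p → ∀ a, p (p a) = a := by decide

variable {G : Type u} [Group G] [Finite G] {S : Sylow 2 G} {m : ℕ} [NeZero m]

theorem exists_sign_hom {v : DihedralGroup 2} (hv : v ≠ 1) :
    ∃ ψ : DihedralGroup 2 →* Multiplicative (ZMod 2), ψ v ≠ 1 := by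
  obtain ⟨a, b, ha, hb, hab, h⟩ := exists_sign v hv
  refine ⟨parHom (dvd_refl 2) a b ha hb hab, ?_⟩
  rcases h with ⟨rfl, h⟩ | ⟨rfl, h⟩ | ⟨rfl, h⟩
  · show pw (a * b) (par (dvd_refl 2) (1 : ZMod 2)) ≠ 1
    rw [(DihedralClasses.par_zero_one (dvd_refl 2)).2, pw, if_neg (by decide)]
    exact h
  · rw [parHom_sr, (DihedralClasses.par_zero_one (dvd_refl 2)).1, if_pos rfl]
    exact h
  · rw [parHom_sr, (DihedralClasses.par_zero_one (dvd_refl 2)).2, if_neg (by decide)]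
    exact h

namespace Emb

variable (E : Emb S m 2)

section Four

variable (hm : 4 ∣ m)
include hm

omit S in
theorem central_four {c : Mdl m 2} (hc : c.1 = 1 ∨ c.1 = zz) (d : Mdl m 2) : d * c = c * d := by
  refine Prod.ext ?_ ((Dih.two_eq_cases d.2).2 c.2)
  rcases hc with e | e
  · simp [e]
  · simp [e, Dih.zz_comm hm]

omit S in
theorem invol_four {d : Mdl m 2} (hd : d * d = 1) :
    (d.1 = 1 ∨ d.1 = zz) ∨ ∃ i, d.1 = sr i := by
  rcases Dih.sq_cases hm (congrArg Prod.fst hd) with e | e | e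
  exacts [Or.inl (Or.inl e), Or.inl (Or.inr e), Or.inr e]

omit S in
theorem central_of_commute {c : Mdl m 2} (hc : ∀ d, d * c = c * d) : c.1 = 1 ∨ c.1 = zz :=
  Dih.center_cases hm fun e => by simpa using (congrArg Prod.fst (hc (e, 1))).symm

theorem fus_za_central {c : Mdl m 2} (hc : c.1 = 1 ∨ c.1 = zz) (h : E.Fus (zz, 1) c) :
    c = (zz, 1) := by
  obtain ⟨n, hn, hnc⟩ :=
    E.exists_normalizer_of_fus (zz_left_central hm) (central_four hm hc) h
  obtain ⟨θ, hθi, hθ, -⟩ := E.exists_act hn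
  have hθc : θ (zz, 1) = c := E.inj ((hθ _).trans hnc)
  obtain ⟨q, hq⟩ := Dih.exists_root hm
  have h1 : θ (r q, 1) * θ (r q, 1) = c := by
    rw [← map_mul, Prod.mk_mul_mk, hq, one_mul, hθc]
  have h2 : c * c = 1 := by
    rw [← hθc, ← map_mul, Prod.mk_mul_mk, Dih.zz_mul_self hm, one_mul, Prod.mk_one_one, map_one]
  have hc2 : c.2 = 1 := by
    rw [← h1, Prod.snd_mul]; exact (Dih.two_eq_cases _).1
  rcases hc with e | e
  · exfalso
    exact Dih.zz_ne_one hm (congrArg Prod.fst (hθi (hθc.trans ((Prod.ext e hc2 : c = 1).trans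
      (map_one θ).symm))))
  · exact Prod.ext e hc2

theorem not_fus_mul_za {c : Mdl m 2} (hc : c.1 = 1 ∨ c.1 = zz) (hc2 : c.2 ≠ 1) :
    ¬ E.Fus c (c * (zz, 1)) := by
  intro h
  have hc' : (c * (zz, 1)).1 = 1 ∨ (c * (zz, 1)).1 = zz := by
    rcases hc with e | e
    · right; simp [e]
    · left; simp [e, Dih.zz_mul_self hm]
  obtain ⟨n, hn, hnc⟩ :=
    E.exists_normalizer_of_fus (central_four hm hc) (central_four hm hc') h
  obtain ⟨θ, hθi, hθ, hθF⟩ := E.exists_act hn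
  have hθc : θ c = c * (zz, 1) := E.inj ((hθ _).trans hnc)
  have hθz : θ (zz, 1) = (zz, 1) := by
    refine E.fus_za_central hm (central_of_commute hm fun d => ?_) (hθF _)
    obtain ⟨d', rfl⟩ := (Finite.injective_iff_surjective.1 hθi) d
    rw [← map_mul, ← map_mul, zz_left_central hm]
  have h2 : θ (c * (zz, 1)) = c := by
    rw [map_mul, hθc, hθz, mul_assoc, show ((zz, 1) : Mdl m 2) * (zz, 1) = 1 from
      Prod.ext (Dih.zz_mul_self hm) (one_mul _), mul_one]
  have h3 := E.not_swap (central_four hm hc) hn hnc ((hθ _).symm.trans (congrArg E.hom h2))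
  have h4 := congrArg Prod.fst h3
  rw [Prod.fst_mul] at h4
  exact Dih.zz_ne_one hm (left_eq_mul.1 h4)

/-- Every reflection is fused to a central element. -/
theorem exists_fus_central (h2 : ∀ N : Subgroup G, N.Normal → N.index ≠ 2) (i : ZMod m)
    (w : DihedralGroup 2) : ∃ c, (c.1 = 1 ∨ c.1 = zz) ∧ E.Fus (sr i, w) c := by
  have hm2 : 2 ∣ m := dvd_trans (by norm_num) hm
  obtain ⟨o, ho⟩ : ∃ o, o = Multiplicative.ofAdd (1 : ZMod 2) := ⟨_, rfl⟩
  have ho2 : o * o = 1 := by rw [ho]; decide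
  let χ : Mdl m 2 →* Multiplicative (ZMod 2) :=
    (parHom hm2 o o ho2 ho2 rfl).comp (MonoidHom.fst _ _)
  have hχsr : ∀ (a : ZMod m) (b : DihedralGroup 2), χ (sr a, b) = o := fun a b => by
    show parHom hm2 o o ho2 ho2 rfl (sr a) = o
    rw [parHom_sr, ite_self]
  have hx2 : ((sr i, w) : Mdl m 2) * (sr i, w) = 1 :=
    Prod.ext (DihedralGroup.sr_mul_self i) (Dih.two_eq_cases w).1
  obtain ⟨u, hxu, hu⟩ := E.exists_fus_ker h2 χ hx2 (by rw [hχsr, ho]; decide)
  rcases invol_four hm (hxu.sq hx2) with e | ⟨a, e⟩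
  · exact ⟨u, e, hxu⟩
  · have h3 := hχsr a u.2
    rw [← e, hu, ho] at h3
    exact absurd h3 (by decide)

theorem za_class_noncentral {d : Mdl m 2} (hd : E.Fus d (zz, 1)) (hne : d ≠ (zz, 1)) :
    ∃ a, d.1 = sr a := by
  have hd2 : d * d = 1 := hd.symm.sq (Prod.ext (Dih.zz_mul_self hm) (one_mul _))
  rcases invol_four hm hd2 with e | e
  · exact absurd (E.fus_za_central hm e hd.symm) hne
  · exact e

omit S in
theorem commute_left {i : ZMod m} {w : DihedralGroup 2} {d : Mdl m 2}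
    (h : d * (sr i, w) = (sr i, w) * d) :
    d.1 = 1 ∨ d.1 = zz ∨ d.1 = sr i ∨ d.1 = sr (i + Dih.half m) :=
  Dih.commute_sr_iff hm (by simpa using congrArg Prod.fst h)

omit S in
theorem card_cz (i : ZMod m) (w : DihedralGroup 2) :
    Nat.card (cz ((sr i, w) : Mdl m 2)) =
      4 * Nat.card (DihedralGroup 2) := by
  have h : cz ((sr i, w) : Mdl m 2) =
      (Subgroup.centralizer ({sr i} : Set (DihedralGroup m))).prod ⊤ := by
    ext ⟨a, b⟩
    rw [mem_cz, Subgroup.mem_prod, Subgroup.mem_centralizer_singleton_iff]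
    constructor
    · intro h; exact ⟨by simpa using congrArg Prod.fst h, Subgroup.mem_top _⟩
    · rintro ⟨h, -⟩; exact Prod.ext h ((Dih.two_eq_cases b).2 w)
  rw [h, Nat.card_congr (Subgroup.prodEquiv _ _).toEquiv, Nat.card_prod, Subgroup.card_top,
    (TwoGroups.isKleinFour_centralizer_sr (dvd_trans (by norm_num) hm) i).card_four]

theorem map_za_ne {i : ZMod m} {w : DihedralGroup 2} {c : Mdl m 2} (hc : c.1 = 1 ∨ c.1 = zz)
    (hxc : E.Fus (sr i, w) c) {φ : Mdl m 2 → Mdl m 2}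
    (hmul : ∀ d ∈ cz (sr i, w), ∀ e ∈ cz (sr i, w), φ (d * e) = φ d * φ e)
    (hinj : ∀ d ∈ cz (sr i, w), ∀ e ∈ cz (sr i, w), φ d = φ e → d = e)
    (hφx : φ (sr i, w) = c) (hF : ∀ d ∈ cz (sr i, w), E.Fus d (φ d)) :
    φ (zz, 1) ≠ (zz, 1) := by
  intro h
  have hz : ((zz, 1) : Mdl m 2) ∈ cz (sr i, w) := mem_cz.2 (zz_left_central hm _).symm
  have h1 := hF _ (mul_mem (self_mem_cz _) hz)
  rw [hmul _ (self_mem_cz _) _ hz, hφx, h] at h1
  have h2 : E.Fus (sr i, w) ((sr i, w) * (zz, 1)) := by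
    rw [Prod.mk_mul_mk, Dih.sr_mul_zz hm, mul_one]
    exact E.fus_of_par hm (Dih.par_add_half hm i).symm w
  have h3 : E.Fus c (c * (zz, 1)) := hxc.symm.trans (h2.trans h1)
  by_cases hc2 : c.2 = 1
  · have hcz : c = (zz, 1) := by
      rcases hc with e | e
      · exact absurd (Prod.ext e hc2 : c = 1)
          (hxc.ne_one fun f => Dih.sr_ne_one i (congrArg Prod.fst f))
      · exact Prod.ext e hc2
    exact Dih.sr_ne_zz hm i (congrArg Prod.fst
      (hinj _ (self_mem_cz _) _ hz (hφx.trans (hcz.trans h.symm))))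
  · exact E.not_fus_mul_za hm hc hc2 h3

theorem za_unique {i : ZMod m} {w₁ w₂ : DihedralGroup 2} (h₁ : E.Fus (sr i, w₁) (zz, 1))
    (h₂ : E.Fus (sr i, w₂) (zz, 1)) : w₁ = w₂ := by
  by_contra hne
  refine E.no_two hm h₁ h₂ ?_ (Prod.ext rfl ((Dih.two_eq_cases w₂).2 w₁))
    (fun e => Dih.sr_ne_zz hm i (congrArg Prod.fst e))
    (fun e => hne (congrArg Prod.snd e).symm) (fun e => hne ?_) ?_
  · rw [Prod.mk_mul_mk, mul_one, Dih.sr_mul_zz hm]
    exact (E.fus_of_par hm (Dih.par_add_half hm i) w₂).trans h₂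
  · simpa using (congrArg Prod.snd e).symm
  intro p q hp hq hp1 hq1 hpq hF
  obtain ⟨a, ha⟩ := E.za_class_noncentral hm hp hp1
  obtain ⟨b, hb⟩ := E.za_class_noncentral hm hq hq1
  refine E.fus_za_central hm ?_ hF.symm
  rw [Prod.fst_mul, ha, hb]
  refine Dih.sr_mul_sr_of_commute hm ?_
  have := congrArg Prod.fst hpq
  rwa [Prod.fst_mul, Prod.fst_mul, ha, hb] at this

theorem za_exists (h2 : ∀ N : Subgroup G, N.Normal → N.index ≠ 2) (i : ZMod m) :
    ∃ w, E.Fus (sr i, w) (zz, 1) := by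
  obtain ⟨c, hc, hxc⟩ := E.exists_fus_central hm h2 i 1
  obtain ⟨φ, hmul, hinj, hφx, hF, -⟩ :=
    E.exists_map_cz (E.extremal_of_central (central_four hm hc)) hxc
  have hz : ((zz, 1) : Mdl m 2) ∈ cz (sr i, (1 : DihedralGroup 2)) :=
    mem_cz.2 (zz_left_central hm _).symm
  have hne := E.map_za_ne hm hc hxc hmul hinj hφx hF
  obtain ⟨a, ha⟩ := E.za_class_noncentral hm (hF _ hz).symm hne
  obtain ⟨b, hb⟩ : ∃ b, φ (zz, 1) = (sr a, b) := ⟨_, Prod.ext ha rfl⟩
  have hmap : ∀ d ∈ cz (sr i, (1 : DihedralGroup 2)), φ d ∈ cz (sr a, b) := fun d hd =>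
    mem_cz.2 (by rw [← hb, ← hmul _ hd _ hz, ← hmul _ hz _ hd, zz_left_central hm])
  let ψ : cz (sr i, (1 : DihedralGroup 2)) → cz ((sr a, b) : Mdl m 2) :=
    fun d => ⟨φ d, hmap d d.2⟩
  have hψ : Function.Bijective ψ := by
    rw [Nat.bijective_iff_injective_and_card]
    exact ⟨fun d e h => Subtype.ext (hinj d d.2 e e.2 (congrArg Subtype.val h)),
      by rw [card_cz hm, card_cz hm]⟩
  obtain ⟨⟨d, hd⟩, hdz⟩ := hψ.2 ⟨(zz, 1), mem_cz.2 (zz_left_central hm _).symm⟩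
  have hdz' : φ d = (zz, 1) := congrArg Subtype.val hdz
  have hdF : E.Fus d (zz, 1) := hdz' ▸ hF d hd
  have hdne : d ≠ (zz, 1) := fun e => hne (e ▸ hdz')
  obtain ⟨a', ha'⟩ := E.za_class_noncentral hm hdF hdne
  refine ⟨d.2, ?_⟩
  have hd' : d = (sr a', d.2) := Prod.ext ha' rfl
  rw [hd'] at hdF
  refine (E.fus_of_par hm ?_ d.2).trans hdF
  rcases commute_left hm (mem_cz.1 hd) with e | e | e | e <;> rw [ha'] at e
  · exact absurd e (Dih.sr_ne_one a')
  · exact absurd e (Dih.sr_ne_zz hm a')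
  · rw [DihedralGroup.sr.inj e]
  · rw [DihedralGroup.sr.inj e, Dih.par_add_half hm]

theorem exists_twist_four (h2 : ∀ N : Subgroup G, N.Normal → N.index ≠ 2) :
    ∃ f : Mdl m 2 →* Mdl m 2, Function.Injective f ∧ (∀ i, E.Fus (f (sr i, 1)) (zz, 1)) ∧
      f (zz, 1) = (zz, 1) ∧ ∀ b, f (1, b) = (1, b) := by
  have hm2 : 2 ∣ m := dvd_trans (by norm_num) hm
  obtain ⟨e₀, hF₀⟩ := E.za_exists hm h2 0
  obtain ⟨e₁, hF₁⟩ := E.za_exists hm h2 1
  have hh := fun e : DihedralGroup 2 => Dih.two_eq_cases e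
  refine ⟨twistL (parHom hm2 e₀ e₁ (hh e₀).1 (hh e₁).1 ((hh e₀).2 e₁))
    (parHom_central hm2 (hh e₀).1 (hh e₁).1 ((hh e₀).2 e₁) (hh e₀).2 (hh e₁).2),
    twistL_injective _ _, fun i => ?_, ?_, fun b => ?_⟩
  · rw [twistL_apply, parHom_sr, mul_one]
    rcases TwoGroups.par_eq_zero_or_one (hm := hm2) i with h | h
    · rw [if_pos h]
      exact (E.fus_of_par hm (h.trans (DihedralClasses.par_zero_one hm2).1.symm) e₀).trans hF₀
    · rw [if_neg (by rw [h]; decide)]
      exact (E.fus_of_par hm (h.trans (DihedralClasses.par_zero_one hm2).2.symm) e₁).trans hF₁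
  · rw [twistL_apply, parHom_zz hm, mul_one]
  · rw [twistL_apply, map_one, one_mul]

/-- The class of `za` after adjusting the reflections. -/
theorem class_za_four (hr : ∀ i, E.Fus (sr i, 1) (zz, 1)) (d : Mdl m 2) (hd : E.Fus d (zz, 1)) :
    d = (zz, 1) ∨ ∃ i, d = (sr i, 1) := by
  by_cases hne : d = (zz, 1)
  · exact Or.inl hne
  obtain ⟨a, ha⟩ := E.za_class_noncentral hm hd hne
  have hd' : d = (sr a, d.2) := Prod.ext ha rfl
  rw [hd'] at hd ⊢
  exact Or.inr ⟨a, by rw [E.za_unique hm hd (hr a)]⟩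

/-- A reflection times `w` is fused to `w` or to `za * w`. -/
theorem dichotomy (hr : ∀ i, E.Fus (sr i, 1) (zz, 1)) {i : ZMod m} {w : DihedralGroup 2}
    {c : Mdl m 2} (hc : c.1 = 1 ∨ c.1 = zz) (hxc : E.Fus (sr i, w) c) :
    E.Fus (1, w) ((zz, 1) * c) ∨
      ∃ l, E.Fus (1, w) c ∧ E.Fus (sr l, c.2) c ∧
        ∃ φ : Mdl m 2 → Mdl m 2,
          (∀ d ∈ cz (sr i, w), ∀ e ∈ cz (sr i, w), φ (d * e) = φ d * φ e) ∧
          (∀ d ∈ cz (sr i, w), E.Fus d (φ d)) ∧
          φ (zz, 1) = (sr (l + Dih.half m), 1) := by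
  obtain ⟨φ, hmul, hinj, hφx, hF, -⟩ :=
    E.exists_map_cz (E.extremal_of_central (central_four hm hc)) hxc
  have hne := E.map_za_ne hm hc hxc hmul hinj hφx hF
  have hz : ((zz, 1) : Mdl m 2) ∈ cz (sr i, w) := mem_cz.2 (zz_left_central hm _).symm
  have hx1 : ((sr i, 1) : Mdl m 2) ∈ cz (sr i, w) := mem_cz.2 (Prod.ext rfl (by simp))
  have hxw : ((sr i, 1) : Mdl m 2) * (sr i, w) = (1, w) := by
    rw [Prod.mk_mul_mk, DihedralGroup.sr_mul_self, one_mul]
  rcases E.class_za_four hm hr _ ((hF _ hx1).symm.trans (hr i)) with h | ⟨l, hl⟩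
  · left
    have h1 := hF _ (mul_mem hx1 (self_mem_cz _))
    rwa [hmul _ hx1 _ (self_mem_cz _), hφx, h, hxw] at h1
  · right
    obtain ⟨l', hl'⟩ : ∃ l', φ (zz, 1) = (sr l', 1) :=
      (E.class_za_four hm hr _ (hF _ hz).symm).resolve_left hne
    have hll : l' = l + Dih.half m := by
      have hcomm : φ (zz, 1) * φ (sr i, 1) = φ (sr i, 1) * φ (zz, 1) := by
        rw [← hmul _ hz _ hx1, ← hmul _ hx1 _ hz, zz_left_central hm]
      rw [hl, hl'] at hcomm
      refine (Dih.sr_commute_cases hm (by simpa using congrArg Prod.fst hcomm)).resolve_left ?_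
      rintro rfl
      exact Dih.sr_ne_zz hm i (congrArg Prod.fst (hinj _ hx1 _ hz (hl.trans hl'.symm)))
    subst hll
    -- the image of `(sr i, w) za`
    have h1 := hF _ (mul_mem (self_mem_cz (sr i, w)) hz)
    rw [hmul _ (self_mem_cz _) _ hz, hφx, hl'] at h1
    have h2 : E.Fus (sr i, w) ((sr i, w) * (zz, 1)) := by
      rw [Prod.mk_mul_mk, Dih.sr_mul_zz hm, mul_one]
      exact E.fus_of_par hm (Dih.par_add_half hm i).symm w
    have h3 : E.Fus c (c * (sr (l + Dih.half m), 1)) := hxc.symm.trans (h2.trans h1)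
    have h4 : E.Fus (sr l, c.2) c := by
      have e : c * (sr (l + Dih.half m), 1) =
          (sr (if c.1 = 1 then l + Dih.half m else l), c.2) := by
        refine Prod.ext ?_ (by simp)
        rw [Prod.fst_mul]
        rcases hc with f | f
        · rw [if_pos f, f, one_mul]
        · rw [if_neg (by rw [f]; exact Dih.zz_ne_one hm), f, Dih.zz_mul_sr hm, add_assoc,
            Dih.half_add hm, add_zero]
      rw [e] at h3
      refine (E.fus_of_par hm ?_ c.2).trans h3.symm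
      split <;> simp [Dih.par_add_half hm]
    refine ⟨l, ?_, h4, φ, hmul, hF, hl'⟩
    have h5 := hF _ (mul_mem hx1 (self_mem_cz _))
    rw [hmul _ hx1 _ (self_mem_cz _), hφx, hl, hxw] at h5
    refine h5.trans ?_
    have e : (sr l, 1) * c = (sr (if c.1 = 1 then l else l + Dih.half m), c.2) := by
      refine Prod.ext ?_ (by simp)
      rw [Prod.fst_mul]
      rcases hc with f | f
      · rw [if_pos f, f, mul_one]
      · rw [if_neg (by rw [f]; exact Dih.zz_ne_one hm), f, Dih.sr_mul_zz hm]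
    rw [e]
    refine (E.fus_of_par hm ?_ c.2).trans h4
    split <;> simp [Dih.par_add_half hm]

/-- The four-group factor has fused elements. -/
theorem exists_central_pair (h2 : ∀ N : Subgroup G, N.Normal → N.index ≠ 2)
    (hr : ∀ i, E.Fus (sr i, 1) (zz, 1)) :
    ∃ c c' : Mdl m 2, (c.1 = 1 ∨ c.1 = zz) ∧ (c'.1 = 1 ∨ c'.1 = zz) ∧ c ≠ c' ∧ E.Fus c c' := by
  by_contra hne
  push Not at hne
  have huniq : ∀ c c' : Mdl m 2, (c.1 = 1 ∨ c.1 = zz) → (c'.1 = 1 ∨ c'.1 = zz) →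
      E.Fus c c' → c = c' := fun c c' hc hc' h => by_contra fun e => hne c c' hc hc' e h
  obtain ⟨v, hv1, -⟩ := exists_other 1
  obtain ⟨ψ, hψ⟩ := exists_sign_hom hv1
  let χ : Mdl m 2 →* Multiplicative (ZMod 2) := ψ.comp (MonoidHom.snd _ _)
  have hd2 : (((1 : DihedralGroup m), v) : Mdl m 2) * (1, v) = 1 :=
    Prod.ext (one_mul _) (Dih.two_eq_cases v).1
  obtain ⟨u, hu, hχ⟩ := E.exists_fus_ker h2 χ hd2 hψ
  rcases invol_four hm (hu.sq hd2) with e | ⟨a, e⟩
  · rw [← huniq _ _ (Or.inl rfl) e hu] at hχ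
    exact hψ hχ
  · have hu' : u = (sr a, u.2) := Prod.ext e rfl
    rw [hu'] at hu
    by_cases hw : u.2 = 1
    · rw [hw] at hu
      exact hv1 (congrArg Prod.snd (huniq _ _ (Or.inl rfl) (Or.inr rfl) (hu.trans (hr a))))
    · rcases E.dichotomy hm hr (Or.inl rfl) hu.symm with h | ⟨-, h, -⟩
      · have := congrArg Prod.fst (huniq _ _ (Or.inl rfl) (Or.inr (by simp)) h)
        exact Dih.zz_ne_one hm (by simpa using this.symm)
      · have := congrArg Prod.snd (huniq _ _ (Or.inl rfl) (Or.inl rfl) h)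
        exact hψ (by rw [← show u.2 = v from this]; exact hχ)

/-- An odd automorphism moving the centre. -/
theorem exists_four_act {c c' : Mdl m 2} (hc : c.1 = 1 ∨ c.1 = zz) (hc' : c'.1 = 1 ∨ c'.1 = zz)
    (hne : c ≠ c') (h : E.Fus c c') :
    ∃ (θ : Mdl m 2 →* Mdl m 2) (σ : DihedralGroup 2 →* DihedralGroup m)
      (L : DihedralGroup 2 →* DihedralGroup 2),
      Function.Injective θ ∧ (∀ d, E.Fus d (θ d)) ∧ (∃ o, Odd o ∧ ∀ d, θ^[o] d = d) ∧
      θ (zz, 1) = (zz, 1) ∧ (∀ v, θ (1, v) = (σ v, L v)) ∧ (∀ v, σ v = 1 ∨ σ v = zz) ∧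
      ∀ v, v ≠ 1 → L v ≠ 1 ∧ L v ≠ v ∧ L (L v) ≠ v := by
  obtain ⟨n, hn, hnc⟩ :=
    E.exists_normalizer_of_fus (central_four hm hc) (central_four hm hc') h
  obtain ⟨θ, hθi, hθF, hθc, o, ho, hit⟩ := E.exists_odd_act (central_four hm hc) hn fun hmem =>
    hne (E.inj (by rw [← hnc, mem_cent.1 hmem, mul_inv_cancel_right]))
  have hsurj := Finite.injective_iff_surjective.1 hθi
  have hcen : ∀ d : Mdl m 2, (d.1 = 1 ∨ d.1 = zz) → (θ d).1 = 1 ∨ (θ d).1 = zz := fun d hd =>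
    central_of_commute hm fun e => by
      obtain ⟨e, rfl⟩ := hsurj e
      rw [← map_mul, ← map_mul, central_four hm hd]
  have hθz : θ (zz, 1) = (zz, 1) := E.fus_za_central hm (hcen _ (Or.inr rfl)) (hθF _)
  let σ : DihedralGroup 2 →* DihedralGroup m :=
    (MonoidHom.fst _ _).comp (θ.comp (MonoidHom.inr _ _))
  let L : DihedralGroup 2 →* DihedralGroup 2 :=
    (MonoidHom.snd _ _).comp (θ.comp (MonoidHom.inr _ _))
  have hσ : ∀ v, σ v = 1 ∨ σ v = zz := fun v => hcen (1, v) (Or.inl rfl)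
  have hθv : ∀ v, θ (1, v) = (σ v, L v) := fun v => rfl
  have hθa : ∀ a v, (a = 1 ∨ a = zz) → θ (a, v) = (a * σ v, L v) := by
    intro a v ha
    rcases ha with rfl | rfl
    · rw [hθv, one_mul]
    · rw [show ((zz, v) : Mdl m 2) = (zz, 1) * (1, v) by simp, map_mul, hθz, hθv, Prod.mk_mul_mk,
        one_mul]
  have hL1 : ∀ v, v ≠ 1 → L v ≠ 1 := by
    intro v hv hL
    refine hv (congrArg Prod.snd (hθi (a₁ := (1, v)) (a₂ := (σ v, 1)) ?_))
    rw [hθv, hL, hθa _ _ (hσ v), map_one, mul_one, map_one]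
  refine ⟨θ, σ, L, hθi, hθF, ⟨o, ho, hit⟩, hθz, hθv, hσ, ?_⟩
  by_contra hcon
  push Not at hcon
  obtain ⟨v, hv, hfix⟩ := hcon
  -- some nontrivial element is fixed by `L`
  obtain ⟨u, hu1, hu⟩ : ∃ u, u ≠ 1 ∧ L u = u := by
    by_cases h1 : L v = v
    · exact ⟨v, hv, h1⟩
    · refine ⟨v * L v, (four_ne v (L v) hv (hL1 v hv) (Ne.symm h1)).1, ?_⟩
      rw [map_mul, hfix (hL1 v hv) h1, (Dih.two_eq_cases _).2 v]
  -- then `L` is an involution
  have hLL : ∀ w, L (L w) = w := by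
    intro w
    by_cases hw1 : w = 1
    · rw [hw1, map_one, map_one]
    by_cases hwu : w = u
    · rw [hwu, hu, hu]
    by_cases hwf : L w = u
    · exfalso
      refine hL1 (w * u) (four_ne w u hw1 hu1 hwu).1 ?_
      rw [map_mul, hwf, hu, (Dih.two_eq_cases u).1]
    rcases four_third u w (L w) hu1 hw1 (Ne.symm hwu) (hL1 w hw1) hwf with e | e
    · rw [e, e]
    · rw [e, map_mul, hu, e, ← mul_assoc, (Dih.two_eq_cases u).1, one_mul]
  have hit2 : ∀ (j : ℕ) (a : DihedralGroup m) (v : DihedralGroup 2), (a = 1 ∨ a = zz) →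
      (θ^[j] (a, v)).2 = L^[j] v ∧ ((θ^[j] (a, v)).1 = 1 ∨ (θ^[j] (a, v)).1 = zz) := by
    intro j
    induction j with
    | zero => intro a v ha; exact ⟨rfl, ha⟩
    | succ j ih =>
      intro a v ha
      rw [Function.iterate_succ_apply, Function.iterate_succ_apply, hθa a v ha]
      refine ih _ _ ?_
      rcases ha with rfl | rfl <;> rcases hσ v with e | e <;> simp [e, Dih.zz_mul_self hm]
  obtain ⟨p, hp⟩ := ho
  have hLid : ∀ w, L w = w := by
    intro w
    have h1 := (hit2 o 1 w (Or.inl rfl)).1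
    rw [hit, hp, Function.iterate_add_apply, Function.iterate_mul] at h1
    have h2 : (L^[2]) = id := funext fun w => hLL w
    rw [h2, Function.iterate_id, id, Function.iterate_one] at h1
    exact h1.symm
  -- so `θ` fixes the centre
  have hfix2 : ∀ v, θ (θ (1, v)) = (1, v) := by
    intro v
    rw [hθv, hθa _ _ (hσ v), hLid, hLid]
    rcases hσ v with e | e <;> simp [e, Dih.zz_mul_self hm]
  have hfix1 : ∀ v, θ (1, v) = (1, v) := by
    intro v
    have h1 := hit (1, v)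
    rw [hp, Function.iterate_add_apply, Function.iterate_one, Function.iterate_mul] at h1
    have h2 : (θ^[2])^[p] (θ (1, v)) = θ (1, v) :=
      Function.iterate_fixed (by exact congrArg θ (hfix2 v)) p
    rwa [h2] at h1
  refine hθc ?_
  obtain ⟨c₁, c₂⟩ := c
  rw [show ((c₁, c₂) : Mdl m 2) = (c₁, 1) * (1, c₂) by simp, map_mul, hfix1]
  rcases hc with e | e
  · obtain rfl : c₁ = 1 := e
    rw [Prod.mk_one_one, map_one]
  · obtain rfl : c₁ = zz := e
    rw [hθz]

theorem exists_twist_right {c c' : Mdl m 2} (hc : c.1 = 1 ∨ c.1 = zz)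
    (hc' : c'.1 = 1 ∨ c'.1 = zz) (hne : c ≠ c') (h : E.Fus c c') :
    ∃ f : Mdl m 2 →* Mdl m 2, Function.Injective f ∧
      ∀ a, (a = 1 ∨ a = zz) → ∀ v w, v ≠ 1 → w ≠ 1 → E.Fus (f (a, v)) (f (a, w)) := by
  obtain ⟨θ, σ, L, -, hθF, -, hθz, hθv, hσ, hL⟩ := E.exists_four_act hm hc hc' hne h
  obtain ⟨ϑ, hϑ⟩ : ∃ ϑ, ϑ = σ.comp L := ⟨_, rfl⟩
  have hcen : ∀ b a, ϑ b * a = a * ϑ b := fun b a => by
    rw [hϑ]
    rcases hσ (L b) with e | e <;> simp [e, Dih.zz_comm hm]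
  refine ⟨twistR ϑ hcen, twistR_injective _ _, fun a ha => ?_⟩
  have key : ∀ v, v ≠ 1 → θ (twistR ϑ hcen (a, v)) = twistR ϑ hcen (a, L v) := by
    intro v hv
    have h1 : v * L v * L (L v) = 1 := by
      obtain ⟨hv1, hv2, hv3⟩ := hL v hv
      exact four_cycle v (L v) (L (L v)) hv hv1 (hL (L v) hv1).1 (Ne.symm hv2) hv3
        (hL (L v) hv1).2.1
    have h2 : L (L v) = L v * v := by
      have h3 := eq_inv_of_mul_eq_one_right h1
      rwa [mul_inv_rev, inv_eq_self_of_sq (Dih.two_eq_cases v).1,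
        inv_eq_self_of_sq (Dih.two_eq_cases (L v)).1] at h3
    rw [twistR_apply, twistR_apply,
      show ((ϑ v * a, v) : Mdl m 2) = (ϑ v * a, 1) * (1, v) by simp, map_mul, hθv]
    have h4 : θ (ϑ v * a, 1) = (ϑ v * a, 1) := by
      rcases (show ϑ v * a = 1 ∨ ϑ v * a = zz by
        rw [hϑ]
        rcases hσ (L v) with e | e <;> rcases ha with f | f <;>
          simp [e, f, Dih.zz_mul_self hm]) with e | e <;> rw [e]
      · rw [Prod.mk_one_one, map_one]
      · exact hθz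
    rw [h4, Prod.mk_mul_mk, one_mul, hϑ]
    refine Prod.ext ?_ rfl
    show σ (L v) * a * σ v = σ (L (L v)) * a
    rw [h2, map_mul]
    rcases hσ v with e | e <;> rcases ha with f | f <;> simp [e, f, mul_assoc]
  intro v w hv hw
  have h1 : ∀ v, v ≠ 1 → E.Fus (twistR ϑ hcen (a, v)) (twistR ϑ hcen (a, L v)) := fun v hv =>
    key v hv ▸ hθF _
  obtain ⟨hv1, hv2, hv3⟩ := hL v hv
  by_cases e1 : w = v
  · rw [e1]; exact E.fus_refl _
  rcases four_third v (L v) w hv hv1 (Ne.symm hv2) hw e1 with e | e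
  · rw [e]; exact h1 v hv
  · have h2 : L (L v) = v * L v := by
      rcases four_third v (L v) (L (L v)) hv hv1 (Ne.symm hv2) (hL _ hv1).1 hv3 with f | f
      · exact absurd f (hL _ hv1).2.1
      · exact f
    rw [e, ← h2]
    exact (h1 v hv).trans (h1 _ hv1)

/-- Reflections times non-trivial elements of the four-group are fused within each parity. -/
theorem refl_const (hr : ∀ i, E.Fus (sr i, 1) (zz, 1))
    (hb : ∀ v w, v ≠ 1 → w ≠ 1 → E.Fus (1, v) (1, w)) (i : ZMod m) {v w : DihedralGroup 2}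
    (hv : v ≠ 1) (hw : w ≠ 1) : E.Fus (sr i, v) (sr i, w) := by
  have hm2 : 2 ∣ m := dvd_trans (by norm_num) hm
  obtain ⟨u, hu1, huv⟩ := exists_other v
  obtain ⟨θ, σ, L, hθi, hθF, ⟨o, ho, hit⟩, hθz, hθv, hσ, hL⟩ :=
    E.exists_four_act hm (c := (1, v)) (c' := (1, u)) (Or.inl rfl) (Or.inl rfl)
      (fun e => huv (congrArg Prod.snd e).symm) (hb v u hv hu1)
  -- the action on the parities
  have hrefl : ∀ i, ∃ i', θ (sr i, 1) = (sr i', 1) := by
    intro i
    refine (E.class_za_four hm hr _ ((hθF _).symm.trans (hr i))).resolve_left fun e => ?_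
    exact Dih.sr_ne_zz hm i (congrArg Prod.fst (hθi (e.trans hθz.symm)))
  choose π hπ using hrefl
  have hπpar : ∀ i j, par hm2 i = par hm2 j → par hm2 (π i) = par hm2 (π j) := by
    intro i j hij
    obtain ⟨g, hg⟩ := TwoGroups.exists_conj_sr hij
    have h1 : θ ((g, 1) * (sr i, 1) * (g, 1)⁻¹) = θ (sr j, 1) :=
      congrArg θ (Prod.ext (by simpa using hg) (by simp))
    rw [map_mul, map_mul, map_inv, hπ, hπ] at h1
    exact (TwoGroups.par_conj hm2 _ _ _ (by simpa using congrArg Prod.fst h1)).symm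
  have hrep : ∀ e : ZMod 2, ∃ i : ZMod m, par hm2 i = e := by
    intro e
    have h : e = 0 ∨ e = 1 := by revert e; decide
    rcases h with rfl | rfl
    exacts [⟨0, (DihedralClasses.par_zero_one hm2).1⟩, ⟨1, (DihedralClasses.par_zero_one hm2).2⟩]
  choose rep hrep using hrep
  obtain ⟨p, hp⟩ : ∃ p : ZMod 2 → ZMod 2, ∀ i, par hm2 (π i) = p (par hm2 i) :=
    ⟨fun e => par hm2 (π (rep e)), fun i => hπpar i _ (hrep _).symm⟩
  have hπit : ∀ (j : ℕ) (i : ZMod m), θ^[j] (sr i, 1) = (sr (π^[j] i), 1) ∧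
      par hm2 (π^[j] i) = p^[j] (par hm2 i) := by
    intro j
    induction j with
    | zero => intro i; exact ⟨rfl, rfl⟩
    | succ j ih =>
      intro i
      rw [Function.iterate_succ_apply, hπ, Function.iterate_succ_apply,
        Function.iterate_succ_apply, ← hp]
      exact ih (π i)
  have hpo : ∀ e, p^[o] e = e := by
    intro e
    have h1 := (hπit o (rep e)).1
    rw [hit] at h1
    have h2 := (hπit o (rep e)).2
    rw [← DihedralGroup.sr.inj (congrArg Prod.fst h1), hrep] at h2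
    exact h2.symm
  obtain ⟨q, hq⟩ := ho
  have hpinj : Function.Injective p := fun a b h => by
    rw [← hpo a, ← hpo b, hq, Function.iterate_add_apply, Function.iterate_add_apply,
      Function.iterate_one, h]
  have hpid : ∀ e, p e = e := by
    intro e
    have h1 := hpo e
    rw [hq, Function.iterate_add_apply, Function.iterate_one, Function.iterate_mul,
      show p^[2] = id from funext fun a => two_perm p hpinj a, Function.iterate_id, id] at h1
    exact h1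
  have hstep : ∀ v, v ≠ 1 → E.Fus (sr i, v) (sr i, L v) := by
    intro v hv
    have h1 := hθF (sr i, v)
    rw [show ((sr i, v) : Mdl m 2) = (sr i, 1) * (1, v) by simp, map_mul, hπ, hθv] at h1
    simp only [Prod.mk_mul_mk, mul_one, one_mul] at h1
    refine h1.trans ?_
    rcases hσ v with e | e <;> rw [e]
    · rw [mul_one]; exact E.fus_of_par hm (by rw [hp, hpid]) _
    · rw [Dih.sr_mul_zz hm]; exact E.fus_of_par hm (by rw [Dih.par_add_half hm, hp, hpid]) _
  obtain ⟨hv1, hv2, hv3⟩ := hL v hv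
  by_cases e1 : w = v
  · rw [e1]; exact E.fus_refl _
  rcases four_third v (L v) w hv hv1 (Ne.symm hv2) hw e1 with e | e
  · rw [e]; exact hstep v hv
  · have h2 : L (L v) = v * L v := by
      rcases four_third v (L v) (L (L v)) hv hv1 (Ne.symm hv2) (hL _ hv1).1 hv3 with f | f
      · exact absurd f (hL _ hv1).2.1
      · exact f
    rw [e, ← h2]
    exact (hstep v hv).trans (hstep _ hv1)

theorem not_fus_b_c (hb : ∀ a, (a = 1 ∨ a = zz) → ∀ v w, v ≠ 1 → w ≠ 1 → E.Fus (a, v) (a, w))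
    {v w : DihedralGroup 2} (hv : v ≠ 1) (hw : w ≠ 1) : ¬ E.Fus (1, v) (zz, w) := by
  intro h
  refine E.not_fus_mul_za hm (c := (1, v)) (Or.inl rfl) hv ?_
  rw [Prod.mk_mul_mk, one_mul, mul_one]
  exact h.trans (hb zz (Or.inr rfl) w v hw hv)

/-- The class of a non-trivial element of the four-group. -/
theorem class_four (h2 : ∀ N : Subgroup G, N.Normal → N.index ≠ 2)
    (hr : ∀ i, E.Fus (sr i, 1) (zz, 1))
    (hb : ∀ a, (a = 1 ∨ a = zz) → ∀ v w, v ≠ 1 → w ≠ 1 → E.Fus (a, v) (a, w))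
    {v : DihedralGroup 2} (hv : v ≠ 1) (d : Mdl m 2) (hd : E.Fus d (1, v)) : d.1 = 1 := by
  have hv2 : ((1, v) : Mdl m 2) * (1, v) = 1 := Prod.ext (one_mul _) (Dih.two_eq_cases v).1
  have hv1 : ((1, v) : Mdl m 2) ≠ 1 := fun e => hv (congrArg Prod.snd e)
  have hnza : ∀ d, E.Fus d (1, v) → ¬ E.Fus d (zz, 1) := fun d h h' =>
    hv (congrArg Prod.snd (E.fus_za_central hm (Or.inl rfl) (h'.symm.trans h)))
  have hcentral : ∀ d : Mdl m 2, (d.1 = 1 ∨ d.1 = zz) → E.Fus d (1, v) → d.1 = 1 := by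
    intro d hd hF
    refine hd.resolve_right fun e => ?_
    have hd' : d = (zz, d.2) := Prod.ext e rfl
    rw [hd'] at hF
    by_cases hw : d.2 = 1
    · rw [hw] at hF; exact hnza _ hF (E.fus_refl _)
    · exact E.not_fus_b_c hm hb hv hw hF.symm
  rcases invol_four hm (hd.symm.sq hv2) with e | ⟨i, e⟩
  · exact hcentral d e hd
  exfalso
  have hd' : d = (sr i, d.2) := Prod.ext e rfl
  rw [hd'] at hd
  have hw : d.2 ≠ 1 := fun e' => hnza _ hd (by rw [e']; exact hr i)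
  rcases E.dichotomy hm hr (Or.inl rfl) hd with h | ⟨l, -, hl, φ, hmul, hF, hφz⟩
  · rw [Prod.mk_mul_mk, mul_one, one_mul] at h
    exact E.not_fus_b_c hm hb hw hv h
  -- the images of `(zz, u)` are central
  have himg : ∀ u, u ≠ 1 → ((zz, u) : Mdl m 2) ∈ cz (sr i, d.2) ∧
      (φ (zz, u)).1 = zz := by
    intro u hu
    have hmem : ((zz, u) : Mdl m 2) ∈ cz (sr i, d.2) :=
      mem_cz.2 (central_four hm (Or.inr rfl) _).symm
    refine ⟨hmem, ?_⟩
    have hF' := hF _ hmem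
    have hu2 : ((zz, u) : Mdl m 2) * (zz, u) = 1 :=
      Prod.ext (Dih.zz_mul_self hm) (Dih.two_eq_cases u).1
    rcases invol_four hm (hF'.sq hu2) with f | ⟨a, f⟩
    · refine f.resolve_left fun g => ?_
      have hφ' : φ (zz, u) = (1, (φ (zz, u)).2) := Prod.ext g rfl
      rw [hφ'] at hF'
      by_cases hx : (φ (zz, u)).2 = 1
      · rw [hx] at hF'
        exact hF'.ne_one (fun e => hu (congrArg Prod.snd e)) rfl
      · exact E.not_fus_b_c hm hb hx hu hF'.symm
    · exfalso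
      have hφ' : φ (zz, u) = (sr a, (φ (zz, u)).2) := Prod.ext f rfl
      have hza : ((zz, 1) : Mdl m 2) ∈ cz (sr i, d.2) := mem_cz.2 (zz_left_central hm _).symm
      have hpar : par (dvd_trans (by norm_num) hm : 2 ∣ m) a =
          par (dvd_trans (by norm_num) hm : 2 ∣ m) l := by
        have hc : φ (zz, u) * φ (zz, 1) = φ (zz, 1) * φ (zz, u) := by
          rw [← hmul _ hmem _ hza, ← hmul _ hza _ hmem, zz_left_central hm]
        rw [hφz, hφ'] at hc
        rcases Dih.sr_commute_cases hm (by simpa using congrArg Prod.fst hc) with g | g <;>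
          rw [g] <;> simp [Dih.par_add_half hm]
      rw [hφ'] at hF'
      have hF2 := hF'.trans (E.fus_of_par hm hpar _)
      by_cases hx : (φ (zz, u)).2 = 1
      · rw [hx] at hF2
        exact hu (congrArg Prod.snd
          (E.fus_za_central hm (c := (zz, u)) (Or.inr rfl) (hF2.trans (hr l)).symm))
      · exact E.not_fus_b_c hm hb hv hu
          ((hF2.trans ((E.refl_const hm hr (hb 1 (Or.inl rfl)) l hx hv).trans hl)).symm)
  obtain ⟨u, hu1, huv⟩ := exists_other v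
  have huv' : u * v ≠ 1 := (four_ne u v hu1 hv huv).1
  obtain ⟨m1, f1⟩ := himg u hu1
  obtain ⟨m2, f2⟩ := himg v hv
  obtain ⟨m3, f3⟩ := himg (u * v) huv'
  have hprod : ((zz, u) : Mdl m 2) * (zz, v) * (zz, u * v) = (zz, 1) := by
    rw [Prod.mk_mul_mk, Prod.mk_mul_mk, Dih.zz_mul_self hm, one_mul,
      (Dih.two_eq_cases (u * v)).1]
  have h1 := congrArg Prod.fst (show φ ((zz, u) * (zz, v) * (zz, u * v)) = φ (zz, 1) by rw [hprod])
  rw [hmul _ (mul_mem m1 m2) _ m3, hmul _ m1 _ m2, hφz, Prod.fst_mul, Prod.fst_mul, f1, f2, f3,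
    Dih.zz_mul_self hm, one_mul] at h1
  exact Dih.sr_ne_zz hm _ h1.symm

include E in
/-- The factorisation with strongly closed factors. -/
theorem exists_closed_four (h2 : ∀ N : Subgroup G, N.Normal → N.index ≠ 2) :
    ∃ E' : Emb S m 2, Cfsg.IsStronglyClosed E'.left (S : Subgroup G) ∧
      Cfsg.IsStronglyClosed E'.right (S : Subgroup G) := by
  obtain ⟨f₁, hf₁, hr₁, hz₁, -⟩ := E.exists_twist_four hm h2
  obtain ⟨E₁, hE₁⟩ : ∃ E₁, E₁ = E.comp f₁ hf₁ := ⟨_, rfl⟩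
  have hr : ∀ i, E₁.Fus (sr i, 1) (zz, 1) := fun i => by
    rw [hE₁, comp_fus, hz₁]; exact hr₁ i
  obtain ⟨c, c', hc, hc', hne, hF⟩ := E₁.exists_central_pair hm h2 hr
  obtain ⟨f₂, hf₂, hb₂⟩ := E₁.exists_twist_right hm hc hc' hne hF
  obtain ⟨E₂, hE₂⟩ : ∃ E₂, E₂ = E₁.comp f₂ hf₂ := ⟨_, rfl⟩
  obtain ⟨f₃, hf₃, hr₃, hz₃, hb₃⟩ := E₂.exists_twist_four hm h2
  obtain ⟨E₃, hE₃⟩ : ∃ E₃, E₃ = E₂.comp f₃ hf₃ := ⟨_, rfl⟩
  have hr' : ∀ i, E₃.Fus (sr i, 1) (zz, 1) := fun i => by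
    rw [hE₃, comp_fus, hz₃]; exact hr₃ i
  have hb : ∀ a, (a = 1 ∨ a = zz) → ∀ v w, v ≠ 1 → w ≠ 1 → E₃.Fus (a, v) (a, w) := by
    intro a ha v w hv hw
    have hf : ∀ b, f₃ (a, b) = (a, b) := fun b => by
      rw [show ((a, b) : Mdl m 2) = (a, 1) * (1, b) by simp, map_mul, hb₃]
      rcases ha with rfl | rfl
      · rw [Prod.mk_one_one, map_one]
      · rw [hz₃]
    rw [hE₃, comp_fus, hf, hf, hE₂, comp_fus]
    exact hb₂ a ha v w hv hw
  refine ⟨E₃, E₃.isStronglyClosed_left hm (E₃.class_za_four hm hr') hr', E₃.product.1.2.1, ?_⟩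
  rintro _ ⟨v, rfl⟩ g hg
  obtain ⟨d, hd⟩ := E₃.exists_pre hg
  have hF : E₃.Fus (1, v) d := isConj_iff.2 ⟨g, hd.symm⟩
  rw [← hd]
  by_cases hv : v = 1
  · subst hv
    by_cases hd1 : d = 1
    · rw [hd1, map_one]; exact one_mem _
    · exact absurd rfl (hF.symm.ne_one hd1)
  · exact ⟨d.2, congrArg E₃.hom (Prod.ext (E₃.class_four hm h2 hr' hb hv d hF.symm).symm rfl)⟩

end Four

end Emb

end CfsgLib.ProductFusion.DD
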