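import Cfsg.Agent.ProductFusion.DihedralFusion

/-!
# Strong closure of a dihedral factor from the class of its central involution
-/

set_option autoImplicit false
set_option linter.style.haveILetI false
set_option linter.unusedSectionVars false

namespace CfsgLib.ProductFusion.DD

open DihedralGroup (r sr)
open CfsgLib.DihedralClasses (zz)

universe u

variable {G : Type u} [Group G] [Finite G] {S : Sylow 2 G} {m k : ℕ} [NeZero m] [NeZero k]

namespace Emb

variable (E : Emb S m k)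

/-- A rotation of the first factor fused to `w` with second coordinate an involution. -/
theorem rot_core (hm : 4 ∣ m)
    (hK : ∀ d, E.Fus d (zz, 1) → d = (zz, 1) ∨ ∃ i, d = (sr i, 1))
    (hr : ∀ i, E.Fus (sr i, 1) (zz, 1)) {i j : ZMod m} {β : DihedralGroup k}
    (hw : E.Fus (r i, β) (r j, 1)) (hj : r j * r j ≠ (1 : DihedralGroup m)) (hβ : β * β = 1) :
    β = 1 := by
  obtain ⟨a₀, ha₀⟩ : ∃ a₀ : Mdl m k, a₀ = (r j, 1) := ⟨_, rfl⟩
  rw [← ha₀] at hw
  obtain ⟨g₀, hg₀⟩ := isConj_iff.1 hw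
  obtain ⟨K, hK'⟩ : ∃ K, K = Subgroup.normalizer
      ((Subgroup.zpowers (E.hom a₀) : Subgroup G) : Set G) := ⟨_, rfl⟩
  have hSK : (S : Subgroup G) ≤ K := by
    intro s hs
    obtain ⟨⟨c, b⟩, rfl⟩ := E.exists_pre hs
    rw [hK']
    have key : ∀ (c : DihedralGroup m) (b : DihedralGroup k),
        E.hom (c, b) * E.hom a₀ * (E.hom (c, b))⁻¹ ∈ Subgroup.zpowers (E.hom a₀) := by
      intro c b
      rw [← map_inv, ← map_mul, ← map_mul]
      have h : (c, b) * a₀ * (c, b)⁻¹ = a₀ ∨ (c, b) * a₀ * (c, b)⁻¹ = a₀⁻¹ := by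
        rw [ha₀]
        rcases c with c | c
        · left
          refine Prod.ext ?_ (by simp)
          show r c * r j * (r c)⁻¹ = r j
          rw [DihedralGroup.inv_r, DihedralGroup.r_mul_r, DihedralGroup.r_mul_r]
          congr 1; ring
        · right
          refine Prod.ext ?_ (by simp)
          show sr c * r j * (sr c)⁻¹ = (r j)⁻¹
          rw [DihedralGroup.inv_sr, DihedralGroup.inv_r, DihedralGroup.sr_mul_r,
            DihedralGroup.sr_mul_sr]
          congr 1; ring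
      rcases h with h | h <;> rw [h]
      · exact Subgroup.mem_zpowers _
      · rw [map_inv]; exact inv_mem (Subgroup.mem_zpowers _)
    have key2 : ∀ y, y ∈ (S : Subgroup G) → ∀ x ∈ Subgroup.zpowers (E.hom a₀),
        y * x * y⁻¹ ∈ Subgroup.zpowers (E.hom a₀) := by
      intro y hy x hx
      obtain ⟨⟨c, b⟩, rfl⟩ := E.exists_pre hy
      obtain ⟨n, rfl⟩ := Subgroup.mem_zpowers_iff.1 hx
      rw [← conj_zpow]
      exact zpow_mem (key c b) n
    exact mem_normalizer_of_conj_mem (key2 _ hs) (key2 _ (inv_mem hs))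
  obtain ⟨x, hxdef⟩ : ∃ x : Mdl m k, x = (sr 0, 1) := ⟨_, rfl⟩
  have hβi : β⁻¹ = β := inv_eq_of_mul_eq_one_right hβ
  have hxw : x * (r i, β) * x⁻¹ = (r i, β)⁻¹ := by
    rw [hxdef]
    refine Prod.ext ?_ ?_
    · show sr 0 * r i * (sr 0)⁻¹ = (r i)⁻¹
      rw [DihedralGroup.inv_sr, DihedralGroup.inv_r, DihedralGroup.sr_mul_r,
        DihedralGroup.sr_mul_sr]
      congr 1; ring
    · show 1 * β * 1⁻¹ = β⁻¹
      rw [hβi]; simp
  obtain ⟨U, hU⟩ : ∃ U, U = Subgroup.closure ({x, (r i, β)} : Set (Mdl m k)) := ⟨_, rfl⟩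
  have hUK : ∀ d ∈ U, g₀ * E.hom d * g₀⁻¹ ∈ K := by
    have hle : U ≤ K.comap ((MulAut.conj g₀).toMonoidHom.comp E.hom) := by
      rw [hU, Subgroup.closure_le]
      have hwK : g₀ * E.hom (r i, β) * g₀⁻¹ ∈ K := by
        rw [hg₀, hK']; exact Subgroup.le_normalizer (Subgroup.mem_zpowers _)
      rintro d (rfl | rfl)
      · show g₀ * E.hom d * g₀⁻¹ ∈ K
        have hinv : g₀ * E.hom d * g₀⁻¹ * E.hom a₀ * (g₀ * E.hom d * g₀⁻¹)⁻¹ =
            (E.hom a₀)⁻¹ := by
          rw [← hg₀, show g₀ * E.hom d * g₀⁻¹ * (g₀ * E.hom (r i, β) * g₀⁻¹) *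
            (g₀ * E.hom d * g₀⁻¹)⁻¹ =
              g₀ * (E.hom d * E.hom (r i, β) * (E.hom d)⁻¹) * g₀⁻¹ by group,
            ← map_inv, ← map_mul, ← map_mul, hxw, map_inv]
          group
        rw [hK']
        refine mem_normalizer_of_conj_mem (fun y hy => ?_) (fun y hy => ?_)
        · obtain ⟨n, rfl⟩ := Subgroup.mem_zpowers_iff.1 hy
          rw [← conj_zpow, hinv]
          exact zpow_mem (inv_mem (Subgroup.mem_zpowers _)) n
        · obtain ⟨n, rfl⟩ := Subgroup.mem_zpowers_iff.1 hy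
          have h2 : (g₀ * E.hom d * g₀⁻¹)⁻¹ * E.hom a₀ * (g₀ * E.hom d * g₀⁻¹)⁻¹⁻¹ =
              (E.hom a₀)⁻¹ := by
            calc (g₀ * E.hom d * g₀⁻¹)⁻¹ * E.hom a₀ * (g₀ * E.hom d * g₀⁻¹)⁻¹⁻¹
                = (g₀ * E.hom d * g₀⁻¹)⁻¹ *
                  ((g₀ * E.hom d * g₀⁻¹ * E.hom a₀ * (g₀ * E.hom d * g₀⁻¹)⁻¹)⁻¹) *
                  (g₀ * E.hom d * g₀⁻¹) := by rw [hinv]; group
              _ = (E.hom a₀)⁻¹ := by group
          rw [← conj_zpow, h2]
          exact zpow_mem (inv_mem (Subgroup.mem_zpowers _)) n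
      · exact hwK
    exact fun d hd => hle hd
  obtain ⟨V, hV⟩ : ∃ V, V = (U.map E.hom).map (MulAut.conj g₀).toMonoidHom := ⟨_, rfl⟩
  have hVp : IsPGroup 2 V :=
    hV ▸ (S.isPGroup'.to_le ((Subgroup.map_le_range _ _).trans E.range_eq.le)).map _
  obtain ⟨Q, hQ⟩ := (hVp.comap_of_injective K.subtype
    (Subgroup.subtype_injective _)).exists_le_sylow
  haveI : Fact (Nat.Prime 2) := ⟨Nat.prime_two⟩
  obtain ⟨h, hh⟩ := MulAction.exists_smul_eq K Q (S.subtype hSK)
  obtain ⟨φ, h1, -, h3, h4⟩ := E.exists_map U ((h : G) * g₀) fun d hd => by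
    have hm1 : h * ⟨_, hUK d hd⟩ * h⁻¹ ∈ ((S.subtype hSK : Sylow 2 K) : Subgroup K) := by
      rw [← hh, Sylow.coe_subgroup_smul]
      exact ⟨_, hQ (show g₀ * E.hom d * g₀⁻¹ ∈ V from hV ▸ ⟨_, ⟨d, hd, rfl⟩, rfl⟩), rfl⟩
    have hm2 : (h : G) * (g₀ * E.hom d * g₀⁻¹) * (h : G)⁻¹ ∈ (S : Subgroup G) := hm1
    rwa [show (h : G) * g₀ * E.hom d * ((h : G) * g₀)⁻¹ =
      h * (g₀ * E.hom d * g₀⁻¹) * (h : G)⁻¹ by group]
  have hwU : (r i, β) ∈ U := hU ▸ Subgroup.subset_closure (Or.inr rfl)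
  have hxU : x ∈ U := hU ▸ Subgroup.subset_closure (Or.inl rfl)
  obtain ⟨j', hj'⟩ : ∃ j', φ (r i, β) = (r j', 1) := by
    have hmem : E.hom (φ (r i, β)) ∈ Subgroup.zpowers (E.hom a₀) := by
      rw [h3 _ hwU, show (h : G) * g₀ * E.hom (r i, β) * ((h : G) * g₀)⁻¹ =
        h * (g₀ * E.hom (r i, β) * g₀⁻¹) * (h : G)⁻¹ by group, hg₀]
      exact (Subgroup.mem_normalizer_iff.1 (hK'.le h.2) _).1 (Subgroup.mem_zpowers _)
    obtain ⟨n, hn⟩ := Subgroup.mem_zpowers_iff.1 hmem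
    rw [← map_zpow, ha₀] at hn
    rw [← E.inj hn]
    exact ⟨n * j, Prod.ext (by simp [DihedralGroup.r_zpow, mul_comm]) (by simp)⟩
  have hj'2 : r j' * r j' ≠ (1 : DihedralGroup m) := by
    intro hsq
    have h5 : E.Fus (r j', 1) (r j, 1) := (hj' ▸ h4 _ hwU).symm.trans (ha₀ ▸ hw)
    exact hj (congrArg Prod.fst (h5.sq (Prod.ext hsq (one_mul 1))))
  have hφw : φ (x * (r i, β) * x⁻¹) = (φ (r i, β))⁻¹ := by
    rw [hxw]
    have h5 := h1 _ (inv_mem hwU) _ hwU
    rw [inv_mul_cancel] at h5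
    have h6 := h1 _ (one_mem U) _ (one_mem U)
    rw [one_mul] at h6
    rw [left_eq_mul.1 h6] at h5
    exact eq_inv_of_mul_eq_one_left h5.symm
  obtain ⟨l, hl⟩ : ∃ l, φ x = (sr l, 1) := by
    refine (hK _ (((h4 x hxU).symm).trans (hxdef ▸ hr 0))).resolve_left fun he => ?_
    have h5 := h1 _ (mul_mem hxU hwU) _ (inv_mem hxU)
    have h7 := h1 x hxU _ hwU
    have h8 := h1 _ hxU _ (inv_mem hxU)
    have h6 := h1 _ (one_mem U) _ (one_mem U)
    rw [one_mul] at h6
    rw [mul_inv_cancel, left_eq_mul.1 h6, he] at h8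
    rw [hφw, h7, he, hj', (eq_inv_of_mul_eq_one_right h8.symm)] at h5
    have h9 := congrArg Prod.fst h5
    simp only [Prod.fst_inv, Prod.fst_mul] at h9
    rw [← Dih.zz_comm hm, mul_inv_cancel_right] at h9
    exact hj'2 (inv_eq_iff_mul_eq_one.1 h9)
  have h7 := h1 x hxU _ hwU
  rw [hl, hj', hxdef] at h7
  have hF : E.Fus ((sr 0, 1) * (r i, β)) (zz, 1) := by
    refine (h4 _ (mul_mem (hxdef ▸ hxU) hwU)).trans ?_
    rw [h7, Prod.mk_mul_mk, DihedralGroup.sr_mul_r, one_mul]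
    exact hr _
  rcases hK _ hF with he | ⟨i', he⟩ <;>
    simpa using congrArg Prod.snd he

/-- The first factor is strongly closed if its reflections are exactly the conjugates of its
central involution in the Sylow subgroup, besides that involution. -/
theorem isStronglyClosed_left (hm : 4 ∣ m)
    (hK : ∀ d, E.Fus d (zz, 1) → d = (zz, 1) ∨ ∃ i, d = (sr i, 1))
    (hr : ∀ i, E.Fus (sr i, 1) (zz, 1)) :
    Cfsg.IsStronglyClosed E.left (S : Subgroup G) := by
  have hrot : ∀ t : ℕ, ∀ (j : ZMod m) (w : Mdl m k), r j * r j ≠ (1 : DihedralGroup m) →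
      E.Fus w (r j, 1) → w ^ 2 ^ t = 1 → w.2 = 1 := by
    intro t
    induction t with
    | zero =>
      intro j w _ _ hw
      rw [pow_zero, pow_one] at hw
      rw [hw]; rfl
    | succ t ih =>
      intro j w hj hF hw
      have hF2 := E.fus_pow hF 2
      have hsq : ((r j, 1) : Mdl m k) ^ 2 = (r (j + j), 1) := by
        rw [pow_two, Prod.mk_mul_mk, DihedralGroup.r_mul_r, one_mul]
      rw [hsq] at hF2
      have hne : r (j + j) ≠ (1 : DihedralGroup m) := by rwa [← DihedralGroup.r_mul_r]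
      have hw2 : (w ^ 2).2 = 1 := by
        by_cases h4 : r (j + j) * r (j + j) = (1 : DihedralGroup m)
        · have hz : r (j + j) = (zz : DihedralGroup m) :=
            (Dih.r_sq_eq_one hm h4).resolve_left hne
          rw [hz] at hF2
          rcases hK _ hF2 with he | ⟨i, he⟩
          · rw [he]
          · obtain ⟨c, hc⟩ := Dih.sq_eq_r w.1
            have h5 := congrArg Prod.fst he
            rw [pow_two, Prod.fst_mul, hc] at h5
            exact absurd h5.symm (Dih.sr_ne_r i c)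
        · exact ih (j + j) (w ^ 2) h4 hF2 (by rw [← pow_mul, ← pow_succ']; exact hw)
      rcases hw1 : w.1 with i | i
      · have hw' : w = (r i, w.2) := Prod.ext hw1 rfl
        rw [hw'] at hF
        refine E.rot_core hm hK hr hF hj ?_
        rw [← pow_two, ← Prod.pow_snd]; exact hw2
      · exfalso
        have h5 : w * w = 1 := by
          refine Prod.ext ?_ ?_
          · rw [Prod.fst_mul, hw1, DihedralGroup.sr_mul_self]; rfl
          · rw [← pow_two, Prod.pow_snd]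
            rw [Prod.pow_snd] at hw2
            exact hw2
        exact hj (congrArg Prod.fst (hF.sq h5))
  have hinv : ∀ d : Mdl m k, E.Fus d (zz, 1) → E.hom d ∈ E.left := by
    intro d hd
    rcases hK d hd with rfl | ⟨i, rfl⟩
    exacts [⟨_, rfl⟩, ⟨_, rfl⟩]
  refine ⟨E.product.1.1, ?_⟩
  rintro _ ⟨a, rfl⟩ g hg
  obtain ⟨d, hd⟩ := E.exists_pre hg
  have hF : E.Fus d (a, 1) := (isConj_iff.2 ⟨g, hd.symm⟩ : E.Fus (a, 1) d).symm
  rw [← hd]
  by_cases ha : a = 1
  · subst ha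
    by_cases hd1 : d = 1
    · rw [hd1, map_one]; exact one_mem _
    · exact absurd rfl (hF.ne_one hd1)
  by_cases ha2 : a * a = 1
  · rcases Dih.sq_cases hm ha2 with rfl | rfl | ⟨i, rfl⟩
    · exact absurd rfl ha
    · exact hinv d hF
    · exact hinv d (hF.trans (hr i))
  · rcases a with j | j
    · obtain ⟨t, ht⟩ := S.isPGroup' ⟨E.hom d, E.hom_mem d⟩
      have ht' : d ^ 2 ^ t = 1 := E.inj (by
        rw [map_pow, map_one]; simpa using congrArg Subtype.val ht)
      exact ⟨d.1, congrArg E.hom (Prod.ext rfl (hrot t j d ha2 hF ht').symm)⟩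
    · exact absurd (DihedralGroup.sr_mul_self j) ha2

end Emb

end CfsgLib.ProductFusion.DD
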