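import Cfsg.Agent.ProductFusion.DihedralModel
import Cfsg.Agent.ProductFusion.Theorem
import Cfsg.Agent.S0111

/-!
# Fusion in a Sylow 2-subgroup that is a product of two dihedral groups

General tools: the embedding of the model, the maps induced by fusion, transfer, twisting.
-/

set_option autoImplicit false
set_option linter.style.haveILetI false
set_option linter.unusedSectionVars false

namespace CfsgLib.ProductFusion.DD

open DihedralGroup (r sr)
open CfsgLib.DihedralClasses (zz)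
open CfsgLib.TwoGroups (par)

universe u

variable {G : Type u} [Group G]

/-- The model of the Sylow subgroup. -/
abbrev Mdl (m k : ℕ) : Type := DihedralGroup m × DihedralGroup k

/-- An identification of the Sylow subgroup with a product of two dihedral groups. -/
structure Emb (S : Sylow 2 G) (m k : ℕ) where
  hom : Mdl m k →* G
  inj : Function.Injective hom
  range_eq : hom.range = (S : Subgroup G)

namespace Emb

variable {S : Sylow 2 G} {m k : ℕ} (E : Emb S m k)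

/-- Fusion in `G` seen in the model. -/
def Fus (d e : Mdl m k) : Prop := IsConj (E.hom d) (E.hom e)

theorem fus_refl (d : Mdl m k) : E.Fus d d := IsConj.refl _

variable {E}

theorem Fus.symm {d e : Mdl m k} (h : E.Fus d e) : E.Fus e d := IsConj.symm h

theorem Fus.trans {d e f : Mdl m k} (h : E.Fus d e) (h' : E.Fus e f) : E.Fus d f :=
  IsConj.trans h h'

theorem Fus.sq {d e : Mdl m k} (h : E.Fus d e) (hd : d * d = 1) : e * e = 1 := by
  obtain ⟨g, hg⟩ := isConj_iff.1 h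
  refine E.inj ?_
  rw [map_mul, map_one, ← hg, conj_mul, ← map_mul, hd, map_one, mul_one, mul_inv_cancel]

theorem Fus.ne_one {d e : Mdl m k} (h : E.Fus d e) (hd : d ≠ 1) : e ≠ 1 := by
  obtain ⟨g, hg⟩ := isConj_iff.1 h
  intro he
  rw [he, map_one, conj_eq_one_iff] at hg
  exact hd (E.inj (hg.trans (map_one _).symm))

variable (E)

theorem hom_mem (d : Mdl m k) : E.hom d ∈ (S : Subgroup G) := E.range_eq.le ⟨d, rfl⟩

theorem exists_pre {x : G} (hx : x ∈ (S : Subgroup G)) : ∃ d, E.hom d = x := E.range_eq.ge hx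

theorem fus_conj (g d : Mdl m k) : E.Fus d (g * d * g⁻¹) :=
  isConj_iff.2 ⟨E.hom g, by rw [map_mul, map_mul, map_inv]⟩

theorem fus_pow {d e : Mdl m k} (h : E.Fus d e) (n : ℕ) : E.Fus (d ^ n) (e ^ n) := by
  obtain ⟨g, hg⟩ := isConj_iff.1 h
  exact isConj_iff.2 ⟨g, by rw [map_pow, map_pow, ← conj_pow, hg]⟩

/-- The map of the model induced by a conjugation carrying a subgroup into the Sylow subgroup. -/
theorem exists_map (U : Subgroup (Mdl m k)) (g : G)
    (hg : ∀ d ∈ U, g * E.hom d * g⁻¹ ∈ (S : Subgroup G)) :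
    ∃ φ : Mdl m k → Mdl m k, (∀ d ∈ U, ∀ e ∈ U, φ (d * e) = φ d * φ e) ∧
      (∀ d ∈ U, ∀ e ∈ U, φ d = φ e → d = e) ∧ (∀ d ∈ U, E.hom (φ d) = g * E.hom d * g⁻¹) ∧
      ∀ d ∈ U, E.Fus d (φ d) := by
  classical
  refine ⟨fun d => if h : d ∈ U then (E.exists_pre (hg d h)).choose else 1, ?_⟩
  have hval : ∀ d (h : d ∈ U), E.hom (E.exists_pre (hg d h)).choose = g * E.hom d * g⁻¹ :=
    fun d h => (E.exists_pre (hg d h)).choose_spec
  refine ⟨fun d hd e he => E.inj ?_, fun d hd e he h => E.inj ?_, fun d hd => ?_,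
    fun d hd => isConj_iff.2 ⟨g, ?_⟩⟩
  · simp only [dif_pos hd, dif_pos he, dif_pos (mul_mem hd he)]
    refine (hval _ (mul_mem hd he)).trans ?_
    rw [map_mul E.hom d e, ← conj_mul]
    exact (congrArg₂ (· * ·) (hval d hd).symm (hval e he).symm).trans (map_mul E.hom _ _).symm
  · simp only [dif_pos hd, dif_pos he] at h
    exact mul_left_cancel (mul_right_cancel
      ((hval d hd).symm.trans ((congrArg E.hom h).trans (hval e he))))
  · simp only [dif_pos hd]; exact hval d hd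
  · simp only [dif_pos hd]; exact (hval d hd).symm

/-- The centraliser in the model. -/
abbrev cz (x : Mdl m k) : Subgroup (Mdl m k) := Subgroup.centralizer ({x} : Set (Mdl m k))

theorem mem_cz {x d : Mdl m k} : d ∈ cz x ↔ d * x = x * d :=
  Subgroup.mem_centralizer_singleton_iff

theorem self_mem_cz (x : Mdl m k) : x ∈ cz x := mem_cz.2 rfl

/-- The point `c` is extremal: its centraliser in the Sylow subgroup is a Sylow subgroup of its
centraliser. -/
def Extremal (c : Mdl m k) : Prop :=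
  ∀ U : Subgroup G, IsPGroup 2 U → (∀ u ∈ U, u ∈ cent (E.hom c)) →
    ∃ h ∈ cent (E.hom c), ∀ u ∈ U, h * u * h⁻¹ ∈ (S : Subgroup G)

theorem exists_map_cz {x c : Mdl m k} (hc : E.Extremal c) (hxc : E.Fus x c) :
    ∃ φ : Mdl m k → Mdl m k, (∀ d ∈ cz x, ∀ e ∈ cz x, φ (d * e) = φ d * φ e) ∧
      (∀ d ∈ cz x, ∀ e ∈ cz x, φ d = φ e → d = e) ∧ φ x = c ∧
      (∀ d ∈ cz x, E.Fus d (φ d)) ∧ ∀ d ∈ cz x, φ d * c = c * φ d := by
  obtain ⟨g₀, hg₀⟩ := isConj_iff.1 hxc
  obtain ⟨U, hU⟩ : ∃ U, U = ((cz x).map E.hom).map (MulAut.conj g₀).toMonoidHom := ⟨_, rfl⟩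
  have hUp : IsPGroup 2 U :=
    hU ▸ (S.isPGroup'.to_le ((Subgroup.map_le_range _ _).trans E.range_eq.le)).map _
  obtain ⟨h, hhc, hh⟩ := hc U hUp (fun u hu => by
    rw [hU] at hu
    obtain ⟨_, ⟨d, hd, rfl⟩, rfl⟩ := hu
    refine mem_cent.2 ?_
    show g₀ * E.hom d * g₀⁻¹ * E.hom c = E.hom c * (g₀ * E.hom d * g₀⁻¹)
    rw [← hg₀, conj_mul, conj_mul, ← map_mul, ← map_mul, mem_cz.1 hd])
  obtain ⟨φ, h1, h2, h3, h4⟩ := E.exists_map (cz x) (h * g₀) fun d hd => by
    have := hh (g₀ * E.hom d * g₀⁻¹) (hU ▸ ⟨_, ⟨d, hd, rfl⟩, rfl⟩)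
    rwa [show h * g₀ * E.hom d * (h * g₀)⁻¹ = h * (g₀ * E.hom d * g₀⁻¹) * h⁻¹ by group]
  have hx : φ x = c := by
    refine E.inj ?_
    rw [h3 x (self_mem_cz x), show h * g₀ * E.hom x * (h * g₀)⁻¹ = h * (g₀ * E.hom x * g₀⁻¹) * h⁻¹
      by group, hg₀, mem_cent.1 hhc, mul_inv_cancel_right]
  refine ⟨φ, h1, h2, hx, h4, fun d hd => ?_⟩
  rw [← hx, ← h1 d hd x (self_mem_cz x), ← h1 x (self_mem_cz x) d hd, mem_cz.1 hd]

variable [Finite G]

theorem extremal_of_central {c : Mdl m k} (hc : ∀ d, d * c = c * d) : E.Extremal c := by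
  haveI : Fact (Nat.Prime 2) := ⟨Nat.prime_two⟩
  intro U hU hUc
  have hS : (S : Subgroup G) ≤ cent (E.hom c) := fun s hs => by
    obtain ⟨d, rfl⟩ := E.exists_pre hs
    exact mem_cent.2 (by rw [← map_mul, ← map_mul, hc])
  obtain ⟨Q, hQ⟩ := (hU.comap_of_injective (cent (E.hom c)).subtype
    (Subgroup.subtype_injective _)).exists_le_sylow
  obtain ⟨h, hh⟩ := MulAction.exists_smul_eq (cent (E.hom c)) Q (S.subtype hS)
  refine ⟨h, h.2, fun u hu => ?_⟩
  have h1 : h * ⟨u, hUc u hu⟩ * h⁻¹ ∈ ((S.subtype hS : Sylow 2 (cent (E.hom c))) :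
      Subgroup (cent (E.hom c))) := by
    rw [← hh, Sylow.coe_subgroup_smul]
    exact ⟨_, hQ hu, rfl⟩
  exact h1

theorem exists_extremal [NeZero m] [NeZero k] (x : Mdl m k) :
    ∃ c, E.Fus x c ∧ E.Extremal c := by
  haveI : Fact (Nat.Prime 2) := ⟨Nat.prime_two⟩
  obtain ⟨c, hxc, hmax⟩ := Set.exists_max_image {c | E.Fus x c}
    (fun c => Nat.card (cz c)) (Set.toFinite _) ⟨x, E.fus_refl x⟩
  refine ⟨c, hxc, fun U hU hUc => ?_⟩
  obtain ⟨R, hR⟩ : ∃ R, R = ((cz c).map E.hom).subgroupOf (cent (E.hom c)) := ⟨_, rfl⟩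
  have hRle : (cz c).map E.hom ≤ cent (E.hom c) := by
    rintro _ ⟨d, hd, rfl⟩
    exact mem_cent.2 (by rw [← map_mul, ← map_mul, mem_cz.1 hd])
  have hRp : IsPGroup 2 R := hR ▸ (S.isPGroup'.to_le ((Subgroup.map_le_range _ _).trans
    E.range_eq.le)).comap_of_injective _ (Subgroup.subtype_injective _)
  obtain ⟨Q, hQ⟩ := hRp.exists_le_sylow
  obtain ⟨g, hg⟩ := exists_conj_into S (Q.isPGroup'.map (cent (E.hom c)).subtype)
  have hgc : g * E.hom c * g⁻¹ ∈ (S : Subgroup G) := by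
    refine hg _ ⟨⟨E.hom c, mem_cent.2 rfl⟩, hQ ?_, rfl⟩
    rw [hR]; exact ⟨c, self_mem_cz c, rfl⟩
  obtain ⟨c', hc'⟩ := E.exists_pre hgc
  have hcard : Nat.card Q ≤ Nat.card (cz c') := by
    have hpre : ∀ q : Q, ∃ d, E.hom d = g * ((q : cent (E.hom c)) : G) * g⁻¹ :=
      fun q => E.exists_pre (hg _ ⟨q.1, q.2, rfl⟩)
    choose f hf using hpre
    refine Nat.card_le_card_of_injective (fun q => (⟨f q, mem_cz.2 (E.inj ?_)⟩ : cz c')) ?_
    · rw [map_mul, map_mul, hf, hc', conj_mul, conj_mul, mem_cent.1 (q : cent (E.hom c)).2]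
    · intro q q' h
      have h' := congrArg (fun d : cz c' => E.hom d) h
      simp only [hf] at h'
      exact Subtype.ext (Subtype.ext (mul_left_cancel (mul_right_cancel h')))
  have hRQ : R = (Q : Subgroup (cent (E.hom c))) := by
    refine Subgroup.eq_of_le_of_card_ge hQ (hcard.trans ?_)
    rw [hR, Nat.card_congr (Subgroup.subgroupOfEquivOfLe hRle).toEquiv,
      Subgroup.card_map_of_injective E.inj]
    exact hmax c' (hxc.trans (isConj_iff.2 ⟨g, hc'.symm⟩))
  obtain ⟨Q', hQ'⟩ := (hU.comap_of_injective (cent (E.hom c)).subtype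
    (Subgroup.subtype_injective _)).exists_le_sylow
  obtain ⟨h, hh⟩ := MulAction.exists_smul_eq (cent (E.hom c)) Q' Q
  refine ⟨h, h.2, fun u hu => ?_⟩
  have h1 : h * ⟨u, hUc u hu⟩ * h⁻¹ ∈ R := by
    rw [hRQ, ← hh, Sylow.coe_subgroup_smul]
    exact ⟨_, hQ' hu, rfl⟩
  rw [hR] at h1
  obtain ⟨d, -, hd⟩ := h1
  have hd' : E.hom d = (h : G) * u * (h : G)⁻¹ := hd
  exact hd' ▸ E.hom_mem d

/-- Thompson transfer in the model. -/
theorem exists_fus_ker (h2 : ∀ N : Subgroup G, N.Normal → N.index ≠ 2)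
    (χ : Mdl m k →* Multiplicative (ZMod 2)) {d : Mdl m k} (hd : d * d = 1) (hχ : χ d ≠ 1) :
    ∃ e, E.Fus d e ∧ χ e = 1 := by
  obtain ⟨Q, hQ⟩ : ∃ Q, Q = χ.ker.map E.hom := ⟨_, rfl⟩
  have hd1 : d ≠ 1 := fun h => hχ (by rw [h, map_one])
  have hQi : Q.relIndex (S : Subgroup G) = 2 := by
    rw [hQ, ← E.range_eq, MonoidHom.range_eq_map,
      Subgroup.relIndex_map_map_of_injective _ _ E.inj, Subgroup.relIndex_top_right,
      Subgroup.index_ker]
    have htop : χ.range = ⊤ := by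
      refine Subgroup.eq_top_of_le_card _ ?_
      rw [Nat.card_eq_fintype_card, Fintype.card_multiplicative, ZMod.card]
      exact (Subgroup.one_lt_card_iff_ne_bot _).2 fun h =>
        hχ (Subgroup.mem_bot.1 (h ▸ (⟨d, rfl⟩ : χ d ∈ χ.range)))
    rw [htop, Subgroup.card_top, Nat.card_eq_fintype_card, Fintype.card_multiplicative, ZMod.card]
  have hdQ : E.hom d ∉ Q := by
    rw [hQ]
    rintro ⟨e, he, hed⟩
    exact hχ (E.inj hed ▸ he)
  rcases Cfsg.Agent.S0111.thompson_transfer S Q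
      (hQ ▸ (Subgroup.map_le_range _ _).trans E.range_eq.le) hQi (E.hom d)
      (orderOf_eq_prime (by rw [pow_two, ← map_mul, hd, map_one])
        fun h => hd1 (E.inj (h.trans (map_one _).symm)))
      (E.hom_mem d) hdQ with ⟨N, hN, hN2, -⟩ | ⟨g, hg⟩
  · exact absurd hN2 (h2 N hN)
  · rw [hQ] at hg
    obtain ⟨e, he, heg⟩ := hg
    exact ⟨e, isConj_iff.2 ⟨g, heg.symm⟩, he⟩

/-! ### The action of the normaliser of the Sylow subgroup -/

theorem exists_act {n : G} (hn : n ∈ Subgroup.normalizer ((S : Subgroup G) : Set G)) :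
    ∃ θ : Mdl m k →* Mdl m k, Function.Injective θ ∧ (∀ d, E.hom (θ d) = n * E.hom d * n⁻¹) ∧
      ∀ d, E.Fus d (θ d) := by
  obtain ⟨φ, h1, h2, h3, h4⟩ := E.exists_map ⊤ n fun d _ =>
    (Subgroup.mem_normalizer_iff.1 hn _).1 (E.hom_mem d)
  exact ⟨MonoidHom.mk' φ fun a b => h1 a (Subgroup.mem_top a) b (Subgroup.mem_top b),
    fun a b h => h2 a (Subgroup.mem_top a) b (Subgroup.mem_top b) h,
    fun d => h3 d (Subgroup.mem_top d), fun d => h4 d (Subgroup.mem_top d)⟩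

theorem exists_normalizer_of_fus {c c' : Mdl m k} (hc : ∀ d, d * c = c * d)
    (hc' : ∀ d, d * c' = c' * d) (h : E.Fus c c') :
    ∃ n ∈ Subgroup.normalizer ((S : Subgroup G) : Set G), n * E.hom c * n⁻¹ = E.hom c' := by
  obtain ⟨g, hg⟩ := isConj_iff.1 h
  obtain ⟨h, hh, hhS⟩ := E.extremal_of_central hc'
    ((S : Subgroup G).map (MulAut.conj g).toMonoidHom) (S.isPGroup'.map _) (fun u hu => by
      obtain ⟨s, hs, rfl⟩ := hu
      obtain ⟨d, rfl⟩ := E.exists_pre hs
      refine mem_cent.2 ?_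
      show g * E.hom d * g⁻¹ * E.hom c' = E.hom c' * (g * E.hom d * g⁻¹)
      rw [← hg, conj_mul, conj_mul, ← map_mul, ← map_mul, hc])
  refine ⟨h * g, ?_, ?_⟩
  · have hle : (S : Subgroup G).map (MulAut.conj (h * g)).toMonoidHom ≤ (S : Subgroup G) := by
      rintro _ ⟨s, hs, rfl⟩
      have := hhS _ ⟨s, hs, rfl⟩
      show h * g * s * (h * g)⁻¹ ∈ (S : Subgroup G)
      rwa [show h * g * s * (h * g)⁻¹ = h * (g * s * g⁻¹) * h⁻¹ by group]
    have heq := Subgroup.eq_of_le_of_card_ge hle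
      (le_of_eq (Subgroup.card_map_of_injective (MulAut.conj (h * g)).injective).symm)
    refine Subgroup.mem_normalizer_iff.2 fun s => ⟨fun hs => hle ⟨s, hs, rfl⟩, fun hs => ?_⟩
    rw [← heq] at hs
    obtain ⟨t, ht, hts⟩ := hs
    have : t = s := mul_left_cancel (mul_right_cancel (hts : h * g * t * (h * g)⁻¹ = _))
    exact this ▸ ht
  · rw [show h * g * E.hom c * (h * g)⁻¹ = h * (g * E.hom c * g⁻¹) * h⁻¹ by group, hg,
      mem_cent.1 hh, mul_inv_cancel_right]

theorem mem_of_normalizer_of_pow {n : G}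
    (hn : n ∈ Subgroup.normalizer ((S : Subgroup G) : Set G)) {t : ℕ} (ht : n ^ 2 ^ t = 1) :
    n ∈ (S : Subgroup G) := by
  haveI : Fact (Nat.Prime 2) := ⟨Nat.prime_two⟩
  have hp : IsPGroup 2 ((Subgroup.zpowers n ⊔ (S : Subgroup G) : Subgroup G)) :=
    IsPGroup.to_sup_of_normal_right' (isPGroup_zpowers_of_pow ht) S.isPGroup'
      (Subgroup.zpowers_le.2 hn)
  rw [← S.3 hp le_sup_right]
  exact Subgroup.mem_sup_left (Subgroup.mem_zpowers n)

theorem fix_of_sq {c : Mdl m k} (hc : ∀ d, d * c = c * d) {n : G}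
    (hn : n ∈ Subgroup.normalizer ((S : Subgroup G) : Set G))
    (h2 : n ^ 2 ∈ cent (E.hom c)) : n ∈ cent (E.hom c) := by
  obtain ⟨t, o, ho, hto⟩ := Nat.exists_eq_pow_mul_and_not_dvd (orderOf_pos n).ne' 2 (by omega)
  have hS : n ^ o ∈ (S : Subgroup G) := mem_of_normalizer_of_pow (pow_mem hn o) (t := t)
    (by rw [← pow_mul, mul_comm, ← hto, pow_orderOf_eq_one])
  obtain ⟨d, hd⟩ := E.exists_pre hS
  have ho' : n ^ o ∈ cent (E.hom c) := mem_cent.2 (by rw [← hd, ← map_mul, ← map_mul, hc])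
  obtain ⟨q, rfl⟩ : ∃ q, o = 2 * q + 1 := ⟨o / 2, by omega⟩
  rw [pow_succ, pow_mul] at ho'
  have := mul_mem (inv_mem (pow_mem h2 q)) ho'
  rwa [inv_mul_cancel_left] at this

theorem not_swap {c c' : Mdl m k} (hc : ∀ d, d * c = c * d) {θ : G}
    (hθ : θ ∈ Subgroup.normalizer ((S : Subgroup G) : Set G))
    (h1 : θ * E.hom c * θ⁻¹ = E.hom c') (h2 : θ * E.hom c' * θ⁻¹ = E.hom c) : c = c' := by
  have h := E.fix_of_sq hc hθ (mem_cent.2 (by
    rw [← mul_inv_eq_iff_eq_mul, pow_two,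
      show θ * θ * E.hom c * (θ * θ)⁻¹ = θ * (θ * E.hom c * θ⁻¹) * θ⁻¹ by group, h1, h2]))
  refine E.inj ?_
  rw [← h1, mem_cent.1 h, mul_inv_cancel_right]

theorem exists_odd_act {c : Mdl m k} (hc : ∀ d, d * c = c * d) {n : G}
    (hn : n ∈ Subgroup.normalizer ((S : Subgroup G) : Set G)) (hne : n ∉ cent (E.hom c)) :
    ∃ θ : Mdl m k →* Mdl m k, Function.Injective θ ∧ (∀ d, E.Fus d (θ d)) ∧ θ c ≠ c ∧
      ∃ o, Odd o ∧ ∀ d, θ^[o] d = d := by
  obtain ⟨t, o, ho, hto⟩ := Nat.exists_eq_pow_mul_and_not_dvd (orderOf_pos n).ne' 2 (by omega)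
  obtain ⟨θ, hθi, hθ, hθF⟩ := E.exists_act (pow_mem hn (2 ^ t))
  have hfix : ∀ i, n ^ 2 ^ i ∈ cent (E.hom c) → n ∈ cent (E.hom c) := by
    intro i
    induction i with
    | zero => intro h; rwa [pow_zero, pow_one] at h
    | succ i ih =>
      intro h
      refine ih (E.fix_of_sq hc (pow_mem hn _) ?_)
      rwa [← pow_mul, ← pow_succ]
  refine ⟨θ, hθi, hθF, fun h => hne (hfix t (mem_cent.2 ?_)), o, Nat.odd_iff.2 (by omega),
    fun d => E.inj ?_⟩
  · have h' := hθ c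
    rw [h] at h'
    exact (mul_inv_eq_iff_eq_mul.1 h'.symm)
  · have hit : ∀ (i : ℕ) (d : Mdl m k),
        E.hom (θ^[i] d) = (n ^ 2 ^ t) ^ i * E.hom d * ((n ^ 2 ^ t) ^ i)⁻¹ := by
      intro i
      induction i with
      | zero => intro d; simp
      | succ i ih =>
        intro d
        rw [Function.iterate_succ_apply', hθ, ih, pow_succ' (n ^ 2 ^ t) i]
        group
    rw [hit, ← pow_mul, ← hto, pow_orderOf_eq_one, one_mul, inv_one, mul_one]

/-! ### Changing the identification -/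

/-- Composition with an injective endomorphism of the model. -/
noncomputable def comp [NeZero m] [NeZero k] (f : Mdl m k →* Mdl m k)
    (hf : Function.Injective f) : Emb S m k where
  hom := E.hom.comp f
  inj := E.inj.comp hf
  range_eq := by
    rw [MonoidHom.range_comp, MonoidHom.range_eq_top.2 (Finite.injective_iff_surjective.1 hf),
      ← MonoidHom.range_eq_map, E.range_eq]

/-- Interchanging the factors. -/
def swap : Emb S k m where
  hom := E.hom.comp (MulEquiv.prodComm (M := DihedralGroup k) (N := DihedralGroup m)).toMonoidHom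
  inj := E.inj.comp MulEquiv.prodComm.injective
  range_eq := by
    rw [MonoidHom.range_comp, MonoidHom.range_eq_top.2 (MulEquiv.prodComm).surjective,
      ← MonoidHom.range_eq_map, E.range_eq]

theorem comp_fus [NeZero m] [NeZero k] (f : Mdl m k →* Mdl m k) (hf : Function.Injective f)
    (d e : Mdl m k) : (E.comp f hf).Fus d e ↔ E.Fus (f d) (f e) := Iff.rfl

theorem swap_fus (d e : Mdl k m) : E.swap.Fus d e ↔ E.Fus (d.2, d.1) (e.2, e.1) := Iff.rfl

/-- The image of the first factor. -/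
def left : Subgroup G := (E.hom.comp (MonoidHom.inl (DihedralGroup m) (DihedralGroup k))).range

/-- The image of the second factor. -/
def right : Subgroup G := (E.hom.comp (MonoidHom.inr (DihedralGroup m) (DihedralGroup k))).range

theorem product : Cfsg.IsInternalDirectProduct E.left E.right (S : Subgroup G) ∧
    Nonempty (E.left ≃* DihedralGroup m) ∧ Nonempty (E.right ≃* DihedralGroup k) := by
  have hl : Function.Injective (E.hom.comp (MonoidHom.inl (DihedralGroup m) (DihedralGroup k))) :=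
    fun a b h => congrArg Prod.fst (E.inj h)
  have hr : Function.Injective (E.hom.comp (MonoidHom.inr (DihedralGroup m) (DihedralGroup k))) :=
    fun a b h => congrArg Prod.snd (E.inj h)
  refine ⟨⟨?_, ?_, ?_, ?_, ?_⟩, ⟨(MonoidHom.ofInjective hl).symm⟩,
    ⟨(MonoidHom.ofInjective hr).symm⟩⟩
  · rintro _ ⟨a, rfl⟩; exact E.hom_mem _
  · rintro _ ⟨a, rfl⟩; exact E.hom_mem _
  · rintro _ ⟨a, rfl⟩ _ ⟨b, rfl⟩
    simp only [MonoidHom.comp_apply]
    rw [← map_mul, ← map_mul]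
    refine congrArg E.hom ?_
    simp
  · refine eq_bot_iff.2 ?_
    rintro _ ⟨⟨a, rfl⟩, ⟨b, hb⟩⟩
    have h := congrArg Prod.fst (E.inj hb)
    simp only [MonoidHom.inr_apply, MonoidHom.inl_apply] at h
    subst h
    exact Subgroup.mem_bot.2 ((congrArg E.hom (Prod.mk_one_one)).trans (map_one _))
  · refine le_antisymm (sup_le ?_ ?_) fun x hx => ?_
    · rintro _ ⟨a, rfl⟩; exact E.hom_mem _
    · rintro _ ⟨a, rfl⟩; exact E.hom_mem _
    · obtain ⟨⟨a, b⟩, rfl⟩ := E.exists_pre hx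
      have e : ((a, b) : Mdl m k) = (a, 1) * (1, b) := by simp
      rw [e, map_mul]
      exact Subgroup.mul_mem_sup ⟨a, rfl⟩ ⟨b, rfl⟩

end Emb

/-- Multiplying the second coordinate by a central image of the first. -/
def twistL {m k : ℕ} (χ : DihedralGroup m →* DihedralGroup k) (hc : ∀ a b, χ a * b = b * χ a) :
    Mdl m k →* Mdl m k where
  toFun d := (d.1, χ d.1 * d.2)
  map_one' := by simp
  map_mul' d e := by
    refine Prod.ext rfl ?_
    show χ (d.1 * e.1) * (d.2 * e.2) = χ d.1 * d.2 * (χ e.1 * e.2)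
    rw [map_mul, mul_assoc, ← mul_assoc (χ e.1), hc e.1 d.2]
    simp only [mul_assoc]

theorem twistL_apply {m k : ℕ} (χ : DihedralGroup m →* DihedralGroup k)
    (hc : ∀ a b, χ a * b = b * χ a) (a : DihedralGroup m) (b : DihedralGroup k) :
    twistL χ hc (a, b) = (a, χ a * b) := rfl

theorem twistL_injective {m k : ℕ} (χ : DihedralGroup m →* DihedralGroup k)
    (hc : ∀ a b, χ a * b = b * χ a) : Function.Injective (twistL χ hc) := by
  rintro ⟨a, b⟩ ⟨a', b'⟩ h
  rw [twistL_apply, twistL_apply, Prod.mk.injEq] at h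
  obtain ⟨rfl, h2⟩ := h
  exact Prod.ext rfl (mul_left_cancel h2)

/-- Multiplying the first coordinate by a central image of the second. -/
def twistR {m k : ℕ} (ψ : DihedralGroup k →* DihedralGroup m) (hc : ∀ b a, ψ b * a = a * ψ b) :
    Mdl m k →* Mdl m k :=
  (MulEquiv.prodComm (M := DihedralGroup k) (N := DihedralGroup m)).toMonoidHom.comp
    ((twistL ψ hc).comp (MulEquiv.prodComm (M := DihedralGroup m) (N := DihedralGroup k)).toMonoidHom)

theorem twistR_apply {m k : ℕ} (ψ : DihedralGroup k →* DihedralGroup m)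
    (hc : ∀ b a, ψ b * a = a * ψ b) (a : DihedralGroup m) (b : DihedralGroup k) :
    twistR ψ hc (a, b) = (ψ b * a, b) := rfl

theorem twistR_injective {m k : ℕ} (ψ : DihedralGroup k →* DihedralGroup m)
    (hc : ∀ b a, ψ b * a = a * ψ b) : Function.Injective (twistR ψ hc) :=
  MulEquiv.prodComm.injective.comp ((twistL_injective ψ hc).comp MulEquiv.prodComm.injective)

/-- The power of an involution with exponent modulo two. -/
def pw {H : Type*} [Group H] (c : H) (e : ZMod 2) : H := if e = 0 then 1 else c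

theorem pw_add {H : Type*} [Group H] {c : H} (hc : c * c = 1) (a b : ZMod 2) :
    pw c (a + b) = pw c a * pw c b := by
  have h : ∀ a : ZMod 2, a = 0 ∨ a = 1 := by decide
  have h10 : (1 : ZMod 2) ≠ 0 := by decide
  have h11 : (1 : ZMod 2) + 1 = 0 := by decide
  rcases h a with rfl | rfl <;> rcases h b with rfl | rfl <;> simp [pw, h10, h11, hc]

/-- The homomorphism of a dihedral group with given central values on reflections of the two
parities. -/
def parHom {m : ℕ} [NeZero m] (hm : 2 ∣ m) {H : Type*} [Group H] (c₀ c₁ : H) (h₀ : c₀ * c₀ = 1)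
    (h₁ : c₁ * c₁ = 1) (hcomm : c₀ * c₁ = c₁ * c₀) : DihedralGroup m →* H :=
  MonoidHom.mk'
    (fun d => match d with
      | r i => pw (c₀ * c₁) (par hm i)
      | sr i => c₀ * pw (c₀ * c₁) (par hm i))
    (by
      have h01 : c₀ * c₁ * (c₀ * c₁) = 1 := by
        rw [Commute.mul_mul_mul_comm hcomm.symm, h₀, h₁, one_mul]
      have hadd : ∀ i j : ZMod m, par hm (i + j) = par hm i + par hm j := fun i j =>
        map_add (ZMod.castHom hm (ZMod 2)) i j
      have hsub : ∀ i j : ZMod m, par hm (i - j) = par hm i + par hm j := fun i j => by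
        rw [TwoGroups.par_sub, sub_eq_add_neg, ZMod.neg_eq_self_mod_two]
      have hc : ∀ e : ZMod 2, pw (c₀ * c₁) e * c₀ = c₀ * pw (c₀ * c₁) e := fun e => by
        rw [pw]; split
        · simp
        · rw [mul_assoc, ← hcomm, ← mul_assoc]
      rintro (i | i) (j | j)
      · show pw (c₀ * c₁) (par hm (i + j)) = pw (c₀ * c₁) (par hm i) * pw (c₀ * c₁) (par hm j)
        rw [hadd, pw_add h01]
      · show c₀ * pw (c₀ * c₁) (par hm (j - i)) =
          pw (c₀ * c₁) (par hm i) * (c₀ * pw (c₀ * c₁) (par hm j))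
        rw [← mul_assoc, hc, mul_assoc, ← pw_add h01, hsub, add_comm]
      · show c₀ * pw (c₀ * c₁) (par hm (i + j)) =
          c₀ * pw (c₀ * c₁) (par hm i) * pw (c₀ * c₁) (par hm j)
        rw [mul_assoc, ← pw_add h01, hadd]
      · show pw (c₀ * c₁) (par hm (j - i)) =
          c₀ * pw (c₀ * c₁) (par hm i) * (c₀ * pw (c₀ * c₁) (par hm j))
        rw [mul_assoc, ← mul_assoc (pw (c₀ * c₁) (par hm i)) c₀, hc, mul_assoc c₀ _ (pw _ _),
          ← mul_assoc c₀ c₀, h₀, one_mul, ← pw_add h01, hsub, add_comm])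

theorem parHom_sr {m : ℕ} [NeZero m] (hm : 2 ∣ m) {H : Type*} [Group H] (c₀ c₁ : H) (h₀ : c₀ * c₀ = 1)
    (h₁ : c₁ * c₁ = 1) (hcomm : c₀ * c₁ = c₁ * c₀) (i : ZMod m) :
    parHom hm c₀ c₁ h₀ h₁ hcomm (sr i) = if par hm i = 0 then c₀ else c₁ := by
  show c₀ * pw (c₀ * c₁) (par hm i) = _
  rw [pw]
  split
  · rw [mul_one]
  · rw [← mul_assoc, h₀, one_mul]

theorem parHom_zz {m : ℕ} [NeZero m] (hm : 4 ∣ m) {H : Type*} [Group H] (c₀ c₁ : H)
    (h₀ : c₀ * c₀ = 1) (h₁ : c₁ * c₁ = 1) (hcomm : c₀ * c₁ = c₁ * c₀) :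
    parHom (dvd_trans (by norm_num) hm) c₀ c₁ h₀ h₁ hcomm zz = 1 := by
  show pw (c₀ * c₁) (par _ (Dih.half m)) = 1
  rw [Dih.par_half hm, pw, if_pos rfl]

theorem parHom_central {m : ℕ} [NeZero m] (hm : 2 ∣ m) {H : Type*} [Group H] {c₀ c₁ : H} (h₀ : c₀ * c₀ = 1)
    (h₁ : c₁ * c₁ = 1) (hcomm : c₀ * c₁ = c₁ * c₀) (hz₀ : ∀ b, c₀ * b = b * c₀)
    (hz₁ : ∀ b, c₁ * b = b * c₁) (a : DihedralGroup m) (b : H) :
    parHom hm c₀ c₁ h₀ h₁ hcomm a * b = b * parHom hm c₀ c₁ h₀ h₁ hcomm a := by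
  have hmem : parHom hm c₀ c₁ h₀ h₁ hcomm a ∈ Subgroup.center H := by
    have hc : ∀ e : ZMod 2, pw (c₀ * c₁) e ∈ Subgroup.center H := fun e => by
      rw [pw]; split
      · exact one_mem _
      · exact mul_mem (Subgroup.mem_center_iff.2 fun b => (hz₀ b).symm)
          (Subgroup.mem_center_iff.2 fun b => (hz₁ b).symm)
    rcases a with i | i
    · exact hc _
    · exact mul_mem (Subgroup.mem_center_iff.2 fun b => (hz₀ b).symm) (hc _)
  exact (Subgroup.mem_center_iff.1 hmem b).symm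

end CfsgLib.ProductFusion.DD
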