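import Cfsg.Agent.TwoGroups.DihedralClasses

/-!
# Elementary facts about dihedral groups of order at least eight
-/

set_option autoImplicit false

namespace CfsgLib.ProductFusion.Dih

open DihedralGroup (r sr)
open CfsgLib.DihedralClasses (zz)
open CfsgLib.TwoGroups (par)

variable {m : ℕ} [NeZero m]

/-- The exponent of the central involution. -/
abbrev half (m : ℕ) : ZMod m := ((m / 2 : ℕ) : ZMod m)

omit [NeZero m] in
theorem zz_eq : (zz : DihedralGroup m) = r (half m) := rfl

variable (hm : 4 ∣ m)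
include hm

theorem half_add : half m + half m = 0 :=
  (TwoGroups.two_torsion_ne_zero (dvd_trans (by norm_num) hm)).1

theorem half_ne : half m ≠ 0 :=
  (TwoGroups.two_torsion_ne_zero (dvd_trans (by norm_num) hm)).2

theorem neg_half : -half m = half m := neg_eq_of_add_eq_zero_right (half_add hm)

theorem zz_comm (d : DihedralGroup m) : d * zz = zz * d := by
  rcases d with i | i
  · rw [zz_eq, DihedralGroup.r_mul_r, DihedralGroup.r_mul_r, add_comm]
  · rw [zz_eq, DihedralGroup.sr_mul_r, DihedralGroup.r_mul_sr, sub_eq_add_neg, neg_half hm]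

theorem zz_mul_self : (zz : DihedralGroup m) * zz = 1 := (DihedralClasses.zz_sq hm).1

theorem zz_ne_one : (zz : DihedralGroup m) ≠ 1 := (DihedralClasses.zz_sq hm).2

theorem sr_mul_zz (i : ZMod m) : sr i * (zz : DihedralGroup m) = sr (i + half m) :=
  DihedralGroup.sr_mul_r _ _

theorem zz_mul_sr (i : ZMod m) : (zz : DihedralGroup m) * sr i = sr (i + half m) :=
  (zz_comm hm (sr i)).symm.trans (sr_mul_zz hm i)

theorem eq_half {j : ZMod m} (h : j + j = 0) : j = 0 ∨ j = half m :=
  DihedralClasses.eq_half hm h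

theorem r_sq_eq_one {j : ZMod m} (h : r j * r j = (1 : DihedralGroup m)) :
    r j = 1 ∨ r j = zz := by
  rw [DihedralGroup.r_mul_r, DihedralGroup.one_def] at h
  rcases eq_half hm (DihedralGroup.r.inj h) with rfl | rfl
  · exact Or.inl rfl
  · exact Or.inr rfl

theorem sq_cases {d : DihedralGroup m} (h : d * d = 1) : d = 1 ∨ d = zz ∨ ∃ i, d = sr i := by
  rcases d with i | i
  · rcases r_sq_eq_one hm h with e | e
    exacts [Or.inl e, Or.inr (Or.inl e)]
  · exact Or.inr (Or.inr ⟨i, rfl⟩)

omit [NeZero m] hm in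
theorem sq_eq_r (d : DihedralGroup m) : ∃ j, d * d = r j := by
  rcases d with i | i
  · exact ⟨i + i, DihedralGroup.r_mul_r _ _⟩
  · exact ⟨0, by rw [DihedralGroup.sr_mul_self, DihedralGroup.r_zero]⟩

omit [NeZero m] hm in
theorem sr_ne_r (i j : ZMod m) : sr i ≠ r j := fun h => nomatch h

theorem sr_ne_zz (i : ZMod m) : sr i ≠ (zz : DihedralGroup m) := sr_ne_r i (half m)

omit [NeZero m] hm in
theorem sr_ne_one (i : ZMod m) : sr i ≠ (1 : DihedralGroup m) := sr_ne_r i 0

theorem sq_invol {d : DihedralGroup m} (h : d * d * (d * d) = 1) : d * d = 1 ∨ d * d = zz := by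
  obtain ⟨j, hj⟩ := sq_eq_r d
  rw [hj] at h ⊢
  exact r_sq_eq_one hm h

theorem commute_sr_iff {d : DihedralGroup m} {a : ZMod m} (h : d * sr a = sr a * d) :
    d = 1 ∨ d = zz ∨ d = sr a ∨ d = sr (a + half m) := by
  rcases d with j | j
  · rw [DihedralGroup.r_mul_sr, DihedralGroup.sr_mul_r] at h
    have h' : j + j = 0 := by linear_combination -(DihedralGroup.sr.inj h)
    rcases eq_half hm h' with rfl | rfl
    exacts [Or.inl rfl, Or.inr (Or.inl rfl)]
  · rw [DihedralGroup.sr_mul_sr, DihedralGroup.sr_mul_sr] at h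
    have h' : (j - a) + (j - a) = 0 := by linear_combination -(DihedralGroup.r.inj h)
    rcases eq_half hm h' with e | e
    · rw [sub_eq_zero] at e
      exact Or.inr (Or.inr (Or.inl (by rw [e])))
    · rw [sub_eq_iff_eq_add'] at e
      exact Or.inr (Or.inr (Or.inr (by rw [e])))

theorem sr_commute_cases {a b : ZMod m} (h : sr b * sr a = sr a * sr b) :
    b = a ∨ b = a + half m := by
  rcases commute_sr_iff hm h with e | e | e | e
  · exact absurd e (sr_ne_one b)
  · exact absurd e (sr_ne_zz hm b)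
  · exact Or.inl (DihedralGroup.sr.inj e)
  · exact Or.inr (DihedralGroup.sr.inj e)

theorem sr_mul_sr_of_commute {a b : ZMod m} (h : sr a * sr b = sr b * sr a) :
    sr a * sr b = (1 : DihedralGroup m) ∨ sr a * sr b = zz := by
  rcases sr_commute_cases hm h with rfl | rfl
  · exact Or.inl (DihedralGroup.sr_mul_self _)
  · right
    rw [DihedralGroup.sr_mul_sr, zz_eq, show b - (b + half m) = -half m by ring, neg_half hm]

theorem exists_root : ∃ q : ZMod m, r q * r q = (zz : DihedralGroup m) := by
  obtain ⟨c, hc⟩ := hm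
  refine ⟨(c : ZMod m), ?_⟩
  rw [DihedralGroup.r_mul_r, zz_eq, half, ← Nat.cast_add, show m / 2 = c + c by omega]

theorem par_half : par (dvd_trans (by norm_num) hm : 2 ∣ m) (half m) = 0 := by
  obtain ⟨c, hc⟩ := hm
  rw [half, show m / 2 = c + c by omega, TwoGroups.par, map_natCast, Nat.cast_add]
  exact CharTwo.add_self_eq_zero _

theorem par_add_half (i : ZMod m) :
    par (dvd_trans (by norm_num) hm : 2 ∣ m) (i + half m) =
      par (dvd_trans (by norm_num) hm : 2 ∣ m) i := by
  have h := par_half hm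
  rw [TwoGroups.par] at h ⊢
  rw [map_add, h, add_zero, ← TwoGroups.par]

theorem sr_zero_one_not_commute : sr (0 : ZMod m) * sr 1 ≠ sr 1 * sr 0 := by
  intro h
  have h2 := TwoGroups.par_eq_of_commute hm h
  obtain ⟨p0, p1⟩ := DihedralClasses.par_zero_one (m := m) (dvd_trans (by norm_num) hm : 2 ∣ m)
  rw [p0, p1] at h2
  exact zero_ne_one h2

theorem center_cases {d : DihedralGroup m} (h : ∀ e, d * e = e * d) : d = 1 ∨ d = zz := by
  rcases commute_sr_iff hm (h (sr 0)) with e | e | e | e
  · exact Or.inl e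
  · exact Or.inr e
  · exact absurd (e ▸ h (sr 1)) (sr_zero_one_not_commute hm)
  · refine absurd (h (sr 1)) ?_
    rw [e, zero_add]
    intro h1
    have h2 : sr (0 : ZMod m) * sr 1 = sr 1 * sr 0 := by
      have e' : sr (half m) = (zz : DihedralGroup m) * sr 0 := by rw [zz_mul_sr hm, zero_add]
      rw [e', mul_assoc, ← mul_assoc (sr (1 : ZMod m)), zz_comm hm (sr 1), mul_assoc] at h1
      exact mul_left_cancel h1
    exact sr_zero_one_not_commute hm h2

omit [NeZero m] hm in
theorem two_eq_cases : ∀ v : DihedralGroup 2, v * v = 1 ∧ ∀ w : DihedralGroup 2, v * w = w * v := by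
  decide

end CfsgLib.ProductFusion.Dih
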