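import Cfsg.Agent.ProductFusion.DihedralByFour
import Cfsg.Agent.ProductFusion.DirectProduct

/-!
# Sylow 2-subgroups that are non-abelian products of two dihedral groups
-/

set_option autoImplicit false
set_option linter.style.haveILetI false
set_option linter.unusedSectionVars false

namespace CfsgLib.ProductFusion.DD

universe u

variable {G : Type u} [Group G] [Finite G] {S : Sylow 2 G}

/-- The identification given by a factorisation. -/
theorem exists_emb {D₁ D₂ : Subgroup G}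
    (hD : Cfsg.IsInternalDirectProduct D₁ D₂ (S : Subgroup G)) {m k : ℕ}
    (e₁ : D₁ ≃* DihedralGroup m) (e₂ : D₂ ≃* DihedralGroup k) :
    Nonempty (Emb S m k) := by
  obtain ⟨-, -, hc, hd, hsup⟩ := hD
  have hcomm : ∀ a b, Commute ((D₁.subtype.comp e₁.symm.toMonoidHom) a)
      ((D₂.subtype.comp e₂.symm.toMonoidHom) b) :=
    fun a b => hc _ (e₁.symm a).2 _ (e₂.symm b).2
  refine ⟨⟨MonoidHom.noncommCoprod _ _ hcomm, ?_, ?_⟩⟩
  · rintro ⟨a, b⟩ ⟨a', b'⟩ h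
    have h' : (e₁.symm a : G) * (e₂.symm b : G) = (e₁.symm a' : G) * (e₂.symm b' : G) := h
    have he : (e₁.symm a' : G)⁻¹ * (e₁.symm a : G) =
        (e₂.symm b' : G) * (e₂.symm b : G)⁻¹ := by
      rw [eq_mul_inv_iff_mul_eq, mul_assoc, h', inv_mul_cancel_left]
    have h1 : (e₁.symm a' : G)⁻¹ * (e₁.symm a : G) ∈ D₁ ⊓ D₂ :=
      ⟨D₁.mul_mem (D₁.inv_mem (e₁.symm a').2) (e₁.symm a).2,
        he ▸ D₂.mul_mem (e₂.symm b').2 (D₂.inv_mem (e₂.symm b).2)⟩
    rw [hd, Subgroup.mem_bot, inv_mul_eq_one] at h1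
    rw [← h1] at h'
    exact Prod.ext (e₁.symm.injective (Subtype.ext h1)).symm
      (e₂.symm.injective (Subtype.ext (mul_left_cancel h')))
  · rw [MonoidHom.noncommCoprod_range, MonoidHom.range_comp, MonoidHom.range_comp,
      MonoidHom.range_eq_top.2 e₁.symm.surjective, MonoidHom.range_eq_top.2 e₂.symm.surjective,
      ← MonoidHom.range_eq_map, ← MonoidHom.range_eq_map, Subgroup.range_subtype,
      Subgroup.range_subtype, hsup]

theorem eq_two_or_four_dvd {D : Subgroup G} (hle : D ≤ (S : Subgroup G)) {m : ℕ} (hm : 2 ≤ m)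
    (e : D ≃* DihedralGroup m) : m = 2 ∨ 4 ∣ m := by
  haveI : Fact (Nat.Prime 2) := ⟨Nat.prime_two⟩
  obtain ⟨n, hn⟩ := IsPGroup.iff_card.1 (S.isPGroup'.to_le hle)
  rw [Nat.card_congr e.toEquiv, DihedralGroup.nat_card] at hn
  rcases n with _ | _ | _ | n
  · omega
  · omega
  · left; omega
  · right; exact ⟨2 ^ n, by rw [pow_succ, pow_succ, pow_succ] at hn; omega⟩

/-- A suitable factorisation has strongly closed factors. -/
theorem exists_closed_factors (h2 : ∀ N : Subgroup G, N.Normal → N.index ≠ 2)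
    (hS : ¬ IsMulCommutative (S : Subgroup G)) {D₁ D₂ : Subgroup G}
    (hD : Cfsg.IsInternalDirectProduct D₁ D₂ (S : Subgroup G)) {m k : ℕ} (hm : 2 ≤ m) (hk : 2 ≤ k)
    (e₁ : D₁ ≃* DihedralGroup m) (e₂ : D₂ ≃* DihedralGroup k) :
    ∃ S₁ S₂ : Subgroup G, Cfsg.IsInternalDirectProduct S₁ S₂ (S : Subgroup G) ∧
      (∃ n : ℕ, 2 ≤ n ∧ Nonempty (S₁ ≃* DihedralGroup n)) ∧
      (∃ n : ℕ, 2 ≤ n ∧ Nonempty (S₂ ≃* DihedralGroup n)) ∧
      Cfsg.IsStronglyClosed S₁ (S : Subgroup G) ∧ Cfsg.IsStronglyClosed S₂ (S : Subgroup G) := by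
  haveI : NeZero m := ⟨by omega⟩
  haveI : NeZero k := ⟨by omega⟩
  obtain ⟨E⟩ := exists_emb hD e₁ e₂
  suffices ∃ E' : Emb S m k, Cfsg.IsStronglyClosed E'.left (S : Subgroup G) ∧
      Cfsg.IsStronglyClosed E'.right (S : Subgroup G) by
    obtain ⟨E', h₁, h₂⟩ := this
    obtain ⟨hp, ha, hb⟩ := E'.product
    exact ⟨_, _, hp, ⟨m, hm, ha⟩, ⟨k, hk, hb⟩, h₁, h₂⟩
  rcases eq_two_or_four_dvd hD.1 hm e₁ with hm4 | hm4 <;>
    rcases eq_two_or_four_dvd hD.2.1 hk e₂ with hk4 | hk4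
  · subst hm4 hk4
    refine absurd ⟨⟨fun x y => Subtype.ext ?_⟩⟩ hS
    obtain ⟨a, ha⟩ := E.exists_pre x.2
    obtain ⟨b, hb⟩ := E.exists_pre y.2
    show (x : G) * y = y * x
    rw [← ha, ← hb, ← map_mul, ← map_mul]
    exact congrArg E.hom
      (Prod.ext ((Dih.two_eq_cases a.1).2 b.1) ((Dih.two_eq_cases a.2).2 b.2))
  · subst hm4
    obtain ⟨E', h₁, h₂⟩ := E.swap.exists_closed_four hk4 h2
    exact ⟨E'.swap, h₂, h₁⟩
  · subst hk4
    exact E.exists_closed_four hm4 h2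
  · exact E.exists_closed hm4 hk4 h2

end CfsgLib.ProductFusion.DD
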