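import Cfsg.Agent.ProductFusion.DihedralClosed

/-!
# Two dihedral factors of order at least eight, no normal subgroup of index two

A suitable factorisation of the Sylow subgroup has both factors strongly closed.
-/

set_option autoImplicit false
set_option linter.style.haveILetI false
set_option linter.unusedSectionVars false

namespace CfsgLib.ProductFusion.DD

open DihedralGroup (r sr)
open CfsgLib.DihedralClasses (zz)
open CfsgLib.TwoGroups (par)

universe u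

variable {G : Type u} [Group G] [Finite G] {S : Sylow 2 G} {m k : ℕ} [NeZero m] [NeZero k]

theorem zz_left_central (hm : 4 ∣ m) (d : Mdl m k) : d * (zz, 1) = (zz, 1) * d := by
  refine Prod.ext ?_ ?_
  · exact Dih.zz_comm hm d.1
  · simp

namespace Emb

variable (E : Emb S m k)

/-- Reflections of the same parity in the first coordinate are conjugate. -/
theorem fus_of_par (hm : 4 ∣ m) {i j : ZMod m}
    (h : par (dvd_trans (by norm_num) hm : 2 ∣ m) i = par (dvd_trans (by norm_num) hm : 2 ∣ m) j)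
    (b : DihedralGroup k) : E.Fus (sr i, b) (sr j, b) := by
  obtain ⟨g, hg⟩ := TwoGroups.exists_conj_sr h
  have h1 := E.fus_conj (g, 1) (sr i, b)
  have e : ((g, 1) : Mdl m k) * (sr i, b) * (g, 1)⁻¹ = (sr j, b) :=
    Prod.ext (by simpa using hg) (by simp)
  rwa [e] at h1

/-- Two commuting elements of the class of the central involution cannot both move. -/
theorem no_two (hm : 4 ∣ m) {x p₀ : Mdl m k} (hx : E.Fus x (zz, 1)) (hp : E.Fus p₀ (zz, 1))
    (hp' : E.Fus (p₀ * (zz, 1)) (zz, 1)) (hcx : p₀ * x = x * p₀) (hx1 : x ≠ (zz, 1))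
    (h2 : p₀ ≠ x) (h3 : p₀ ≠ x * (zz, 1))
    (hcl : ∀ p q, E.Fus p (zz, 1) → E.Fus q (zz, 1) → p ≠ (zz, 1) → q ≠ (zz, 1) → p * q = q * p →
      E.Fus (p * q) (zz, 1) → p * q = (zz, 1)) : False := by
  obtain ⟨φ, hmul, hinj, hφx, hF, -⟩ :=
    E.exists_map_cz (E.extremal_of_central (zz_left_central hm)) hx
  have hzC : ((zz, 1) : Mdl m k) ∈ cz x := mem_cz.2 (zz_left_central hm x).symm
  have hpC : p₀ ∈ cz x := mem_cz.2 hcx
  have hxC := self_mem_cz x
  have hq1 : φ (zz, 1) ≠ (zz, 1) := fun h => hx1 (hinj _ hxC _ hzC (hφx.trans h.symm))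
  have hp1 : φ p₀ ≠ (zz, 1) := fun h => h2 (hinj _ hpC _ hxC (h.trans hφx.symm))
  have hcomm : φ p₀ * φ (zz, 1) = φ (zz, 1) * φ p₀ := by
    rw [← hmul _ hpC _ hzC, ← hmul _ hzC _ hpC, zz_left_central hm p₀]
  have hprod : E.Fus (φ p₀ * φ (zz, 1)) (zz, 1) := by
    rw [← hmul _ hpC _ hzC]
    exact (hF _ (mul_mem hpC hzC)).symm.trans hp'
  have := hcl _ _ ((hF _ hpC).symm.trans hp) ((hF _ hzC).symm) hp1 hq1 hcomm hprod
  have h4 := hinj _ (mul_mem hpC hzC) _ hxC ((hmul _ hpC _ hzC).trans (this.trans hφx.symm))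
  refine h3 ?_
  rw [← h4, mul_assoc, show ((zz, 1) : Mdl m k) * (zz, 1) = 1 from
    Prod.ext (Dih.zz_mul_self hm) (one_mul _), mul_one]

section Square

variable (hm : 4 ∣ m) (hk : 4 ∣ k)
include hm hk

omit S in
theorem invol_cases {d : Mdl m k} (hd : d * d = 1) :
    (d.1 = 1 ∨ d.1 = zz ∨ ∃ i, d.1 = sr i) ∧ (d.2 = 1 ∨ d.2 = zz ∨ ∃ i, d.2 = sr i) :=
  ⟨Dih.sq_cases hm (congrArg Prod.fst hd), Dih.sq_cases hk (congrArg Prod.snd hd)⟩

omit S in
theorem square_cases {w : Mdl m k} (h : w * w * (w * w) = 1) (hne : w * w ≠ 1) :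
    w * w = (zz, 1) ∨ w * w = (1, zz) ∨ w * w = (zz, zz) := by
  rcases Dih.sq_invol hm (congrArg Prod.fst h) with h1 | h1 <;>
    rcases Dih.sq_invol hk (congrArg Prod.snd h) with h2 | h2
  · exact absurd (Prod.ext h1 h2) hne
  · exact Or.inr (Or.inl (Prod.ext h1 h2))
  · exact Or.inl (Prod.ext h1 h2)
  · exact Or.inr (Or.inr (Prod.ext h1 h2))

omit S in
theorem central_zb (d : Mdl m k) : d * (1, zz) = (1, zz) * d :=
  Prod.ext (by simp) (Dih.zz_comm hk d.2)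

omit S in
theorem central_zc (d : Mdl m k) : d * (zz, zz) = (zz, zz) * d :=
  Prod.ext (Dih.zz_comm hm d.1) (Dih.zz_comm hk d.2)

theorem not_fus_za_zc : ¬ E.Fus (zz, 1) (zz, zz) := by
  intro h
  obtain ⟨n, hn, hnc⟩ :=
    E.exists_normalizer_of_fus (zz_left_central hm) (central_zc hm hk) h
  obtain ⟨θ, hθi, hθ, -⟩ := E.exists_act hn
  have hθz : θ (zz, 1) = (zz, zz) := E.inj ((hθ _).trans hnc)
  obtain ⟨q, hq⟩ := Dih.exists_root hm
  have hroot : ∀ l : ZMod k, ∃ a b, θ (r q, sr l) = (r a, r b) := by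
    intro l
    have h1 : θ (r q, sr l) * θ (r q, sr l) = (zz, zz) := by
      rw [← map_mul, Prod.mk_mul_mk, hq, DihedralGroup.sr_mul_self, hθz]
    rcases hw : θ (r q, sr l) with ⟨a | a, b | b⟩
    · exact ⟨a, b, rfl⟩
    all_goals
      rw [hw, Prod.mk_mul_mk, Prod.mk.injEq] at h1
      simp only [DihedralGroup.sr_mul_self] at h1
      first
        | exact absurd h1.1.symm (Dih.zz_ne_one hm)
        | exact absurd h1.2.symm (Dih.zz_ne_one hk)
  obtain ⟨a, b, hab⟩ := hroot 0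
  obtain ⟨a', b', hab'⟩ := hroot 1
  have hcomm : θ (r q, sr 0) * θ (r q, sr 1) = θ (r q, sr 1) * θ (r q, sr 0) := by
    rw [hab, hab', Prod.mk_mul_mk, Prod.mk_mul_mk, DihedralGroup.r_mul_r, DihedralGroup.r_mul_r,
      DihedralGroup.r_mul_r, DihedralGroup.r_mul_r, add_comm a, add_comm b]
  rw [← map_mul, ← map_mul] at hcomm
  exact Dih.sr_zero_one_not_commute hk (congrArg Prod.snd (hθi hcomm))

theorem not_fus_zb_zc : ¬ E.Fus (1, zz) (zz, zz) := E.swap.not_fus_za_zc hk hm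

theorem not_fus_za_zb : ¬ E.Fus (zz, 1) (1, zz) := by
  intro h
  obtain ⟨n, hn, hnc⟩ :=
    E.exists_normalizer_of_fus (zz_left_central hm) (central_zb hm hk) h
  obtain ⟨θ, hθi, hθ, hθF⟩ := E.exists_act hn
  obtain ⟨q, hq⟩ := Dih.exists_root hk
  have hzb : ((1, r q) : Mdl m k) * (1, r q) = (1, zz) := by
    rw [Prod.mk_mul_mk, hq, one_mul]
  have h2 : θ (1, r q) * θ (1, r q) = θ (1, zz) := by rw [← map_mul, hzb]
  have h3 : θ (1, zz) * θ (1, zz) = 1 := by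
    rw [← map_mul, Prod.mk_mul_mk, Dih.zz_mul_self hk, one_mul, Prod.mk_one_one, map_one]
  have h4 : θ (1, zz) ≠ 1 := fun e => Dih.zz_ne_one hk
    (congrArg Prod.snd (hθi (e.trans (map_one θ).symm)))
  rcases square_cases hm hk (w := θ (1, r q)) (by rw [h2]; exact h3) (by rw [h2]; exact h4)
    with e | e | e <;> rw [h2] at e
  · have h5 := E.not_swap (zz_left_central hm) hn hnc ((hθ _).symm.trans (congrArg E.hom e))
    exact Dih.zz_ne_one hm (congrArg Prod.fst h5)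
  · have h5 : θ (zz, 1) = (1, zz) := E.inj ((hθ _).trans hnc)
    exact Dih.zz_ne_one hm (congrArg Prod.fst (hθi (h5.trans e.symm)))
  · exact E.not_fus_zb_zc hm hk (e ▸ hθF _)

theorem eq_zb_of_fus {c : Mdl m k} (hc : c = (zz, 1) ∨ c = (1, zz) ∨ c = (zz, zz))
    (h : E.Fus (1, zz) c) : c = (1, zz) := by
  rcases hc with rfl | rfl | rfl
  · exact absurd h.symm (E.not_fus_za_zb hm hk)
  · rfl
  · exact absurd h (E.not_fus_zb_zc hm hk)

/-- A map induced by fusion fixes `zb` when the element commutes with the second factor's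
rotations. -/
theorem map_zb {x : Mdl m k} {φ : Mdl m k → Mdl m k}
    (hmul : ∀ d ∈ cz x, ∀ e ∈ cz x, φ (d * e) = φ d * φ e)
    (hinj : ∀ d ∈ cz x, ∀ e ∈ cz x, φ d = φ e → d = e) (hF : ∀ d ∈ cz x, E.Fus d (φ d))
    (hx : ∀ q : ZMod k, (1, r q) ∈ cz x) :
    ∃ w, φ w * φ w = (1, zz) ∧ w ∈ cz x ∧ φ (1, zz) = (1, zz) := by
  obtain ⟨q, hq⟩ := Dih.exists_root hk
  have hzb : ((1, r q) : Mdl m k) * (1, r q) = (1, zz) := by
    rw [Prod.mk_mul_mk, hq, one_mul]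
  have hz : ((1, zz) : Mdl m k) ∈ cz x := hzb ▸ mul_mem (hx q) (hx q)
  have h2 : φ (1, r q) * φ (1, r q) = φ (1, zz) := by rw [← hmul _ (hx q) _ (hx q), hzb]
  have h1 : φ 1 = 1 := by
    have h6 := hmul _ (one_mem _) _ (one_mem _)
    rw [one_mul] at h6
    exact left_eq_mul.1 h6
  have h3 : φ (1, zz) * φ (1, zz) = 1 := by
    rw [← hmul _ hz _ hz, Prod.mk_mul_mk, Dih.zz_mul_self hk, one_mul, Prod.mk_one_one, h1]
  have h4 : φ (1, zz) ≠ 1 := fun e => Dih.zz_ne_one hk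
    (congrArg Prod.snd (hinj _ hz _ (one_mem _) (e.trans h1.symm)))
  have h5 := E.eq_zb_of_fus hm hk (h2 ▸ square_cases hm hk (w := φ (1, r q))
    (by rw [h2]; exact h3) (by rw [h2]; exact h4)) (hF _ hz)
  exact ⟨_, h2.trans h5, hx q, h5⟩

omit S in
theorem mem_cz_rot {x : Mdl m k} (hx : x.2 = 1 ∨ x.2 = zz) (q : ZMod k) :
    ((1, r q) : Mdl m k) ∈ cz x := by
  refine mem_cz.2 (Prod.ext (by simp) ?_)
  rcases hx with e | e
  · simp [e]
  · simpa [e] using Dih.zz_comm hk (r q)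

/-- An extremal involution in the class has a reflection in the first coordinate only. -/
theorem extremal_form {x t : Mdl m k} (hx : x.2 = 1 ∨ x.2 = zz) (hxt : E.Fus x t)
    (ht : E.Extremal t) (ht2 : t * t = 1)
    (hnc : ¬ ((t.1 = 1 ∨ t.1 = zz) ∧ (t.2 = 1 ∨ t.2 = zz))) :
    (∃ a, t.1 = sr a) ∧ (t.2 = 1 ∨ t.2 = zz) := by
  obtain ⟨φ, hmul, hinj, hφx, hF, hcomm⟩ := E.exists_map_cz ht hxt
  obtain ⟨w, hw, hwC, -⟩ := E.map_zb hm hk hmul hinj hF (mem_cz_rot hm hk hx)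
  have hc := hcomm w hwC
  obtain ⟨h1, h2⟩ := invol_cases hm hk ht2
  rcases h2 with e | e | ⟨l, e⟩
  rotate_left 2
  · exfalso
    have h3 : (φ w).2 * sr l = sr l * (φ w).2 := by
      have := congrArg Prod.snd hc
      rwa [Prod.snd_mul, Prod.snd_mul, e] at this
    have h4 : (φ w).2 * (φ w).2 = zz := by
      have := congrArg Prod.snd hw
      rwa [Prod.snd_mul] at this
    rcases Dih.commute_sr_iff hk h3 with f | f | f | f <;> rw [f] at h4
    · rw [one_mul] at h4; exact Dih.zz_ne_one hk h4.symm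
    · rw [Dih.zz_mul_self hk] at h4; exact Dih.zz_ne_one hk h4.symm
    · rw [DihedralGroup.sr_mul_self] at h4; exact Dih.zz_ne_one hk h4.symm
    · rw [DihedralGroup.sr_mul_self] at h4; exact Dih.zz_ne_one hk h4.symm
  all_goals
    rcases h1 with f | f | ⟨a, f⟩
    · exact absurd ⟨Or.inl f, by first | exact Or.inl e | exact Or.inr e⟩ hnc
    · exact absurd ⟨Or.inr f, by first | exact Or.inl e | exact Or.inr e⟩ hnc
    · exact ⟨⟨a, f⟩, by first | exact Or.inl e | exact Or.inr e⟩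

/-- Each reflection of the first factor, or its product with `zb`, is fused to `za`. -/
theorem exists_fus_left (h2 : ∀ N : Subgroup G, N.Normal → N.index ≠ 2) (i : ZMod m) :
    ∃ e : DihedralGroup k, (e = 1 ∨ e = zz) ∧ E.Fus (sr i, e) (zz, 1) := by
  have hm2 : 2 ∣ m := dvd_trans (by norm_num) hm
  obtain ⟨one₂, hone⟩ : ∃ o, o = Multiplicative.ofAdd (1 : ZMod 2) := ⟨_, rfl⟩
  have ho2 : one₂ * one₂ = 1 := by rw [hone]; decide
  let χ : Mdl m k →* Multiplicative (ZMod 2) :=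
    (parHom hm2 one₂ one₂ ho2 ho2 rfl).comp (MonoidHom.fst _ _)
  have hχsr : ∀ (a : ZMod m) (b : DihedralGroup k), χ (sr a, b) = one₂ := fun a b => by
    show parHom hm2 one₂ one₂ ho2 ho2 rfl (sr a) = one₂
    rw [parHom_sr, ite_self]
  have hx2 : ((sr i, 1) : Mdl m k) * (sr i, 1) = 1 := by
    rw [Prod.mk_mul_mk, DihedralGroup.sr_mul_self, one_mul]; rfl
  obtain ⟨u, hxu, hu⟩ := E.exists_fus_ker h2 χ hx2 (by rw [hχsr, hone]; decide)
  have hu2 := hxu.sq hx2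
  have hu1 : u.1 = 1 ∨ u.1 = zz := by
    rcases (invol_cases hm hk hu2).1 with e | e | ⟨a, e⟩
    · exact Or.inl e
    · exact Or.inr e
    · have h3 := hχsr a u.2
      rw [← e, hu] at h3
      rw [hone] at h3
      exact absurd h3 (by decide)
  -- a central conjugate exists
  obtain ⟨c, hc1, hc2, hxc⟩ : ∃ c, (c.1 = 1 ∨ c.1 = zz) ∧ (c.2 = 1 ∨ c.2 = zz) ∧
      E.Fus (sr i, 1) c := by
    by_contra hne
    push Not at hne
    obtain ⟨t, hxt, ht⟩ := E.exists_extremal (sr i, 1)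
    have hnc : ¬ ((t.1 = 1 ∨ t.1 = zz) ∧ (t.2 = 1 ∨ t.2 = zz)) := fun h => hne t h.1 h.2 hxt
    obtain ⟨⟨a, ha⟩, -⟩ := E.extremal_form hm hk (Or.inl rfl) hxt ht (hxt.sq hx2) hnc
    have hut : E.swap.Fus (u.2, u.1) (t.2, t.1) := hxu.symm.trans hxt
    have ht' : E.swap.Extremal (t.2, t.1) := ht
    obtain ⟨⟨b, hb⟩, h3⟩ := E.swap.extremal_form hk hm hu1 hut ht'
      (Prod.ext (congrArg Prod.snd (hxt.sq hx2)) (congrArg Prod.fst (hxt.sq hx2)))
      (fun h => hnc ⟨h.2, h.1⟩)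
    rcases h3 with h3 | h3 <;> rw [show t.1 = sr a from ha] at h3
    · exact Dih.sr_ne_one a h3
    · exact Dih.sr_ne_zz hm a h3
  have hcc : ∀ d, d * c = c * d := fun d => by
    refine Prod.ext ?_ ?_
    · rcases hc1 with e | e <;> simp [e, Dih.zz_comm hm]
    · rcases hc2 with e | e <;> simp [e, Dih.zz_comm hk]
  obtain ⟨φ, hmul, hinj, hφx, hF, -⟩ := E.exists_map_cz (E.extremal_of_central hcc) hxc
  obtain ⟨-, -, -, hzb⟩ := E.map_zb hm hk hmul hinj hF (mem_cz_rot hm hk (Or.inl rfl))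
  have hzC : ((1, zz) : Mdl m k) ∈ cz (sr i, (1 : DihedralGroup k)) :=
    mem_cz.2 (Prod.ext (by simp) (by simp))
  obtain ⟨c₁, c₂⟩ := c
  rcases hc1 with rfl | rfl <;> rcases hc2 with rfl | rfl
  · exact absurd rfl (hxc.ne_one fun e => Dih.sr_ne_one i (congrArg Prod.fst e))
  · exact absurd (hinj _ (self_mem_cz _) _ hzC (hφx.trans hzb.symm))
      fun e => Dih.sr_ne_one i (congrArg Prod.fst e)
  · exact ⟨1, Or.inl rfl, hxc⟩
  · refine ⟨zz, Or.inr rfl, ?_⟩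
    have h3 := hF _ (mul_mem (self_mem_cz _) hzC)
    rw [hmul _ (self_mem_cz _) _ hzC, hφx, hzb, Prod.mk_mul_mk, Prod.mk_mul_mk, mul_one, one_mul,
      mul_one, Dih.zz_mul_self hk] at h3
    exact h3

theorem exists_twist_left (h2 : ∀ N : Subgroup G, N.Normal → N.index ≠ 2) :
    ∃ f : Mdl m k →* Mdl m k, Function.Injective f ∧ (∀ i, E.Fus (f (sr i, 1)) (zz, 1)) ∧
      f (zz, 1) = (zz, 1) ∧ ∀ b, f (1, b) = (1, b) := by
  have hm2 : 2 ∣ m := dvd_trans (by norm_num) hm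
  obtain ⟨e₀, he₀, hF₀⟩ := E.exists_fus_left hm hk h2 0
  obtain ⟨e₁, he₁, hF₁⟩ := E.exists_fus_left hm hk h2 1
  have hsq : ∀ e : DihedralGroup k, e = 1 ∨ e = zz → e * e = 1 ∧ ∀ b, e * b = b * e := by
    rintro e (rfl | rfl)
    · simp
    · exact ⟨Dih.zz_mul_self hk, fun b => (Dih.zz_comm hk b).symm⟩
  obtain ⟨s₀, z₀⟩ := hsq e₀ he₀
  obtain ⟨s₁, z₁⟩ := hsq e₁ he₁
  refine ⟨twistL (parHom hm2 e₀ e₁ s₀ s₁ (z₀ e₁)) (parHom_central hm2 s₀ s₁ (z₀ e₁) z₀ z₁),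
    twistL_injective _ _, fun i => ?_, ?_, fun b => ?_⟩
  · rw [twistL_apply, parHom_sr, mul_one]
    rcases TwoGroups.par_eq_zero_or_one (hm := hm2) i with h | h
    · rw [if_pos h]
      exact (E.fus_of_par hm (h.trans (DihedralClasses.par_zero_one hm2).1.symm) e₀).trans hF₀
    · rw [if_neg (by rw [h]; decide)]
      exact (E.fus_of_par hm (h.trans (DihedralClasses.par_zero_one hm2).2.symm) e₁).trans hF₁
  · rw [twistL_apply, parHom_zz hm, mul_one]
  · rw [twistL_apply, map_one, one_mul]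

/-- With adjusted reflections, `(sr i, zb)` is fused to `za * zb`. -/
theorem fus_sr_zz (hr : ∀ i, E.Fus (sr i, 1) (zz, 1)) (i : ZMod m) :
    E.Fus (sr i, zz) (zz, zz) := by
  obtain ⟨φ, hmul, hinj, hφx, hF, -⟩ :=
    E.exists_map_cz (E.extremal_of_central (zz_left_central hm)) (hr i)
  obtain ⟨-, -, -, hzb⟩ := E.map_zb hm hk hmul hinj hF (mem_cz_rot hm hk (Or.inl rfl))
  have hzC : ((1, zz) : Mdl m k) ∈ cz (sr i, (1 : DihedralGroup k)) :=
    mem_cz.2 (Prod.ext (by simp) (by simp))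
  have h3 := hF _ (mul_mem (self_mem_cz _) hzC)
  rw [hmul _ (self_mem_cz _) _ hzC, hφx, hzb, Prod.mk_mul_mk, Prod.mk_mul_mk, mul_one, one_mul,
    mul_one] at h3
  exact h3

/-- The class of `za` inside the Sylow subgroup. -/
theorem class_za (hr : ∀ i, E.Fus (sr i, 1) (zz, 1)) (hr' : ∀ l, E.Fus (1, sr l) (1, zz))
    (d : Mdl m k) (hd : E.Fus d (zz, 1)) : d = (zz, 1) ∨ ∃ i, d = (sr i, 1) := by
  have hzc : ∀ i, E.Fus (sr i, zz) (zz, zz) := E.fus_sr_zz hm hk hr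
  have hzc' : ∀ l, E.Fus (zz, sr l) (zz, zz) := E.swap.fus_sr_zz hk hm hr'
  have hza2 : ((zz, 1) : Mdl m k) * (zz, 1) = 1 := by
    rw [Prod.mk_mul_mk, Dih.zz_mul_self hm, one_mul]; rfl
  have hza1 : ((zz, 1) : Mdl m k) ≠ 1 := fun e => Dih.zz_ne_one hm (congrArg Prod.fst e)
  have weak : ∀ d, E.Fus d (zz, 1) →
      d = (zz, 1) ∨ (∃ i, d = (sr i, 1)) ∨ ∃ i l, d = (sr i, sr l) := by
    intro d hd
    have hd2 := hd.symm.sq hza2
    have hd1 := hd.symm.ne_one hza1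
    obtain ⟨d₁, d₂⟩ := d
    obtain ⟨h1, h2⟩ := invol_cases hm hk hd2
    simp only at h1 h2
    rcases h1 with rfl | rfl | ⟨i, rfl⟩ <;> rcases h2 with rfl | rfl | ⟨l, rfl⟩
    · exact absurd rfl hd1
    · exact absurd hd.symm (E.not_fus_za_zb hm hk)
    · exact absurd (hd.symm.trans (hr' l)) (E.not_fus_za_zb hm hk)
    · exact Or.inl rfl
    · exact absurd hd.symm (E.not_fus_za_zc hm hk)
    · exact absurd (hd.symm.trans (hzc' l)) (E.not_fus_za_zc hm hk)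
    · exact Or.inr (Or.inl ⟨i, rfl⟩)
    · exact absurd (hd.symm.trans (hzc i)) (E.not_fus_za_zc hm hk)
    · exact Or.inr (Or.inr ⟨i, l, rfl⟩)
  rcases weak d hd with h | h | ⟨i, l, rfl⟩
  · exact Or.inl h
  · exact Or.inr h
  exfalso
  refine E.no_two hm (x := (sr i, 1)) (hr i) hd ?_ (Prod.ext rfl (by simp))
    (fun e => Dih.sr_ne_zz hm i (congrArg Prod.fst e))
    (fun e => Dih.sr_ne_one l (congrArg Prod.snd e)) (fun e => Dih.sr_ne_one l ?_) ?_
  · rw [Prod.mk_mul_mk, mul_one, Dih.sr_mul_zz hm]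
    exact (E.fus_of_par hm (Dih.par_add_half hm i) (sr l)).trans hd
  · have := congrArg Prod.snd e
    simpa using this
  intro p q hp hq hp1 hq1 hpq hF
  rcases weak _ hF with h | ⟨a, h⟩ | ⟨a, b, h⟩
  · exact h
  all_goals
    exfalso
    have h1 := congrArg Prod.fst h
    rw [Prod.fst_mul] at h1
    have hc1 : p.1 * q.1 = q.1 * p.1 := by simpa using congrArg Prod.fst hpq
    obtain ⟨a', hpa⟩ : ∃ a', p.1 = sr a' := by
      rcases weak p hp with e | ⟨a', e⟩ | ⟨a', b', e⟩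
      exacts [absurd e hp1, ⟨a', by rw [e]⟩, ⟨a', by rw [e]⟩]
    obtain ⟨a'', hqa⟩ : ∃ a'', q.1 = sr a'' := by
      rcases weak q hq with e | ⟨a'', e⟩ | ⟨a'', b', e⟩
      exacts [absurd e hq1, ⟨a'', by rw [e]⟩, ⟨a'', by rw [e]⟩]
    rw [hpa, hqa] at hc1 h1
    rw [DihedralGroup.sr_mul_sr] at h1
    exact Dih.sr_ne_r _ _ h1.symm

include E in
/-- The factorisation with strongly closed factors. -/
theorem exists_closed (h2 : ∀ N : Subgroup G, N.Normal → N.index ≠ 2) :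
    ∃ E' : Emb S m k, Cfsg.IsStronglyClosed E'.left (S : Subgroup G) ∧
      Cfsg.IsStronglyClosed E'.right (S : Subgroup G) := by
  obtain ⟨f, hf, hfr, hfz, hfb⟩ := E.exists_twist_left hm hk h2
  obtain ⟨E₁, hE₁⟩ : ∃ E₁, E₁ = E.comp f hf := ⟨_, rfl⟩
  have hr₁ : ∀ i, E₁.Fus (sr i, 1) (zz, 1) := fun i => by
    rw [hE₁, comp_fus, hfz]; exact hfr i
  obtain ⟨g, hg, hgr, hgz, hgb⟩ := E₁.swap.exists_twist_left hk hm h2
  obtain ⟨E₂, hE₂⟩ : ∃ E₂, E₂ = (E₁.swap.comp g hg).swap := ⟨_, rfl⟩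
  have hr₂ : ∀ i, E₂.Fus (sr i, 1) (zz, 1) := fun i => by
    rw [hE₂, swap_fus, comp_fus, hgb, hgb, swap_fus]
    exact hr₁ i
  have hr₂' : ∀ l, E₂.Fus (1, sr l) (1, zz) := fun l => by
    rw [hE₂, swap_fus, comp_fus, hgz]
    exact hgr l
  refine ⟨E₂, E₂.isStronglyClosed_left hm (E₂.class_za hm hk hr₂ hr₂') hr₂, ?_⟩
  exact E₂.swap.isStronglyClosed_left hk (E₂.swap.class_za hk hm hr₂' hr₂) hr₂'

end Square

end Emb

end CfsgLib.ProductFusion.DD
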