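import Cfsg.Agent.Coprime.Action
import Mathlib.GroupTheory.Transfer
import Mathlib.GroupTheory.Nilpotent
import Mathlib.GroupTheory.Solvable
import Mathlib.GroupTheory.PGroup
import Mathlib.GroupTheory.Sylow
import Mathlib.GroupTheory.QuotientGroup.Basic

/-!
# A fixed-point lemma for a four-group acting on a group of odd order

`σ : Fin 3 → MulAut Q` are the involutions of a four-group acting on the solvable group `Q` of odd
order, `C` its fixed points.  If `M i` is a subgroup of the fixed points of `σ i`, normalised by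
them, containing all `x⁻¹ σ (x)`, and meeting `C` exactly in `L`, then the join of the `M i` meets
`C` exactly in `L`.
-/

set_option autoImplicit false

open scoped commutatorElement

namespace CfsgLib.ProductFusion

universe u

variable {Q : Type u} [Group Q]

/-- The three involutions of a four-group of automorphisms. -/
structure IsFour (σ : Fin 3 → MulAut Q) : Prop where
  invol : ∀ i x, σ i (σ i x) = x
  comm : ∀ i j x, σ i (σ j x) = σ j (σ i x)
  prod : ∀ i x, σ i (σ (i + 1) x) = σ (i + 2) x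

/-- The hypotheses of the lemma. -/
structure FourData (σ : Fin 3 → MulAut Q) (M : Fin 3 → Subgroup Q) (L : Subgroup Q) : Prop where
  four : IsFour σ
  le : ∀ i, ∀ x ∈ M i, σ i x = x
  nrm : ∀ i x, σ i x = x → ∀ y ∈ M i, x * y * x⁻¹ ∈ M i
  gen : ∀ i x, σ i x = x → x⁻¹ * σ (i + 1) x ∈ M i
  meet : ∀ i, ∀ x ∈ M i, σ (i + 1) x = x → x ∈ L
  sub : ∀ i, L ≤ M i
  fixed : ∀ x ∈ L, ∀ i, σ i x = x

namespace IsFour

variable {σ : Fin 3 → MulAut Q}

theorem fixed_succ (h : IsFour σ) {i : Fin 3} {x : Q} (h0 : σ i x = x) (h1 : σ (i + 1) x = x) :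
    ∀ j, σ j x = x := by
  intro j
  have h2 : σ (i + 2) x = x := by rw [← h.prod, h1, h0]
  fin_cases i <;> fin_cases j <;> first | exact h0 | exact h1 | exact h2

theorem fixed_two (h : IsFour σ) {i j : Fin 3} (hij : i ≠ j) {x : Q} (hi : σ i x = x)
    (hj : σ j x = x) : ∀ k, σ k x = x := by
  fin_cases i <;> fin_cases j <;>
    first | exact absurd rfl hij | exact h.fixed_succ hi hj | exact h.fixed_succ hj hi

theorem succ_succ (h : IsFour σ) {i : Fin 3} {x : Q} (hx : σ i x = x) :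
    σ (i + 2) x = σ (i + 1) x := by
  rw [← h.prod, h.comm, hx]

end IsFour

/-- A square root of an element of odd order inside the group it generates. -/
theorem exists_sqrt_of_odd [Finite Q] (hQ : Odd (Nat.card Q)) (v : Q) :
    ∃ k : ℕ, v ^ k * v ^ k = v := by
  obtain ⟨m, hm⟩ := hQ.of_dvd_nat (orderOf_dvd_natCard v)
  refine ⟨m + 1, ?_⟩
  rw [← pow_add, show m + 1 + (m + 1) = orderOf v + 1 by omega, pow_succ, pow_orderOf_eq_one,
    one_mul]

theorem eq_one_of_sq_mem [Finite Q] (hQ : Odd (Nat.card Q)) {L : Subgroup Q} {x : Q}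
    (hx : x * x ∈ L) : x ∈ L := by
  obtain ⟨k, hk⟩ := exists_sqrt_of_odd hQ x
  rw [← (Commute.refl x).mul_pow] at hk
  exact hk ▸ L.pow_mem hx k

/-- Averaging a coset representative over an involution of odd-order coset. -/
theorem exists_fixed_rep [Finite Q] (hQ : Odd (Nat.card Q)) {τ : MulAut Q}
    (hτ : ∀ x, τ (τ x) = x) (x : Q) :
    ∃ k : ℕ, τ (x * (x⁻¹ * τ x) ^ k) = x * (x⁻¹ * τ x) ^ k := by
  obtain ⟨k, hk⟩ := exists_sqrt_of_odd hQ (x⁻¹ * τ x)
  refine ⟨k, ?_⟩
  have h1 : τ (x⁻¹ * τ x) = (x⁻¹ * τ x)⁻¹ := by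
    rw [map_mul, map_inv, hτ, mul_inv_rev, inv_inv]
  rw [map_mul, map_pow, h1, inv_pow]
  calc τ x * ((x⁻¹ * τ x) ^ k)⁻¹ = x * (x⁻¹ * τ x) * ((x⁻¹ * τ x) ^ k)⁻¹ := by group
    _ = x * ((x⁻¹ * τ x) ^ k * (x⁻¹ * τ x) ^ k) * ((x⁻¹ * τ x) ^ k)⁻¹ := by rw [hk]
    _ = _ := by group

section Fixed

variable {σ : Fin 3 → MulAut Q} {M : Fin 3 → Subgroup Q} {L : Subgroup Q}

/-- The common fixed points. -/
def fix (σ : Fin 3 → MulAut Q) : Subgroup Q where
  carrier := {x | ∀ i, σ i x = x}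
  one_mem' := fun i => map_one _
  mul_mem' := fun hx hy i => by rw [map_mul, hx i, hy i]
  inv_mem' := fun hx i => by rw [map_inv, hx i]

theorem mem_fix {x : Q} : x ∈ fix σ ↔ ∀ i, σ i x = x := Iff.rfl

namespace FourData

theorem apply_mem (h : FourData σ M L) (i j : Fin 3) {x : Q} (hx : x ∈ M i) : σ j x ∈ M i := by
  have h0 := h.le i x hx
  have h1 : σ (i + 1) x ∈ M i := by
    have := mul_mem hx (h.gen i x h0)
    rwa [mul_inv_cancel_left] at this
  have h2 : σ (i + 2) x ∈ M i := by rw [h.four.succ_succ h0]; exact h1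
  have h0' : σ i x ∈ M i := h0.symm ▸ hx
  fin_cases i <;> fin_cases j <;> first | exact h0' | exact h1 | exact h2

theorem conj_fix_mem (h : FourData σ M L) {c : Q} (hc : c ∈ fix σ) {i : Fin 3} {y : Q}
    (hy : y ∈ M i) : c * y * c⁻¹ ∈ M i :=
  h.nrm i c (hc i) y hy

theorem le_fix (h : FourData σ M L) : L ≤ fix σ := h.fixed

theorem meet_fix (h : FourData σ M L) {i : Fin 3} {x : Q} (hx : x ∈ M i) (hf : x ∈ fix σ) :
    x ∈ L :=
  h.meet i x hx (hf (i + 1))

theorem fix_normalizes (h : FourData σ M L) {c x : Q} (hc : c ∈ fix σ) (hx : x ∈ L) :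
    c * x * c⁻¹ ∈ L :=
  h.meet_fix (h.conj_fix_mem hc (h.sub 0 hx)) (mul_mem (mul_mem hc (h.le_fix hx)) (inv_mem hc))

/-- A point fixed by `σ i` is a product of an element of `M i` and one fixed by everything. -/
theorem exists_decomp [Finite Q] (hQ : Odd (Nat.card Q)) (h : FourData σ M L) {i : Fin 3} {x : Q}
    (hx : σ i x = x) : ∃ u ∈ M i, x * u ∈ fix σ := by
  obtain ⟨k, hk⟩ := exists_fixed_rep hQ (h.four.invol (i + 1)) x
  have hu : (x⁻¹ * σ (i + 1) x) ^ k ∈ M i := pow_mem (h.gen i x hx) k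
  exact ⟨_, hu, h.four.fixed_succ (by rw [map_mul, hx, h.le i _ hu]) hk⟩

end FourData

/-- The product of the conjugates under the four-group. -/
def proj (σ : Fin 3 → MulAut Q) (x : Q) : Q := x * σ 0 x * σ 1 x * σ 2 x

variable {V : Subgroup Q}

theorem proj_mul (hVc : ∀ x ∈ V, ∀ y ∈ V, x * y = y * x) (hVσ : ∀ i, ∀ x ∈ V, σ i x ∈ V)
    {x y : Q} (hx : x ∈ V) (hy : y ∈ V) : proj σ (x * y) = proj σ x * proj σ y := by
  let X : Q → V → V := fun _ v => v
  have key : ∀ a b c d e f g k : V,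
      (a * b) * (c * d) * (e * f) * (g * k) = (a * c * e * g) * (b * d * f * k) := by
    haveI : IsMulCommutative V := ⟨⟨fun a b => Subtype.ext (hVc a a.2 b b.2)⟩⟩
    intro a b c d e f g k
    letI : CommGroup V := { (inferInstance : Group V) with
      mul_comm := fun a b => Subtype.ext (hVc a a.2 b b.2) }
    simp only [mul_comm, mul_left_comm, mul_assoc]
  have := congrArg Subtype.val (key ⟨x, hx⟩ ⟨y, hy⟩ ⟨_, hVσ 0 x hx⟩ ⟨_, hVσ 0 y hy⟩
    ⟨_, hVσ 1 x hx⟩ ⟨_, hVσ 1 y hy⟩ ⟨_, hVσ 2 x hx⟩ ⟨_, hVσ 2 y hy⟩)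
  simp only [proj, map_mul]
  simpa using this

theorem proj_mem (h : IsFour σ) (hVc : ∀ x ∈ V, ∀ y ∈ V, x * y = y * x)
    (hVσ : ∀ i, ∀ x ∈ V, σ i x ∈ V) {x : Q} (hx : x ∈ V) : proj σ x ∈ fix σ := by
  have hc : ∀ a b : V, a * b = b * a := fun a b => Subtype.ext (hVc a a.2 b b.2)
  intro i
  have key : ∀ a b c d : V, b * a * d * c = a * b * c * d ∧ c * d * a * b = a * b * c * d ∧
      d * c * b * a = a * b * c * d := by
    intro a b c d
    letI : CommGroup V := { (inferInstance : Group V) with mul_comm := hc }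
    refine ⟨?_, ?_, ?_⟩ <;> simp only [mul_comm, mul_left_comm, mul_assoc]
  obtain ⟨e0, e1, e2⟩ := key ⟨x, hx⟩ ⟨_, hVσ 0 x hx⟩ ⟨_, hVσ 1 x hx⟩ ⟨_, hVσ 2 x hx⟩
  have e0' := congrArg Subtype.val e0
  have e1' := congrArg Subtype.val e1
  have e2' := congrArg Subtype.val e2
  simp only [Subgroup.coe_mul] at e0' e1' e2'
  have p01 : σ 0 (σ 1 x) = σ 2 x := h.prod 0 x
  have p12 : σ 1 (σ 2 x) = σ 0 x := h.prod 1 x
  have p20 : σ 2 (σ 0 x) = σ 1 x := h.prod 2 x
  fin_cases i
  · show σ 0 (proj σ x) = proj σ x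
    simp only [proj, map_mul, h.invol, p01, h.comm 0 2, p20]
    exact e0'
  · show σ 1 (proj σ x) = proj σ x
    simp only [proj, map_mul, h.invol, p12, h.comm 1 0, p01]
    exact e1'
  · show σ 2 (proj σ x) = proj σ x
    simp only [proj, map_mul, h.invol, p20, h.comm 2 1, p12]
    exact e2'

theorem proj_of_fix {x : Q} (hx : x ∈ fix σ) : proj σ x = x * x * (x * x) := by
  rw [proj, hx 0, hx 1, hx 2, mul_assoc]

/-- The elements of `V` whose projection lies in `L`. -/
def projPre (σ : Fin 3 → MulAut Q) (L V : Subgroup Q)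
    (hVc : ∀ x ∈ V, ∀ y ∈ V, x * y = y * x) (hVσ : ∀ i, ∀ x ∈ V, σ i x ∈ V) : Subgroup Q where
  carrier := {x | x ∈ V ∧ proj σ x ∈ L}
  one_mem' := ⟨one_mem _, by simp [proj]⟩
  mul_mem' := fun hx hy => ⟨mul_mem hx.1 hy.1, by
    rw [proj_mul hVc hVσ hx.1 hy.1]; exact mul_mem hx.2 hy.2⟩
  inv_mem' := fun {x} hx => ⟨inv_mem hx.1, by
    have := proj_mul hVc hVσ hx.1 (inv_mem hx.1)
    rw [mul_inv_cancel] at this
    have h1 : proj σ x⁻¹ = (proj σ x)⁻¹ := by
      refine eq_inv_of_mul_eq_one_right ?_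
      rw [← this]; simp [proj]
    rw [h1]; exact inv_mem hx.2⟩

theorem proj_mem_of_mem [Finite Q] (h : FourData σ M L) {hVc : ∀ x ∈ V, ∀ y ∈ V, x * y = y * x}
    {hVσ : ∀ i, ∀ x ∈ V, σ i x ∈ V} {i : Fin 3} {x : Q} (hxV : x ∈ V) (hxM : x ∈ M i) :
    x ∈ projPre σ L V hVc hVσ :=
  ⟨hxV, h.meet_fix (mul_mem (mul_mem (mul_mem hxM (h.apply_mem i 0 hxM)) (h.apply_mem i 1 hxM))
    (h.apply_mem i 2 hxM)) (proj_mem h.four hVc hVσ hxV)⟩

theorem mem_of_mem_projPre [Finite Q] (hQ : Odd (Nat.card Q))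
    {hVc : ∀ x ∈ V, ∀ y ∈ V, x * y = y * x} {hVσ : ∀ i, ∀ x ∈ V, σ i x ∈ V} {x : Q}
    (hx : x ∈ projPre σ L V hVc hVσ) (hf : x ∈ fix σ) : x ∈ L :=
  eq_one_of_sq_mem hQ (eq_one_of_sq_mem hQ (proj_of_fix hf ▸ hx.2))

end Fixed

/-- A minimal invariant normal subgroup. -/
theorem exists_minimal_invariant [Finite Q] (σ : Fin 3 → MulAut Q) {W : Subgroup Q}
    (hW : W ≠ ⊥) (hWn : W.Normal) (hWσ : ∀ i, ∀ x ∈ W, σ i x ∈ W) :
    ∃ V : Subgroup Q, V ≤ W ∧ V ≠ ⊥ ∧ V.Normal ∧ (∀ i, ∀ x ∈ V, σ i x ∈ V) ∧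
      ∀ U : Subgroup Q, U ≤ V → U ≠ ⊥ → U.Normal → (∀ i, ∀ x ∈ U, σ i x ∈ U) → U = V := by
  obtain ⟨V, ⟨hV, hmin⟩⟩ := (Set.toFinite {V : Subgroup Q | V ≤ W ∧ V ≠ ⊥ ∧ V.Normal ∧
    ∀ i, ∀ x ∈ V, σ i x ∈ V}).exists_minimal ⟨W, le_rfl, hW, hWn, hWσ⟩
  exact ⟨V, hV.1, hV.2.1, hV.2.2.1, hV.2.2.2, fun U hU h1 h2 h3 =>
    le_antisymm hU (hmin ⟨hU.trans hV.1, h1, h2, h3⟩ hU)⟩

/-- Characteristic subgroups are invariant. -/
theorem apply_mem_of_characteristic (τ : MulAut Q) {W : Subgroup Q} [hW : W.Characteristic]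
    {x : Q} (hx : x ∈ W) : τ x ∈ W :=
  Subgroup.characteristic_iff_le_comap.1 hW τ hx

/-- The restriction to an invariant subgroup. -/
def restrictAut (τ : MulAut Q) (hτ : ∀ x, τ (τ x) = x) (T : Subgroup Q) (hT : ∀ x ∈ T, τ x ∈ T) :
    MulAut T where
  toFun x := ⟨τ x, hT x x.2⟩
  invFun x := ⟨τ x, hT x x.2⟩
  left_inv x := Subtype.ext (hτ x)
  right_inv x := Subtype.ext (hτ x)
  map_mul' x y := Subtype.ext (map_mul τ (x : Q) y)

theorem isFour_restrict {σ : Fin 3 → MulAut Q} (h : IsFour σ) (T : Subgroup Q)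
    (hT : ∀ i, ∀ x ∈ T, σ i x ∈ T) :
    IsFour fun i => restrictAut (σ i) (h.invol i) T (hT i) :=
  ⟨fun i x => Subtype.ext (h.invol i x), fun i j x => Subtype.ext (h.comm i j x),
    fun i x => Subtype.ext (h.prod i x)⟩

theorem FourData.restrict {σ : Fin 3 → MulAut Q} {M : Fin 3 → Subgroup Q} {L : Subgroup Q}
    (h : FourData σ M L) (T : Subgroup Q) (hT : ∀ i, ∀ x ∈ T, σ i x ∈ T) :
    FourData (fun i => restrictAut (σ i) (h.four.invol i) T (hT i))
      (fun i => (M i).subgroupOf T) (L.subgroupOf T) where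
  four := isFour_restrict h.four T hT
  le i x hx := Subtype.ext (h.le i x hx)
  nrm i x hx y hy := h.nrm i x (congrArg Subtype.val hx) y hy
  gen i x hx := h.gen i x (congrArg Subtype.val hx)
  meet i x hx hxs := h.meet i x hx (congrArg Subtype.val hxs)
  sub i := Subgroup.comap_mono (h.sub i)
  fixed x hx i := Subtype.ext (h.fixed x hx i)

/-- The map induced on a quotient. -/
def quotAut (τ : MulAut Q) (hτ : ∀ x, τ (τ x) = x) (V : Subgroup Q) [V.Normal]
    (hV : ∀ x ∈ V, τ x ∈ V) : MulAut (Q ⧸ V) :=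
  MonoidHom.toMulEquiv (QuotientGroup.map V V τ.toMonoidHom hV)
    (QuotientGroup.map V V τ.toMonoidHom hV)
    (QuotientGroup.monoidHom_ext _ (MonoidHom.ext fun x => by simp [hτ]))
    (QuotientGroup.monoidHom_ext _ (MonoidHom.ext fun x => by simp [hτ]))

@[simp]
theorem quotAut_mk (τ : MulAut Q) (hτ : ∀ x, τ (τ x) = x) (V : Subgroup Q) [V.Normal]
    (hV : ∀ x ∈ V, τ x ∈ V) (x : Q) :
    quotAut τ hτ V hV (QuotientGroup.mk x) = QuotientGroup.mk (τ x) :=
  rfl

theorem exists_fixed_lift [Finite Q] (hQ : Odd (Nat.card Q)) (τ : MulAut Q)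
    (hτ : ∀ x, τ (τ x) = x) (V : Subgroup Q) [V.Normal] (hV : ∀ x ∈ V, τ x ∈ V) {x : Q ⧸ V}
    (hx : quotAut τ hτ V hV x = x) : ∃ y : Q, QuotientGroup.mk y = x ∧ τ y = y := by
  obtain ⟨y, rfl⟩ := QuotientGroup.mk_surjective x
  obtain ⟨k, hk⟩ := exists_fixed_rep hQ hτ y
  have hv : y⁻¹ * τ y ∈ V := QuotientGroup.eq.1 hx.symm
  refine ⟨_, ?_, hk⟩
  rw [QuotientGroup.eq]
  simpa using inv_mem (pow_mem hv k)

theorem isFour_quot {σ : Fin 3 → MulAut Q} (h : IsFour σ) (V : Subgroup Q) [V.Normal]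
    (hV : ∀ i, ∀ x ∈ V, σ i x ∈ V) :
    IsFour fun i => quotAut (σ i) (h.invol i) V (hV i) :=
  ⟨fun i => Quotient.ind fun x => congrArg QuotientGroup.mk (h.invol i x),
    fun i j => Quotient.ind fun x => congrArg QuotientGroup.mk (h.comm i j x),
    fun i => Quotient.ind fun x => congrArg QuotientGroup.mk (h.prod i x)⟩

theorem FourData.quot [Finite Q] (hQ : Odd (Nat.card Q)) {σ : Fin 3 → MulAut Q}
    {M : Fin 3 → Subgroup Q} {L : Subgroup Q} (h : FourData σ M L) (V : Subgroup Q) [V.Normal]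
    (hV : ∀ i, ∀ x ∈ V, σ i x ∈ V) :
    FourData (fun i => quotAut (σ i) (h.four.invol i) V (hV i))
      (fun i => (M i).map (QuotientGroup.mk' V)) (L.map (QuotientGroup.mk' V)) where
  four := isFour_quot h.four V hV
  le i x hx := by
    obtain ⟨y, hy, rfl⟩ := hx
    exact congrArg QuotientGroup.mk (h.le i y hy)
  nrm i x hx y hy := by
    obtain ⟨y, hy, rfl⟩ := hy
    obtain ⟨x, rfl, hx'⟩ := exists_fixed_lift hQ _ _ V (hV i) hx
    exact ⟨x * y * x⁻¹, h.nrm i x hx' y hy, rfl⟩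
  gen i x hx := by
    obtain ⟨x, rfl, hx'⟩ := exists_fixed_lift hQ _ _ V (hV i) hx
    exact ⟨x⁻¹ * σ (i + 1) x, h.gen i x hx', rfl⟩
  meet i x hx hxs := by
    obtain ⟨y, hy, rfl⟩ := hx
    have hv : y⁻¹ * σ (i + 1) y ∈ V := QuotientGroup.eq.1 hxs.symm
    obtain ⟨k, hk⟩ := exists_fixed_rep hQ (h.four.invol (i + 1)) y
    refine ⟨_, h.meet i _ (mul_mem hy (pow_mem (h.gen i y (h.le i y hy)) k)) hk, ?_⟩
    show (QuotientGroup.mk _ : Q ⧸ V) = QuotientGroup.mk y
    rw [QuotientGroup.eq]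
    simpa using inv_mem (pow_mem hv k)
  sub i := Subgroup.map_mono (h.sub i)
  fixed x hx i := by
    obtain ⟨y, hy, rfl⟩ := hx
    exact congrArg QuotientGroup.mk (h.fixed y hy i)

theorem card_quotient_lt [Finite Q] {V : Subgroup Q} (hV : V ≠ ⊥) :
    Nat.card (Q ⧸ V) < Nat.card Q := by
  rw [Subgroup.card_eq_card_quotient_mul_card_subgroup V]
  exact lt_mul_of_one_lt_right Nat.card_pos ((Subgroup.one_lt_card_iff_ne_bot V).2 hV)

/-- The fixed points of the three involutions generate. -/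
theorem eq_top_of_fixed_mem (n : ℕ) : ∀ (Q : Type u) [Group Q] [Finite Q], Nat.card Q = n →
    Odd (Nat.card Q) → Group.IsSolvable Q → ∀ (σ : Fin 3 → MulAut Q), IsFour σ →
    ∀ K : Subgroup Q, (∀ i x, σ i x = x → x ∈ K) → K = ⊤ := by
  induction n using Nat.strong_induction_on with
  | _ n ih =>
    intro Q _ _ hn hQ hsol σ hσ K hK
    haveI := hsol
    rcases subsingleton_or_nontrivial Q with hs | hnt
    · exact eq_top_iff.2 fun x _ => Subsingleton.elim (1 : Q) x ▸ one_mem K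
    obtain ⟨m, hm1, hm2⟩ : ∃ m, derivedSeries Q m ≠ ⊥ ∧ derivedSeries Q (m + 1) = ⊥ := by
      classical
      have hex : ∃ m, derivedSeries Q m = ⊥ := (Group.isSolvable_def Q).1 hsol
      obtain ⟨m, hm⟩ : ∃ m, Nat.find hex = m + 1 := by
        refine Nat.exists_eq_succ_of_ne_zero fun h0 => ?_
        have := Nat.find_spec hex
        rw [h0, derivedSeries_zero] at this
        exact top_ne_bot this
      exact ⟨m, Nat.find_min hex (by omega), hm ▸ Nat.find_spec hex⟩
    obtain ⟨V, hVW, hV0, hVn, hVσ, -⟩ := exists_minimal_invariant σ hm1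
      (derivedSeries_normal Q m) (fun i x hx => apply_mem_of_characteristic (σ i) hx)
    have hVc : ∀ x ∈ V, ∀ y ∈ V, x * y = y * x := by
      intro x hx y hy
      have : ⁅x, y⁆ ∈ derivedSeries Q (m + 1) := by
        rw [derivedSeries_succ]; exact Subgroup.commutator_mem_commutator (hVW hx) (hVW hy)
      rw [hm2, Subgroup.mem_bot] at this
      exact commutatorElement_eq_one_iff_mul_comm.1 this
    haveI := hVn
    have hquot : K.map (QuotientGroup.mk' V) = ⊤ := ih (Nat.card (Q ⧸ V))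
      (hn ▸ card_quotient_lt hV0) (Q ⧸ V) rfl (hQ.of_dvd_nat (Subgroup.card_quotient_dvd_card V))
      inferInstance _ (isFour_quot hσ V hVσ) _ fun i x hx => by
        obtain ⟨y, rfl, hy⟩ := exists_fixed_lift hQ _ _ V (hVσ i) hx
        exact ⟨y, hK i y hy, rfl⟩
    have hVK : V ≤ K := by
      intro v hv
      refine eq_one_of_sq_mem hQ ?_
      have hmem : ∀ i, v * σ i v ∈ K := fun i => hK i _ (by
        rw [map_mul, hσ.invol]
        exact hVc _ (hVσ i v hv) _ hv)
      have hp : proj σ v ∈ K := hK 0 _ (proj_mem hσ hVc hVσ hv 0)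
      have e : v * v = v * σ 0 v * (v * σ 1 v) * (v * σ 2 v) * (proj σ v)⁻¹ := by
        rw [eq_mul_inv_iff_mul_eq]
        let c : CommGroup V := { (inferInstance : Group V) with
          mul_comm := fun a b => Subtype.ext (hVc a a.2 b b.2) }
        have key : ∀ a b c d : V, a * a * (a * b * c * d) = a * b * (a * c) * (a * d) := by
          intro a b c d
          simp only [mul_comm, mul_left_comm, mul_assoc]
        have := congrArg Subtype.val
          (key ⟨v, hv⟩ ⟨_, hVσ 0 v hv⟩ ⟨_, hVσ 1 v hv⟩ ⟨_, hVσ 2 v hv⟩)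
        simpa [proj] using this
      rw [e]
      exact mul_mem (mul_mem (mul_mem (hmem 0) (hmem 1)) (hmem 2)) (inv_mem hp)
    refine eq_top_iff.2 fun x _ => ?_
    obtain ⟨y, hy, hyx⟩ : QuotientGroup.mk' V x ∈ K.map (QuotientGroup.mk' V) :=
      hquot ▸ Subgroup.mem_top _
    have hv : y⁻¹ * x ∈ V := QuotientGroup.eq.1 hyx
    simpa using mul_mem hy (hVK hv)

/-- Projections of commutators with the generators lie in `L`. -/
theorem commutator_le_projPre [Finite Q] (hQ : Odd (Nat.card Q)) (hsol : Group.IsSolvable Q)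
    {σ : Fin 3 → MulAut Q} {M : Fin 3 → Subgroup Q} {L : Subgroup Q} (h : FourData σ M L)
    (htop : (⨆ i, M i) = ⊤) {U V : Subgroup Q} [U.Normal] (hUσ : ∀ i, ∀ x ∈ U, σ i x ∈ U)
    (hVc : ∀ x ∈ V, ∀ y ∈ V, x * y = y * x) (hVσ : ∀ i, ∀ x ∈ V, σ i x ∈ V)
    (hUV : ∀ u ∈ U, ∀ v ∈ V, u * v = v * u) (hle : ∀ u ∈ U, ∀ y : Q, ⁅y, u⁆ ∈ V) :
    ⁅(⊤ : Subgroup Q), U⁆ ≤ projPre σ L V hVc hVσ := by
  haveI := hsol
  obtain ⟨K, hKdef⟩ : ∃ K, K = projPre σ L V hVc hVσ := ⟨_, rfl⟩
  rw [← hKdef]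
  have hmul : ∀ (y : Q), ∀ u ∈ U, ∀ u' ∈ U, ⁅y, u * u'⁆ = ⁅y, u⁆ * ⁅y, u'⁆ := by
    intro y u hu u' hu'
    have e : ⁅y, u * u'⁆ = ⁅y, u⁆ * (u * ⁅y, u'⁆ * u⁻¹) := by
      simp only [commutatorElement_def]; group
    rw [e, hUV u hu _ (hle u' hu' y), mul_inv_cancel_right]
  have hgen : ∀ i, ∀ y ∈ M i, ∀ u ∈ U, ⁅y, u⁆ ∈ K := by
    intro i y hy
    let U' : Subgroup U :=
      { carrier := {u | ⁅y, (u : Q)⁆ ∈ K}
        one_mem' := by simp [commutatorElement_def]
        mul_mem' := fun {u u'} hu hu' => by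
          simp only [Set.mem_ofPred_eq, Subgroup.coe_mul] at hu hu' ⊢
          rw [hmul y u u.2 u' u'.2]
          exact mul_mem hu hu'
        inv_mem' := fun {u} hu => by
          simp only [Set.mem_ofPred_eq, InvMemClass.coe_inv] at hu ⊢
          have := hmul y u u.2 (u : Q)⁻¹ (inv_mem u.2)
          rw [mul_inv_cancel, commutatorElement_one_right] at this
          rw [eq_inv_of_mul_eq_one_right this.symm]
          exact inv_mem hu }
    have hU' : U' = ⊤ := by
      refine eq_top_of_fixed_mem _ U rfl (hQ.of_dvd_nat (Subgroup.card_subgroup_dvd_card U))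
        inferInstance _ (isFour_restrict h.four U hUσ) U' fun j u hu => ?_
      have hu' : σ j (u : Q) = u := congrArg Subtype.val hu
      have hsame : ∀ u ∈ U, σ i u = u → ⁅y, u⁆ ∈ K := by
        intro u hu hfix
        rw [hKdef]
        refine proj_mem_of_mem h (i := i) (hle u hu y) ?_
        have e : ⁅y, u⁆ = y * (u * y⁻¹ * u⁻¹) := by simp only [commutatorElement_def]; group
        rw [e]
        exact mul_mem hy (h.nrm i u hfix _ (inv_mem hy))
      show ⁅y, (u : Q)⁆ ∈ K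
      rcases eq_or_ne j i with rfl | hji
      · exact hsame u u.2 hu'
      -- `u σᵢ(u)` is fixed by `σ i`
      have hσu : σ i (u : Q) ∈ U := hUσ i u u.2
      have hz : σ i (σ i (u : Q) * u) = u * σ i (u : Q) := by rw [map_mul, h.four.invol]
      have hδ : σ i ⁅y, (u : Q)⁆ = ⁅y, σ i (u : Q)⁆ := by
        rw [map_commutatorElement, h.le i y hy]
      have hσV : σ i ⁅y, (u : Q)⁆ ∈ V := hVσ i _ (hle _ u.2 y)
      have hδV := hle (u : Q) u.2 y
      have hcom : Commute (σ i ⁅y, (u : Q)⁆) ⁅y, (u : Q)⁆ := hVc _ hσV _ hδV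
      -- averaging
      obtain ⟨k, hk⟩ := exists_fixed_rep hQ (h.four.invol i) (u : Q)
      have hwU : ((u : Q)⁻¹ * σ i (u : Q)) ^ k ∈ U := pow_mem (mul_mem (inv_mem u.2) hσu) k
      have h1 := hsame _ (mul_mem u.2 hwU) hk
      rw [hmul y u u.2 _ hwU] at h1
      have hpow : ⁅y, ((u : Q)⁻¹ * σ i (u : Q)) ^ k⁆ ∈ V := hle _ hwU y
      rw [hKdef] at h1 ⊢
      refine ⟨hδV, ?_⟩
      -- the second factor projects to the identity
      have hw1 : proj σ ⁅y, ((u : Q)⁻¹ * σ i (u : Q)) ^ k⁆ = 1 := by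
        obtain ⟨w, hwdef⟩ : ∃ w, w = ((u : Q)⁻¹ * σ i (u : Q)) ^ k := ⟨_, rfl⟩
        rw [← hwdef] at hwU hpow ⊢
        have hinv : σ i w = w⁻¹ := by
          rw [hwdef, map_pow, ← inv_pow, map_mul, map_inv, h.four.invol, mul_inv_rev, inv_inv]
        have hneg : σ i ⁅y, w⁆ = ⁅y, w⁆⁻¹ := by
          rw [map_commutatorElement, h.le i y hy, hinv]
          have := hmul y w hwU w⁻¹ (inv_mem hwU)
          rw [mul_inv_cancel, commutatorElement_one_right] at this
          exact eq_inv_of_mul_eq_one_right this.symm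
        have h3 : proj σ ⁅y, w⁆ = proj σ (σ i ⁅y, w⁆) := by
          have hp := proj_mem h.four hVc hVσ hpow i
          rw [← hp]
          simp only [proj, map_mul, h.four.comm i]
        rw [hneg] at h3
        have h4 := proj_mul hVc hVσ hpow (inv_mem hpow)
        rw [mul_inv_cancel, ← h3] at h4
        have h5 : proj σ ⁅y, w⁆ * proj σ ⁅y, w⁆ = 1 := by rw [← h4]; simp [proj]
        exact Subgroup.mem_bot.1 (eq_one_of_sq_mem hQ (L := ⊥) (by rw [h5]; exact one_mem _))
      have h2 := h1.2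
      rwa [proj_mul hVc hVσ hδV hpow, hw1, mul_one] at h2
    intro u hu
    exact (hU' ▸ Subgroup.mem_top (⟨u, hu⟩ : U) : (⟨u, hu⟩ : U) ∈ U')
  have hall : ∀ y ∈ (⨆ i, M i), ∀ u ∈ U, ⁅y, u⁆ ∈ K := by
    intro y hy
    induction hy using Subgroup.iSup_induction' with
    | hp i y hy => exact hgen i y hy
    | h1 => intro u _; simp [commutatorElement_def]
    | hmul a b _ _ ha hb =>
      intro u hu
      have e : ⁅a * b, u⁆ = ⁅a, b * u * b⁻¹⁆ * ⁅b, u⁆ := by
        simp only [commutatorElement_def]; group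
      rw [e]
      exact mul_mem (ha _ ((inferInstance : U.Normal).conj_mem u hu b)) (hb u hu)
  refine Subgroup.commutator_le.2 fun y _ u hu => hall y (htop ▸ Subgroup.mem_top y) u hu

/-- A central element of the derived group lies in the derived group of a Sylow subgroup. -/
theorem mem_commutator_of_central [Finite Q] {r : ℕ} [Fact r.Prime] (R : Sylow r Q) {v : Q}
    (hvR : v ∈ R) (hvc : v ∈ Subgroup.center Q) (hvd : v ∈ commutator Q) :
    v ∈ ⁅(R : Subgroup Q), (R : Subgroup Q)⁆ := by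
  let ϕ : (R : Subgroup Q) →* Abelianization (R : Subgroup Q) := Abelianization.of
  have h1 : MonoidHom.transfer ϕ v = ϕ ⟨v ^ (R : Subgroup Q).index, pow_mem hvR _⟩ := by
    rw [MonoidHom.transfer_eq_pow ϕ v fun k g hk => ?_]
    have hc : v ^ k * g = g * v ^ k :=
      ((Commute.pow_left (Subgroup.mem_center_iff.1 hvc g).symm k) : _)
    rw [mul_assoc, hc, ← mul_assoc, inv_mul_cancel, one_mul]
  have h2 : MonoidHom.transfer ϕ v = 1 := by
    have := MonoidHom.mem_ker.1 (Abelianization.commutator_subset_ker (MonoidHom.transfer ϕ) hvd)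
    exact this
  rw [h2] at h1
  have h3 : ϕ ⟨v, hvR⟩ ^ (R : Subgroup Q).index = 1 := by
    rw [← map_pow]; exact h1.symm
  obtain ⟨e, he⟩ := R.isPGroup' (⟨v, hvR⟩ : (R : Subgroup Q))
  have h4 : ϕ ⟨v, hvR⟩ ^ (r ^ e) = 1 := by
    rw [← map_pow, he, map_one]
  have hcop : ((R : Subgroup Q).index).Coprime (r ^ e) :=
    (Nat.Coprime.pow_right _ ((Fact.out : r.Prime).coprime_iff_not_dvd.2 R.not_dvd_index).symm)
  have h5 : ϕ ⟨v, hvR⟩ = 1 :=
    orderOf_eq_one_iff.1 (Nat.eq_one_of_dvd_coprimes hcop (orderOf_dvd_of_pow_eq_one h3)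
      (orderOf_dvd_of_pow_eq_one h4))
  have h6 : (⟨v, hvR⟩ : (R : Subgroup Q)) ∈ commutator (R : Subgroup Q) := by
    rw [← Abelianization.ker_of]; exact MonoidHom.mem_ker.2 h5
  have h7 := Subgroup.mem_map_of_mem (R : Subgroup Q).subtype h6
  rwa [commutator_def, Subgroup.map_commutator, ← MonoidHom.range_eq_map,
    Subgroup.range_subtype] at h7

/-- An involution acting on an odd finite set has an odd number of fixed points. -/
theorem odd_card_fixed {α : Type u} [Finite α] (hα : Odd (Nat.card α)) (f : Equiv.Perm α)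
    (hf : ∀ x, f (f x) = x) : Odd (Nat.card {x : α // f x = x}) := by
  classical
  haveI := Fintype.ofFinite α
  haveI : Fact (Nat.Prime 2) := ⟨Nat.prime_two⟩
  have h := Equiv.Perm.card_compl_support_modEq (p := 2) (n := 1) (σ := f)
    (by ext x; simp [pow_two, hf])
  have h1 : Nat.card {x : α // f x = x} = (f.supportᶜ).card := by
    rw [Nat.card_eq_fintype_card, Fintype.card_subtype]
    congr 1
    ext x
    simp
  rw [h1, Nat.odd_iff]
  rw [Nat.card_eq_fintype_card, Nat.odd_iff] at hα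
  rw [Nat.ModEq] at h
  omega

theorem exists_invariant_sylow [Finite Q] (hQ : Odd (Nat.card Q)) (r : ℕ) [Fact r.Prime]
    {σ : Fin 3 → MulAut Q} (h : IsFour σ) :
    ∃ R : Sylow r Q, ∀ i, ∀ x ∈ R, σ i x ∈ R := by
  have hodd : Odd (Nat.card (Sylow r Q)) :=
    hQ.of_dvd_nat ((Sylow.card_dvd_index (default : Sylow r Q)).trans
      (Subgroup.index_dvd_card _))
  have hinv : ∀ (i : Fin 3) (R : Sylow r Q), σ i • (σ i • R) = R := fun i R => by
    rw [smul_smul]
    have : σ i * σ i = 1 := MulEquiv.ext fun x => h.invol i x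
    rw [this, one_smul]
  let f : Fin 3 → Equiv.Perm (Sylow r Q) := fun i =>
    ⟨fun R => σ i • R, fun R => σ i • R, hinv i, hinv i⟩
  have h0 := odd_card_fixed hodd (f 0) (hinv 0)
  have hcomm : σ 0 * σ 1 = σ 1 * σ 0 := MulEquiv.ext fun x => h.comm 0 1 x
  let g : Equiv.Perm {R : Sylow r Q // f 0 R = R} :=
    (f 1).subtypePerm fun R => by
      show σ 0 • σ 1 • R = σ 1 • R ↔ σ 0 • R = R
      rw [smul_smul, hcomm, ← smul_smul]
      exact (smul_left_cancel_iff _)
  have h1 := odd_card_fixed h0 g (fun R => Subtype.ext (hinv 1 R.1))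
  obtain ⟨⟨⟨R, hR0⟩, hR1⟩⟩ : Nonempty {x // g x = x} :=
    (Nat.card_pos_iff.1 h1.pos).1
  have hR1' : σ 1 • R = R := congrArg Subtype.val hR1
  have hR2' : σ 2 • R = R := by
    have : σ 2 = σ 0 * σ 1 := MulEquiv.ext fun x => (h.prod 0 x).symm
    rw [this, mul_smul, hR1']; exact hR0
  refine ⟨R, fun i x hx => ?_⟩
  have hR : σ i • R = R := by fin_cases i; exacts [hR0, hR1', hR2']
  rw [← hR]
  exact ⟨x, hx, rfl⟩

/-- The join of the `M i` meets the common fixed points in `L`. -/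
theorem four_meet (n : ℕ) : ∀ (Q : Type u) [Group Q] [Finite Q], Nat.card Q = n →
    Odd (Nat.card Q) → Group.IsSolvable Q → ∀ (σ : Fin 3 → MulAut Q) (M : Fin 3 → Subgroup Q)
      (L : Subgroup Q), FourData σ M L → ∀ x ∈ (⨆ i, M i), x ∈ fix σ → x ∈ L := by
  induction n using Nat.strong_induction_on with
  | _ n ih =>
    intro Q _ _ hn hQ hsol σ M L h x hx hxf
    haveI := hsol
    obtain ⟨T, hT⟩ : ∃ T, T = ⨆ i, M i := ⟨_, rfl⟩
    have hTσ : ∀ j, ∀ y ∈ T, σ j y ∈ T := by
      intro j y hy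
      rw [hT] at hy ⊢
      induction hy using Subgroup.iSup_induction' with
      | hp i y hy => exact Subgroup.mem_iSup_of_mem i (h.apply_mem i j hy)
      | h1 => rw [map_one]; exact one_mem _
      | hmul a b _ _ ha hb => rw [map_mul]; exact mul_mem ha hb
    have hproper : ∀ (M : Fin 3 → Subgroup Q) (L : Subgroup Q), FourData σ M L →
        ∀ T : Subgroup Q, T ≠ ⊤ → ∀ hTσ : ∀ j, ∀ y ∈ T, σ j y ∈ T,
        ∀ y ∈ (⨆ i, M i ⊓ T), y ∈ fix σ → y ∈ L := by
      intro M L h T hTne hTσ y hy hyf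
      have hlt : Nat.card T < n := by
        rw [← hn]
        exact lt_of_le_of_ne (Nat.le_of_dvd Nat.card_pos (Subgroup.card_subgroup_dvd_card T))
          fun e => hTne (Subgroup.eq_top_of_card_eq T e)
      have hmap : (⨆ i, (M i).subgroupOf T).map T.subtype = ⨆ i, M i ⊓ T := by
        rw [Subgroup.map_iSup]
        exact iSup_congr fun i => Subgroup.subgroupOf_map_subtype _ _
      rw [← hmap] at hy
      obtain ⟨y, hy, rfl⟩ := hy
      exact ih _ hlt T rfl (hQ.of_dvd_nat (Subgroup.card_subgroup_dvd_card T)) inferInstance _ _ _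
        (h.restrict T hTσ) y hy fun i => Subtype.ext (hyf i)
    by_cases hTtop : T = ⊤
    swap
    · refine hproper M L h T hTtop hTσ x ?_ hxf
      rw [show (⨆ i, M i ⊓ T) = ⨆ i, M i from iSup_congr fun i =>
        inf_eq_left.2 (hT ▸ le_iSup M i)]
      exact hx
    subst hT
    -- reduction to a commutative quotient of the fixed points
    suffices hspecial : ∀ (M : Fin 3 → Subgroup Q) (L : Subgroup Q), FourData σ M L →
        (⨆ i, M i) = ⊤ → ⁅fix σ, fix σ⁆ ≤ L → fix σ ≤ L by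
      obtain ⟨D, hD⟩ : ∃ D, D = ⁅fix σ, fix σ⁆ := ⟨_, rfl⟩
      have hDC : D ≤ fix σ := hD ▸ (Subgroup.commutator_le.2 fun a ha b hb =>
        mul_mem (mul_mem (mul_mem ha hb) (inv_mem ha)) (inv_mem hb))
      have hDN : ∀ i, D ≤ Subgroup.normalizer (M i : Set Q) := fun i d hd =>
        Subgroup.mem_normalizer_iff.2 fun y => ⟨fun hy => h.conj_fix_mem (hDC hd) hy, fun hy => by
          have := h.conj_fix_mem (inv_mem (hDC hd)) hy
          simpa [mul_assoc] using this⟩
      have hdata : FourData σ (fun i => M i ⊔ D) (L ⊔ D) := by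
        refine ⟨h.four, fun i y hy => ?_, fun i y hy z hz => ?_, fun i y hy =>
          Subgroup.mem_sup_left (h.gen i y hy), fun i y hy hys => ?_,
          fun i => sup_le_sup_right (h.sub i) D, fun y hy => ?_⟩
        · have : M i ⊔ D ≤ (σ i).toMonoidHom.eqLocus (MonoidHom.id Q) :=
            sup_le (h.le i) fun d hd => hDC hd i
          exact this hy
        · have : M i ⊔ D ≤ (M i ⊔ D).comap (MulAut.conj y).toMonoidHom := by
            refine sup_le (fun z hz => Subgroup.mem_sup_left (h.nrm i y hy z hz)) fun d hd => ?_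
            obtain ⟨u, hu, hc⟩ := h.exists_decomp hQ hy
            show y * d * y⁻¹ ∈ M i ⊔ D
            have e : y * d * y⁻¹ = (y * u) * ((u⁻¹ * (d * u * d⁻¹)) * d) * (y * u)⁻¹ := by group
            rw [e]
            have h1 : u⁻¹ * (d * u * d⁻¹) ∈ M i :=
              mul_mem (inv_mem hu) (h.conj_fix_mem (hDC hd) hu)
            rw [show (y * u) * ((u⁻¹ * (d * u * d⁻¹)) * d) * (y * u)⁻¹ =
              ((y * u) * (u⁻¹ * (d * u * d⁻¹)) * (y * u)⁻¹) * ((y * u) * d * (y * u)⁻¹) by group]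
            refine Subgroup.mul_mem_sup (h.conj_fix_mem hc h1) ?_
            have hDc : ⁅fix σ, fix σ⁆ ≤
                ⁅fix σ, fix σ⁆.comap (MulAut.conj (y * u)).toMonoidHom :=
              Subgroup.commutator_le.2 fun a ha b hb => by
                simp only [Subgroup.mem_comap, map_commutatorElement]
                exact Subgroup.commutator_mem_commutator (mul_mem (mul_mem hc ha) (inv_mem hc))
                  (mul_mem (mul_mem hc hb) (inv_mem hc))
            rw [hD] at hd ⊢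
            exact hDc hd
          exact this hz
        · obtain ⟨m, hm, d, hd, rfl⟩ := Coprime.exists_mul_of_mem_sup (hDN i) hy
          refine Subgroup.mul_mem_sup (h.meet i m hm ?_) hd
          rw [map_mul, hDC hd (i + 1)] at hys
          exact mul_right_cancel hys
        · exact (sup_le h.le_fix hDC : L ⊔ D ≤ fix σ) hy
      have hle := hspecial _ _ hdata (eq_top_iff.2 (hTtop ▸ iSup_mono fun i => le_sup_left))
        (hD ▸ le_sup_right)
      -- `fix σ / L` is perfect and solvable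
      haveI : (L.subgroupOf (fix σ)).Normal := ⟨fun y hy c => h.fix_normalizes c.2 hy⟩
      have hperf : commutator (fix σ ⧸ L.subgroupOf (fix σ)) = ⊤ := by
        have h1 : (fix σ) ≤ L ⊔ (commutator (fix σ)).map (fix σ).subtype := by
          refine hle.trans (sup_le_sup_left ?_ _)
          rw [hD, commutator_def, Subgroup.map_commutator, ← MonoidHom.range_eq_map,
            Subgroup.range_subtype]
        refine eq_top_iff.2 fun q _ => ?_
        obtain ⟨c, rfl⟩ := QuotientGroup.mk_surjective q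
        have h2 : c ∈ L.subgroupOf (fix σ) ⊔ commutator (fix σ) := by
          have h3 : (c : Q) ∈ (L.subgroupOf (fix σ) ⊔ commutator (fix σ)).map (fix σ).subtype := by
            rw [Subgroup.map_sup, Subgroup.subgroupOf_map_subtype, inf_eq_left.2 h.le_fix]
            exact h1 c.2
          obtain ⟨c', hc', he⟩ := h3
          exact Subtype.ext he ▸ hc'
        have h4 := Subgroup.mem_map_of_mem (QuotientGroup.mk' (L.subgroupOf (fix σ))) h2
        rw [Subgroup.map_sup, QuotientGroup.map_mk'_self, bot_sup_eq, commutator_def,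
          Subgroup.map_commutator, Subgroup.map_top_of_surjective _
          (QuotientGroup.mk'_surjective _)] at h4
        exact h4
      rcases subsingleton_or_nontrivial (fix σ ⧸ L.subgroupOf (fix σ)) with hs | hnt
      · exact (Subgroup.mem_subgroupOf.1 ((QuotientGroup.eq_one_iff (N := L.subgroupOf (fix σ))
          (⟨x, hxf⟩ : fix σ)).1 (Subsingleton.elim _ _)) :)
      · exact absurd hperf (Group.IsSolvable.commutator_lt_top_of_nontrivial _).ne
    clear! x L M
    intro M L h htop hC'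
    have hiM : ∀ i, ∀ y ∈ M i, y ∈ (⊤ : Subgroup Q) := fun _ _ _ => Subgroup.mem_top _
    -- enough to treat one normal subgroup
    have hred : ∀ (V : Subgroup Q) [V.Normal], V ≠ ⊥ → ∀ hVσ : ∀ i, ∀ x ∈ V, σ i x ∈ V,
        (∀ v ∈ V, v ∈ fix σ → v ∈ L) → fix σ ≤ L := by
      intro V _ hV hVσ hVL c hc
      have hq := ih _ (hn ▸ card_quotient_lt hV) (Q ⧸ V) rfl
        (hQ.of_dvd_nat (Subgroup.card_quotient_dvd_card V)) inferInstance _ _ _
        (h.quot hQ V hVσ) (QuotientGroup.mk' V c) (by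
          rw [← Subgroup.map_iSup, htop]; exact Subgroup.mem_map_of_mem _ (Subgroup.mem_top c))
        (fun i => congrArg QuotientGroup.mk (hc i))
      obtain ⟨l, hl, hle⟩ := hq
      have hv : l⁻¹ * c ∈ V := QuotientGroup.eq.1 hle
      have := mul_mem hl (hVL _ hv (mul_mem (inv_mem (h.le_fix hl)) hc))
      rwa [mul_inv_cancel_left] at this
    by_cases hcomm : ∀ a b : Q, a * b = b * a
    · intro c hc
      have hVc : ∀ a ∈ (⊤ : Subgroup Q), ∀ b ∈ (⊤ : Subgroup Q), a * b = b * a :=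
        fun a _ b _ => hcomm a b
      have hVσ : ∀ i, ∀ a ∈ (⊤ : Subgroup Q), σ i a ∈ (⊤ : Subgroup Q) :=
        fun _ _ _ => Subgroup.mem_top _
      have : (⨆ i, M i) ≤ projPre σ L ⊤ hVc hVσ :=
        iSup_le fun i y hy => proj_mem_of_mem h (Subgroup.mem_top y) hy
      exact mem_of_mem_projPre hQ (this (htop ▸ Subgroup.mem_top c)) hc
    obtain ⟨m, hm1, hm2⟩ : ∃ m, derivedSeries Q (m + 1) ≠ ⊥ ∧ derivedSeries Q (m + 2) = ⊥ := by
      classical
      have hex : ∃ m, derivedSeries Q m = ⊥ := (Group.isSolvable_def Q).1 hsol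
      have h1 : derivedSeries Q 1 ≠ ⊥ := fun e => hcomm fun a b => by
        have := Subgroup.commutator_mem_commutator (Subgroup.mem_top a) (Subgroup.mem_top b)
        rw [show derivedSeries Q 1 = ⁅(⊤ : Subgroup Q), ⊤⁆ from rfl] at e
        rw [e, Subgroup.mem_bot] at this
        exact commutatorElement_eq_one_iff_mul_comm.1 this
      have hlt : 2 ≤ Nat.find hex := by
        by_contra hh
        have hsp := Nat.find_spec hex
        interval_cases hk : Nat.find hex
        · exact h1 (eq_bot_iff.2 (hsp ▸ derivedSeries_antitone Q (by omega)))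
        · exact h1 hsp
      refine ⟨Nat.find hex - 2, Nat.find_min hex (by omega), ?_⟩
      rw [show Nat.find hex - 2 + 2 = Nat.find hex by omega]
      exact Nat.find_spec hex
    obtain ⟨V, hVW, hV0, hVn, hVσ, hmin⟩ := exists_minimal_invariant σ hm1
      (derivedSeries_normal Q _) (fun i x hx => apply_mem_of_characteristic (σ i) hx)
    haveI := hVn
    have hVc : ∀ a ∈ V, ∀ b ∈ V, a * b = b * a := by
      intro a ha b hb
      have : ⁅a, b⁆ ∈ derivedSeries Q (m + 2) := by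
        rw [derivedSeries_succ]; exact Subgroup.commutator_mem_commutator (hVW ha) (hVW hb)
      rw [hm2, Subgroup.mem_bot] at this
      exact commutatorElement_eq_one_iff_mul_comm.1 this
    refine hred V hV0 hVσ fun v hv hvf => ?_
    obtain ⟨W, hW⟩ : ∃ W, W = ⁅(⊤ : Subgroup Q), V⁆ := ⟨_, rfl⟩
    have hWV : W ≤ V := hW ▸ Subgroup.commutator_le_right _ _
    by_cases hW0 : W = ⊥
    swap
    · have hWeq : W = V := by
        refine hmin W hWV hW0 (hW ▸ inferInstance) fun i y hy => ?_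
        rw [hW] at hy ⊢
        have hle : ⁅(⊤ : Subgroup Q), V⁆ ≤
            ⁅(⊤ : Subgroup Q), V⁆.comap (σ i).toMonoidHom := Subgroup.commutator_le.2
          fun a _ b hb => by
            simp only [Subgroup.mem_comap, map_commutatorElement]
            exact Subgroup.commutator_mem_commutator (Subgroup.mem_top _) (hVσ i b hb)
        exact hle hy
      have hVK := commutator_le_projPre hQ hsol h htop hVσ hVc hVσ hVc
        (fun u hu y => (hW ▸ hWV) (Subgroup.commutator_mem_commutator (Subgroup.mem_top y) hu))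
      exact mem_of_mem_projPre hQ (hVK (hW ▸ hWeq.symm ▸ hv)) hvf
    -- `V` is central
    by_contra hvL
    have hcen : ∀ a ∈ V, a ∈ Subgroup.center Q := fun a ha => Subgroup.mem_center_iff.2 fun y => by
      have := Subgroup.commutator_mem_commutator (Subgroup.mem_top y) ha
      rw [← hW, hW0, Subgroup.mem_bot] at this
      exact commutatorElement_eq_one_iff_mul_comm.1 this
    have hv1 : v ≠ 1 := fun e => hvL (e ▸ one_mem L)
    have hnormal : ∀ U : Subgroup Q, U ≤ V → U.Normal := fun U hU => ⟨fun a ha y => by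
      rw [Subgroup.mem_center_iff.1 (hcen a (hU ha)) y, mul_inv_cancel_right]; exact ha⟩
    obtain ⟨r, hr, hrdvd⟩ := Nat.exists_prime_and_dvd
      (fun e => hv1 (orderOf_eq_one_iff.1 e) : orderOf v ≠ 1)
    haveI : Fact r.Prime := ⟨hr⟩
    let U : Subgroup Q :=
      { carrier := {a | a ∈ V ∧ a ^ r = 1}
        one_mem' := ⟨one_mem _, one_pow r⟩
        mul_mem' := fun {a b} ha hb => ⟨mul_mem ha.1 hb.1, by
          rw [(show Commute a b from hVc a ha.1 b hb.1).mul_pow, ha.2, hb.2, one_mul]⟩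
        inv_mem' := fun {a} ha => ⟨inv_mem ha.1, by rw [inv_pow, ha.2, inv_one]⟩ }
    have hUV : U = V := by
      refine hmin U (fun a ha => ha.1) (fun e => ?_) (hnormal U fun a ha => ha.1)
        fun i a ha => ⟨hVσ i a ha.1, by rw [← map_pow, ha.2, map_one]⟩
      obtain ⟨k, hk⟩ := hrdvd
      have hmem : v ^ k ∈ U := ⟨pow_mem hv k, by
        rw [← pow_mul, mul_comm, ← hk, pow_orderOf_eq_one]⟩
      rw [e, Subgroup.mem_bot] at hmem
      have hle := Nat.le_of_dvd (Nat.pos_of_ne_zero fun e => by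
        rw [e, mul_zero] at hk; exact (orderOf_pos v).ne' hk) (orderOf_dvd_of_pow_eq_one hmem)
      rw [hk] at hle
      have := hr.two_le
      have hk0 : 0 < k := Nat.pos_of_ne_zero fun e => by
        rw [e, mul_zero] at hk; exact (orderOf_pos v).ne' hk
      nlinarith
    have hVfix : ∀ a ∈ V, a ∈ fix σ := by
      have : V ⊓ fix σ = V := by
        refine hmin _ inf_le_left (fun e => hv1 ?_) (hnormal _ inf_le_left)
          fun i a ha => by have h2 := ha.2 i; rw [h2]; exact ha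
        exact Subgroup.mem_bot.1 (e ▸ (⟨hv, hvf⟩ : v ∈ V ⊓ fix σ))
      exact fun a ha => (this.ge ha).2
    have hVp : IsPGroup r V := fun a => ⟨1, Subtype.ext (by
      rw [pow_one]; push_cast; exact (hUV.ge a.2).2)⟩
    obtain ⟨R, hR⟩ := exists_invariant_sylow hQ r h.four
    have hVR : V ≤ (R : Subgroup Q) := by
      obtain ⟨R', hR'⟩ := hVp.exists_le_sylow
      obtain ⟨g, rfl⟩ := MulAction.exists_smul_eq Q R' R
      intro a ha
      rw [Sylow.coe_subgroup_smul, Subgroup.mem_pointwise_smul_iff_inv_smul_mem]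
      refine hR' ?_
      simpa using hVn.conj_mem a ha g⁻¹
    by_cases hRtop : (R : Subgroup Q) = ⊤
    · -- nilpotent
      haveI : Group.IsNilpotent Q := by
        have hp : IsPGroup r Q := by
          have := R.isPGroup'
          rw [hRtop] at this
          exact this.of_equiv Subgroup.topEquiv
        exact hp.isNilpotent
      classical
      have hex : ∃ c, Subgroup.lowerCentralSeries (⊤ : Subgroup Q) c = ⊥ :=
        (Subgroup.isNilpotent_iff_lowerCentralSeries ⊤).1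
          (Group.isNilpotent_congr (Subgroup.topEquiv (G := Q)) |>.2 inferInstance)
      have h2 : 2 ≤ Nat.find hex := by
        by_contra hh
        refine hcomm fun a b => ?_
        have hsp : Subgroup.lowerCentralSeries (⊤ : Subgroup Q) 1 = ⊥ := by
          have hsp := Nat.find_spec hex
          interval_cases hk : Nat.find hex
          · exact eq_bot_iff.2 (hsp ▸ Subgroup.lowerCentralSeries_antitone _ (by omega))
          · exact hsp
        have := Subgroup.commutator_mem_commutator (Subgroup.mem_top a) (Subgroup.mem_top b)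
        rw [show Subgroup.lowerCentralSeries (⊤ : Subgroup Q) 1 = ⁅(⊤ : Subgroup Q), ⊤⁆ from rfl]
          at hsp
        rw [hsp, Subgroup.mem_bot] at this
        exact commutatorElement_eq_one_iff_mul_comm.1 this
      obtain ⟨c, hc⟩ : ∃ c, Nat.find hex = c + 2 := ⟨Nat.find hex - 2, by omega⟩
      obtain ⟨G₁, hG₁⟩ : ∃ S, S = Subgroup.lowerCentralSeries (⊤ : Subgroup Q) c := ⟨_, rfl⟩
      obtain ⟨G₂, hG₂⟩ : ∃ S, S = Subgroup.lowerCentralSeries (⊤ : Subgroup Q) (c + 1) :=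
        ⟨_, rfl⟩
      have hG₂0 : G₂ ≠ ⊥ := hG₂ ▸ Nat.find_min hex (by omega)
      have hG₃ : ⁅G₂, (⊤ : Subgroup Q)⁆ = ⊥ := by
        rw [hG₂]; exact (hc ▸ Nat.find_spec hex :)
      have h21 : ⁅(⊤ : Subgroup Q), G₁⁆ = G₂ := by
        rw [Subgroup.commutator_comm, hG₁, hG₂]; rfl
      haveI h₁c : G₁.Characteristic := hG₁ ▸ inferInstance
      haveI h₂c : G₂.Characteristic := hG₂ ▸ inferInstance
      have hσ₁ : ∀ i, ∀ a ∈ G₁, σ i a ∈ G₁ := fun i a => apply_mem_of_characteristic (σ i)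
      have hσ₂ : ∀ i, ∀ a ∈ G₂, σ i a ∈ G₂ := fun i a => apply_mem_of_characteristic (σ i)
      have hcen₂ : ∀ a ∈ G₂, ∀ b : Q, a * b = b * a := fun a ha b => by
        have := Subgroup.commutator_mem_commutator ha (Subgroup.mem_top b)
        rw [hG₃, Subgroup.mem_bot] at this
        exact commutatorElement_eq_one_iff_mul_comm.1 this
      have hc₂ : ∀ a ∈ G₂, ∀ b ∈ G₂, a * b = b * a := fun a ha b _ => hcen₂ a ha b
      have hK := commutator_le_projPre hQ hsol h htop hσ₁ hc₂ hσ₂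
        (fun u _ a ha => (hcen₂ a ha u).symm)
        (fun u hu y => h21 ▸ Subgroup.commutator_mem_commutator (Subgroup.mem_top y) hu)
      rw [h21] at hK
      exact hvL (hred G₂ hG₂0 hσ₂ (fun a ha haf => mem_of_mem_projPre hQ (hK ha) haf) hvf)
    obtain ⟨R₀, hR₀⟩ : ∃ R₀, R₀ = ⨆ i, M i ⊓ (R : Subgroup Q) := ⟨_, rfl⟩
    have hR₀R : R₀ ≤ R := hR₀ ▸ iSup_le fun i => inf_le_right
    have hnorm : (R : Subgroup Q) ⊓ fix σ ≤ Subgroup.normalizer (R₀ : Set Q) := by
      intro d hd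
      have key : ∀ d ∈ (R : Subgroup Q) ⊓ fix σ, R₀ ≤ R₀.comap (MulAut.conj d).toMonoidHom := by
        intro d hd
        rw [hR₀]
        refine iSup_le fun i y hy => Subgroup.mem_iSup_of_mem i
          ⟨h.conj_fix_mem hd.2 hy.1, mul_mem (mul_mem hd.1 hy.2) ((R : Subgroup Q).inv_mem hd.1)⟩
      refine Subgroup.mem_normalizer_iff.2 fun y => ⟨fun hy => key d hd hy, fun hy => ?_⟩
      have h1 : d⁻¹ * (d * y * d⁻¹) * d⁻¹⁻¹ ∈ R₀ := key d⁻¹ (inv_mem hd) hy
      simpa [mul_assoc] using h1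
    have hgen : (R : Subgroup Q) ≤ R₀ ⊔ ((R : Subgroup Q) ⊓ fix σ) := by
      have := eq_top_of_fixed_mem _ (R : Subgroup Q) rfl
        (hQ.of_dvd_nat (Subgroup.card_subgroup_dvd_card _)) inferInstance _
        (isFour_restrict h.four _ hR) ((R₀ ⊔ ((R : Subgroup Q) ⊓ fix σ)).subgroupOf R)
        fun i y hy => by
          have hy' : σ i (y : Q) = y := congrArg Subtype.val hy
          obtain ⟨k, hk⟩ := exists_fixed_rep hQ (h.four.invol (i + 1)) (y : Q)
          have hu : ((y : Q)⁻¹ * σ (i + 1) y) ^ k ∈ M i ⊓ (R : Subgroup Q) :=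
            ⟨pow_mem (h.gen i _ hy') k, pow_mem (mul_mem ((R : Subgroup Q).inv_mem y.2) (hR _ _ y.2)) k⟩
          have hc : (y : Q) * ((y : Q)⁻¹ * σ (i + 1) y) ^ k ∈ (R : Subgroup Q) ⊓ fix σ :=
            ⟨mul_mem y.2 hu.2, h.four.fixed_succ (by rw [map_mul, hy', h.le i _ hu.1]) hk⟩
          have h1 : (y : Q) = ((y : Q) * ((y : Q)⁻¹ * σ (i + 1) y) ^ k) *
              (((y : Q)⁻¹ * σ (i + 1) y) ^ k)⁻¹ := by group
          show (y : Q) ∈ R₀ ⊔ _
          rw [h1]
          exact mul_mem (Subgroup.mem_sup_right hc)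
            (Subgroup.mem_sup_left (inv_mem (hR₀ ▸ Subgroup.mem_iSup_of_mem i hu)))
      intro y hy
      exact (this ▸ Subgroup.mem_top (⟨y, hy⟩ : (R : Subgroup Q)) :
        (⟨y, hy⟩ : (R : Subgroup Q)) ∈ (R₀ ⊔ ((R : Subgroup Q) ⊓ fix σ)).subgroupOf R)
    have hRN : (R : Subgroup Q) ≤ Subgroup.normalizer (R₀ : Set Q) :=
      hgen.trans (sup_le Subgroup.le_normalizer hnorm)
    haveI : (R₀.subgroupOf (R : Subgroup Q)).Normal :=
      Subgroup.normal_subgroupOf_of_le_normalizer hRN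
    have hder : ⁅(R : Subgroup Q), (R : Subgroup Q)⁆ ≤ R₀ := by
      refine Subgroup.commutator_le.2 fun a ha b hb => ?_
      have hsplit : ∀ a (ha : a ∈ (R : Subgroup Q)), ∃ d ∈ fix σ, ∃ hd : d ∈ (R : Subgroup Q),
          QuotientGroup.mk' (R₀.subgroupOf (R : Subgroup Q)) ⟨a, ha⟩ =
            QuotientGroup.mk' (R₀.subgroupOf (R : Subgroup Q)) ⟨d, hd⟩ := by
        intro a ha
        obtain ⟨a₀, ha₀, d, hd, rfl⟩ := Coprime.exists_mul_of_mem_sup hnorm (hgen ha)
        refine ⟨d, hd.2, hd.1, ?_⟩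
        have e : (⟨a₀ * d, ha⟩ : (R : Subgroup Q)) =
            ⟨a₀, hR₀R ha₀⟩ * (⟨d, hd.1⟩ : (R : Subgroup Q)) := rfl
        rw [e, map_mul]
        have : QuotientGroup.mk' (R₀.subgroupOf (R : Subgroup Q)) ⟨a₀, hR₀R ha₀⟩ = 1 :=
          (QuotientGroup.eq_one_iff _).2 ha₀
        rw [this, one_mul]
      obtain ⟨d, hdf, hdR, ea⟩ := hsplit a ha
      obtain ⟨d', hdf', hdR', eb⟩ := hsplit b hb
      have hone : QuotientGroup.mk' (R₀.subgroupOf (R : Subgroup Q))
          ⁅(⟨a, ha⟩ : (R : Subgroup Q)), ⟨b, hb⟩⁆ = 1 := by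
        rw [map_commutatorElement, ea, eb, ← map_commutatorElement, QuotientGroup.mk'_apply,
          QuotientGroup.eq_one_iff]
        show ⁅d, d'⁆ ∈ R₀
        rw [hR₀]
        exact Subgroup.mem_iSup_of_mem 0
          ⟨h.sub 0 (hC' (Subgroup.commutator_mem_commutator hdf hdf')),
            mul_mem (mul_mem (mul_mem hdR hdR') ((R : Subgroup Q).inv_mem hdR))
              ((R : Subgroup Q).inv_mem hdR')⟩
      exact Subgroup.mem_subgroupOf.1
        ((QuotientGroup.eq_one_iff (N := R₀.subgroupOf (R : Subgroup Q)) _).1 hone)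
    have hvd : v ∈ commutator Q := by
      have h1 : derivedSeries Q (m + 1) ≤ derivedSeries Q 1 :=
        derivedSeries_antitone Q (by omega)
      exact h1 (hVW hv)
    refine hvL (hproper M L h _ hRtop hR v ?_ hvf)
    exact hR₀ ▸ hder (mem_commutator_of_central R (hVR hv) (hcen v hv) hvd)

end CfsgLib.ProductFusion
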