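import Cfsg.Agent.ProductFusion.Context

/-!
# Product fusion: four-groups inside one class

The key property of a four-group `e` inside `X` acting on a subgroup `Q` of odd order, and the
subgroups `O(C a) ⊓ O(C b)` for commuting involutions `a ∈ X`, `b ∈ Y`.
-/

set_option autoImplicit false
set_option linter.style.haveILetI false
set_option linter.unusedSectionVars false

open scoped commutatorElement

namespace CfsgLib.ProductFusion

universe u

variable {G : Type u} [Group G]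

theorem mem_cent_symm {x y : G} (h : x ∈ cent y) : y ∈ cent x :=
  mem_cent.2 (mem_cent.1 h).symm

theorem mem_normalizer_inf {H K : Subgroup G} {g : G} (hH : g ∈ Subgroup.normalizer (H : Set G))
    (hK : g ∈ Subgroup.normalizer (K : Set G)) :
    g ∈ Subgroup.normalizer ((H ⊓ K : Subgroup G) : Set G) :=
  Subgroup.inf_normalizer_le_normalizer_inf ⟨hH, hK⟩

theorem cent_normalized {f g : G} (hg : g ∈ cent f) :
    g ∈ Subgroup.normalizer ((cent f : Subgroup G) : Set G) :=
  Subgroup.le_normalizer hg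

theorem conj_mem_of_normalizer {H : Subgroup G} {g x : G}
    (hg : g ∈ Subgroup.normalizer (H : Set G)) (hx : x ∈ H) : g * x * g⁻¹ ∈ H :=
  (Subgroup.mem_normalizer_iff.1 hg x).1 hx

theorem inv_eq_self_of_sq {x : G} (hx : x * x = 1) : x⁻¹ = x :=
  inv_eq_of_mul_eq_one_right hx

/-! ### The subgroup generated by the commutators with an element -/

/-- The subgroup generated by the `q⁻¹ a q a⁻¹`. -/
def br (Q : Subgroup G) (a : G) : Subgroup G :=
  Subgroup.closure {z | ∃ q ∈ Q, z = q⁻¹ * (a * q * a⁻¹)}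

theorem mem_br {Q : Subgroup G} {a q : G} (hq : q ∈ Q) : q⁻¹ * (a * q * a⁻¹) ∈ br Q a :=
  Subgroup.subset_closure ⟨q, hq, rfl⟩

theorem br_le {Q : Subgroup G} {a : G} (ha : a ∈ Subgroup.normalizer (Q : Set G)) : br Q a ≤ Q := by
  rw [br, Subgroup.closure_le]
  rintro _ ⟨q, hq, rfl⟩
  exact mul_mem (inv_mem hq) (conj_mem_of_normalizer ha hq)

theorem br_mono {Q Q' : Subgroup G} (h : Q ≤ Q') (a : G) : br Q a ≤ br Q' a :=
  Subgroup.closure_mono fun _ ⟨q, hq, e⟩ => ⟨q, h hq, e⟩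

theorem conj_br {Q : Subgroup G} {a g : G} (hgQ : g ∈ Subgroup.normalizer (Q : Set G))
    (hga : g ∈ cent a) : g ∈ Subgroup.normalizer (br Q a : Set G) := by
  have key : ∀ g : G, g ∈ Subgroup.normalizer (Q : Set G) → g ∈ cent a →
      br Q a ≤ (br Q a).comap (MulAut.conj g).toMonoidHom := by
    intro g hgQ hga
    conv_lhs => rw [br]
    rw [Subgroup.closure_le]
    rintro _ ⟨q, hq, rfl⟩
    show g * (q⁻¹ * (a * q * a⁻¹)) * g⁻¹ ∈ br Q a
    have h1 : g * a = a * g := mem_cent.1 hga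
    have e : g * (q⁻¹ * (a * q * a⁻¹)) * g⁻¹
        = (g * q * g⁻¹)⁻¹ * (a * (g * q * g⁻¹) * a⁻¹) := by
      calc g * (q⁻¹ * (a * q * a⁻¹)) * g⁻¹
          = (g * q * g⁻¹)⁻¹ * ((g * a) * q * (g * a)⁻¹) := by group
        _ = (g * q * g⁻¹)⁻¹ * ((a * g) * q * (a * g)⁻¹) := by rw [h1]
        _ = _ := by group
    rw [e]
    exact mem_br (conj_mem_of_normalizer hgQ hq)
  refine Subgroup.mem_normalizer_iff.2 fun x => ⟨fun hx => key g hgQ hga hx, fun hx => ?_⟩
  have h1 : g⁻¹ * (g * x * g⁻¹) * g⁻¹⁻¹ ∈ br Q a :=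
    key g⁻¹ (inv_mem hgQ) (inv_mem hga) hx
  simpa [mul_assoc] using h1

section Finite

variable [Finite G]

/-- Splitting an element of an odd subgroup along an involution. -/
theorem exists_split {Q : Subgroup G} (hQ : Odd (Nat.card Q)) {a x : G} (ha : a * a = 1)
    (haQ : a ∈ Subgroup.normalizer (Q : Set G)) (hx : x ∈ Q) :
    ∃ w ∈ br Q a, x * w ∈ cent a ∧ x * w ∈ Q ∧ a * w * a⁻¹ = w⁻¹ ∧
      ∀ c : G, x ∈ cent c → a ∈ cent c → w ∈ cent c := by
  have hai := inv_eq_self_of_sq ha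
  have hv : x⁻¹ * (a * x * a⁻¹) ∈ Q := mul_mem (inv_mem hx) (conj_mem_of_normalizer haQ hx)
  obtain ⟨k, hk⟩ := exists_sqrt_of_odd hQ ⟨_, hv⟩
  replace hk := congrArg Subtype.val hk
  simp only [Subgroup.coe_mul, SubmonoidClass.coe_pow] at hk
  obtain ⟨v, hvdef⟩ : ∃ v, v = x⁻¹ * (a * x * a⁻¹) := ⟨_, rfl⟩
  rw [← hvdef] at hk hv
  have hinv : a * v * a⁻¹ = v⁻¹ := by
    rw [hvdef, hai]; simp only [mul_inv_rev, inv_inv, hai, mul_assoc, ha, mul_one]
  refine ⟨v ^ k, pow_mem (hvdef ▸ mem_br hx) k, ?_, mul_mem hx (pow_mem hv k), ?_,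
    fun c hxc hac => pow_mem (hvdef ▸ mul_mem (inv_mem hxc)
      (mul_mem (mul_mem hac hxc) (inv_mem hac))) k⟩
  · refine mem_cent.2 (mul_inv_eq_iff_eq_mul.1 ?_).symm
    calc a * (x * v ^ k) * a⁻¹ = a * x * a⁻¹ * (a * v * a⁻¹) ^ k := by rw [conj_pow]; group
      _ = x * v * (v ^ k)⁻¹ := by rw [hinv, inv_pow, hvdef]; group
      _ = x * (v ^ k * v ^ k) * (v ^ k)⁻¹ := by rw [hk]
      _ = x * v ^ k := by group
  · rw [← conj_pow, hinv, inv_pow]

/-- An element of odd order inverted by an involution is a commutator with it. -/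
theorem exists_inverted {x a : G} (hx : Odd (orderOf x)) (ha : a * a = 1)
    (hinv : a * x * a⁻¹ = x⁻¹) :
    ∃ s ∈ Subgroup.zpowers x, s⁻¹ * (a * s * a⁻¹) = x ∧ x = s⁻¹ * a * s⁻¹⁻¹ * a := by
  have hodd : Odd (Nat.card (Subgroup.zpowers x)) := by rwa [Nat.card_zpowers]
  obtain ⟨k, hk⟩ := exists_sqrt_of_odd hodd ⟨x⁻¹, inv_mem (Subgroup.mem_zpowers x)⟩
  replace hk := congrArg Subtype.val hk
  simp only [Subgroup.coe_mul, SubmonoidClass.coe_pow] at hk
  have h1 : (x⁻¹ ^ k)⁻¹ * (a * x⁻¹ ^ k * a⁻¹) = x := by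
    rw [← conj_pow]
    have h2 : a * x⁻¹ * a⁻¹ = x := by
      have := congrArg (·⁻¹) hinv
      simpa [mul_assoc] using this
    rw [h2, inv_pow, inv_inv]
    have h3 := congrArg (·⁻¹) hk
    simpa [inv_pow] using h3
  refine ⟨x⁻¹ ^ k, pow_mem (inv_mem (Subgroup.mem_zpowers x)) k, h1, ?_⟩
  rw [inv_inv]
  conv_lhs => rw [← h1, inv_eq_self_of_sq ha]
  simp only [mul_assoc]

end Finite

/-! ### Triples -/

/-- The three involutions of a four-group inside a class. -/
structure Triple (X : Set G) (e : Fin 3 → G) : Prop where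
  mem : ∀ i, e i ∈ X
  sq : ∀ i, e i * e i = 1
  ne : ∀ i, e i ≠ 1
  prod : ∀ i, e i * e (i + 1) = e (i + 2)

namespace Triple

variable {X : Set G} {e : Fin 3 → G}

theorem inv (he : Triple X e) (i : Fin 3) : (e i)⁻¹ = e i := inv_eq_self_of_sq (he.sq i)

theorem comm_succ (he : Triple X e) (i : Fin 3) : e i * e (i + 1) = e (i + 1) * e i := by
  have := congrArg (·⁻¹) (he.prod i)
  simp only [mul_inv_rev, he.inv] at this
  rw [this, he.prod]

theorem comm (he : Triple X e) (i j : Fin 3) : e i * e j = e j * e i := by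
  fin_cases i <;> fin_cases j <;>
    first | rfl | exact he.comm_succ 0 | exact he.comm_succ 1 | exact he.comm_succ 2 | exact (he.comm_succ 0).symm | exact (he.comm_succ 1).symm | exact (he.comm_succ 2).symm

theorem mem_cent_of (he : Triple X e) (i j : Fin 3) : e i ∈ cent (e j) := mem_cent.2 (he.comm i j)

theorem cent_all (he : Triple X e) {x : G} {i : Fin 3} (h0 : x ∈ cent (e i))
    (h1 : x ∈ cent (e (i + 1))) : ∀ j, x ∈ cent (e j) := by
  intro j
  have h2 : x ∈ cent (e (i + 2)) := by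
    rw [← he.prod]
    exact mem_cent_symm (mul_mem (mem_cent_symm h0) (mem_cent_symm h1))
  fin_cases i <;> fin_cases j <;> first | exact h0 | exact h1 | exact h2

theorem conj (he : Triple X e) (hX : ∀ x ∈ X, ∀ g : G, g * x * g⁻¹ ∈ X) (g : G) :
    Triple X fun i => g * e i * g⁻¹ where
  mem i := hX _ (he.mem i) g
  sq i := by rw [conj_mul, he.sq, mul_one, mul_inv_cancel]
  ne i h := he.ne i (conj_eq_one_iff.1 h)
  prod i := by rw [conj_mul, he.prod]

theorem of_pair {a a' : G} (ha : a ∈ X) (ha' : a' ∈ X) (haa' : a * a' ∈ X) (h2 : a * a = 1)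
    (h2' : a' * a' = 1) (h1 : a ≠ 1) (h1' : a' ≠ 1) (hne : a ≠ a') (hc : a * a' = a' * a) :
    Triple X ![a, a', a * a'] where
  mem i := by fin_cases i <;> assumption
  sq i := by
    fin_cases i
    · exact h2
    · exact h2'
    · show a * a' * (a * a') = 1
      calc a * a' * (a * a') = a * a' * (a' * a) := by rw [hc]
        _ = 1 := by rw [mul_assoc, ← mul_assoc a', h2', one_mul, h2]
  ne i := by
    fin_cases i
    · exact h1
    · exact h1'
    · exact fun h => hne (by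
        have h' : a * a' = 1 := h
        rw [eq_inv_of_mul_eq_one_left h', inv_eq_self_of_sq h2'])
  prod i := by
    fin_cases i
    · rfl
    · show a' * (a * a') = a
      rw [hc, ← mul_assoc, h2', one_mul]
    · show a * a' * a = a'
      rw [hc, mul_assoc, h2, mul_one]

theorem isFour (he : Triple X e) : IsFour fun i => MulAut.conj (e i) where
  invol i x := by
    simp only [MulAut.conj_apply, he.inv]
    rw [mul_assoc, mul_assoc, he.sq, mul_one, ← mul_assoc, he.sq, one_mul]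
  comm i j x := by
    simp only [MulAut.conj_apply]
    calc e i * (e j * x * (e j)⁻¹) * (e i)⁻¹ = (e i * e j) * x * (e i * e j)⁻¹ := by group
      _ = _ := by rw [he.comm i j]; group
  prod i x := by
    simp only [MulAut.conj_apply, ← he.prod i]
    group

end Triple

/-! ### The maps induced on an invariant subgroup -/

/-- The action of a triple on an invariant subgroup. -/
def tripleAct {X : Set G} {e : Fin 3 → G} (he : Triple X e) (Q : Subgroup G)
    (hn : ∀ i, e i ∈ Subgroup.normalizer (Q : Set G)) : Fin 3 → MulAut Q := fun i =>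
  restrictAut (MulAut.conj (e i)) (he.isFour.invol i) Q fun _ hx => conj_mem_of_normalizer (hn i) hx

theorem tripleAct_fixed {X : Set G} {e : Fin 3 → G} (he : Triple X e) {Q : Subgroup G}
    (hn : ∀ i, e i ∈ Subgroup.normalizer (Q : Set G)) {i : Fin 3} {x : Q} :
    tripleAct he Q hn i x = x ↔ (x : G) ∈ cent (e i) := by
  constructor
  · intro h
    have h1 : e i * (x : G) * (e i)⁻¹ = x := congrArg Subtype.val h
    exact mem_cent.2 (mul_inv_eq_iff_eq_mul.1 h1).symm
  · intro h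
    refine Subtype.ext ?_
    show e i * (x : G) * (e i)⁻¹ = x
    rw [← mem_cent.1 h, mul_inv_cancel_right]

/-- An odd invariant subgroup is generated by the fixed points. -/
theorem le_of_fixed_le [Finite G] {X : Set G} {e : Fin 3 → G} (he : Triple X e) {Q K : Subgroup G}
    (hQ : Odd (Nat.card Q)) (hn : ∀ i, e i ∈ Subgroup.normalizer (Q : Set G))
    (h : ∀ i, ∀ x ∈ Q, x ∈ cent (e i) → x ∈ K) : Q ≤ K := by
  have := eq_top_of_fixed_mem _ Q rfl hQ (isSolvable_of_odd hQ) (tripleAct he Q hn)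
    (isFour_restrict he.isFour Q fun i _ hx => conj_mem_of_normalizer (hn i) hx)
    (K.subgroupOf Q) fun i x hx => h i x x.2 ((tripleAct_fixed he hn).1 hx)
  exact Subgroup.subgroupOf_eq_top.1 this

namespace FourData

variable {Q : Type u} [Group Q] {σ : Fin 3 → MulAut Q} {M : Fin 3 → Subgroup Q} {L : Subgroup Q}

theorem apply_mem_iSup (h : FourData σ M L) (j : Fin 3) {y : Q} (hy : y ∈ ⨆ i, M i) :
    σ j y ∈ ⨆ i, M i := by
  induction hy using Subgroup.iSup_induction' with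
  | hp i y hy => exact Subgroup.mem_iSup_of_mem i (h.apply_mem i j hy)
  | h1 => rw [map_one]; exact one_mem _
  | hmul a b _ _ ha hb => rw [map_mul]; exact mul_mem ha hb

theorem iSup_normal [Finite Q] (hQ : Odd (Nat.card Q)) (hsol : Group.IsSolvable Q)
    (h : FourData σ M L) : (⨆ i, M i).Normal := by
  refine Subgroup.normalizer_eq_top_iff.1
    (eq_top_of_fixed_mem _ Q rfl hQ hsol σ h.four _ fun i y hy => ?_)
  obtain ⟨u, hu, hc⟩ := h.exists_decomp hQ hy
  have key : ∀ c ∈ fix σ, (⨆ i, M i) ≤ (⨆ i, M i).comap (MulAut.conj c).toMonoidHom :=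
    fun c hc => iSup_le fun i z hz => Subgroup.mem_iSup_of_mem i (h.conj_fix_mem hc hz)
  have hcN : y * u ∈ Subgroup.normalizer ((⨆ i, M i : Subgroup Q) : Set Q) := by
    refine Subgroup.mem_normalizer_iff.2 fun z => ⟨fun hz => key _ hc hz, fun hz => ?_⟩
    have h1 : (y * u)⁻¹ * (y * u * z * (y * u)⁻¹) * (y * u)⁻¹⁻¹ ∈ ⨆ i, M i :=
      key _ (inv_mem hc) hz
    have e : (y * u)⁻¹ * (y * u * z * (y * u)⁻¹) * (y * u)⁻¹⁻¹ = z := by group
    rwa [e] at h1
  have := mul_mem hcN (inv_mem (Subgroup.le_normalizer (Subgroup.mem_iSup_of_mem i hu)))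
  rwa [mul_inv_cancel_right] at this

/-- The commutators with the involutions lie in the join. -/
theorem commutator_mem_iSup [Finite Q] (hQ : Odd (Nat.card Q)) (hsol : Group.IsSolvable Q)
    (h : FourData σ M L) (j : Fin 3) (q : Q) : q⁻¹ * σ j q ∈ ⨆ i, M i := by
  haveI := h.iSup_normal hQ hsol
  let S : Subgroup Q :=
    { carrier := {q | q⁻¹ * σ j q ∈ ⨆ i, M i}
      one_mem' := by simp
      mul_mem' := fun {p q} hp hq => by
        simp only [Set.mem_ofPred_eq] at hp hq ⊢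
        rw [map_mul, show (p * q)⁻¹ * (σ j p * σ j q) = q⁻¹ * (p⁻¹ * σ j p) * q⁻¹⁻¹ * (q⁻¹ * σ j q)
          by group]
        exact mul_mem ((inferInstance : (⨆ i, M i).Normal).conj_mem _ hp _) hq
      inv_mem' := fun {p} hp => by
        simp only [Set.mem_ofPred_eq] at hp ⊢
        rw [map_inv, show p⁻¹⁻¹ * (σ j p)⁻¹ = p * (p⁻¹ * σ j p)⁻¹ * p⁻¹ by group]
        exact (inferInstance : (⨆ i, M i).Normal).conj_mem _ (inv_mem hp) _ }
  have hS : S = ⊤ := by
    refine eq_top_of_fixed_mem _ Q rfl hQ hsol σ h.four S fun i y hy => ?_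
    obtain ⟨u, hu, hc⟩ := h.exists_decomp hQ hy
    show y⁻¹ * σ j y ∈ ⨆ i, M i
    have e : y⁻¹ * σ j y = u * (σ j u)⁻¹ := by
      have h1 := hc j
      rw [map_mul] at h1
      rw [eq_mul_inv_iff_mul_eq, mul_assoc, h1, inv_mul_cancel_left]
    rw [e]
    exact mul_mem (Subgroup.mem_iSup_of_mem i hu)
      (inv_mem (Subgroup.mem_iSup_of_mem i (h.apply_mem i j hu)))
  exact (hS ▸ Subgroup.mem_top q : q ∈ S)

theorem iSup_meet [Finite Q] (hQ : Odd (Nat.card Q)) (hsol : Group.IsSolvable Q)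
    (h : FourData σ M L) {i : Fin 3} {x : Q} (hx : x ∈ ⨆ i, M i) (hxi : σ i x = x) : x ∈ M i := by
  obtain ⟨u, hu, hc⟩ := h.exists_decomp hQ hxi
  have hL : x * u ∈ L :=
    four_meet _ Q rfl hQ hsol σ M L h _ (mul_mem hx (Subgroup.mem_iSup_of_mem i hu)) hc
  have := mul_mem (h.sub i hL) (inv_mem hu)
  rwa [mul_inv_cancel_right] at this

end FourData

variable [Finite G] {X Y : Set G}

namespace Ctx

/-- Agreement of the two notions on commuting involutions of one class. -/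
theorem agree (h : Ctx X Y) {a a' x : G} (ha : a ∈ X) (ha2 : a * a = 1)
    (ha' : cent a' ≠ ⊤) (hc : a * a' = a' * a) (hx : x ∈ cen Y a) (hxa' : x ∈ cent a') :
    x ∈ cen Y a' := by
  refine mem_cen.2 ⟨hxa', fun y hy hyC => ?_⟩
  obtain ⟨o, ho, hoa, hoC⟩ := h.exists_pull ha' ha ha2 (mem_cent.2 hc) hy hyC
  have hu : ⁅x, o * y * o⁻¹⁆ ∈ core a := (mem_cen.1 hx).2 _ (h.conjY y hy o) hoa
  have huC : ⁅x, o * y * o⁻¹⁆ ∈ cent a' := by
    rw [commutatorElement_def]
    exact mul_mem (mul_mem (mul_mem hxa' hoC) (inv_mem hxa')) (inv_mem hoC)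
  have hucen : ⁅x, o * y * o⁻¹⁆ ∈ cen Y a' :=
    h.le_cen ha' ha ha2 (mem_cent.2 hc) (D := core a ⊓ cent a')
      (odd_card_of_le (odd_card_core a) inf_le_left) inf_le_right
      (fun g hg => mem_normalizer_inf (core_normalized hg.2) (cent_normalized hg.1)) ⟨hu, huC⟩
  have hmod : modC a' ⟨o * y * o⁻¹, hoC⟩ = modC a' ⟨y, hyC⟩ := by
    have h1 : modC a' (⟨o, core_le_cent a' ho⟩ : cent a') = 1 := modC_eq_one.2 ho
    have e : (⟨o * y * o⁻¹, hoC⟩ : cent a') = (⟨o, core_le_cent a' ho⟩ : cent a') * ⟨y, hyC⟩ *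
        (⟨o, core_le_cent a' ho⟩ : cent a')⁻¹ := rfl
    rw [e, map_mul, map_mul, map_inv, h1, one_mul, inv_one, mul_one]
  have hcore : ⁅x, o * y * o⁻¹⁆ ∈ core a' := by
    refine h.mem_core_of_imgClosure hucen (odd_orderOf_of_mem (odd_card_core a) hu) ?_
    haveI : (imgClosure Y a').Normal := Subgroup.normalClosure_normal
    have e : (⟨⁅x, o * y * o⁻¹⁆, cen_le_cent Y a' hucen⟩ : cent a') =
        (⟨x, hxa'⟩ : cent a') * ⟨_, hoC⟩ * (⟨x, hxa'⟩)⁻¹ * (⟨_, hoC⟩)⁻¹ := rfl
    have hy' : modC a' ⟨o * y * o⁻¹, hoC⟩ ∈ imgClosure Y a' :=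
      Subgroup.subset_normalClosure ⟨_, h.conjY y hy o, rfl⟩
    rw [e, map_mul, map_mul, map_mul, map_inv, map_inv]
    exact mul_mem ((inferInstance : (imgClosure Y a').Normal).conj_mem _ hy' _)
      ((imgClosure Y a').inv_mem hy')
  have h2 : modC a' ⁅(⟨x, hxa'⟩ : cent a'), ⟨y, hyC⟩⁆ = 1 := by
    rw [map_commutatorElement, ← hmod, ← map_commutatorElement]
    exact modC_eq_one.2 hcore
  exact modC_eq_one.1 h2

/-- The key property of a four-group inside `X`. -/
theorem br_le_cen (h : Ctx X Y) {e : Fin 3 → G} (he : Triple X e) {Q : Subgroup G}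
    (hQ : Odd (Nat.card Q)) (hn : ∀ i, e i ∈ Subgroup.normalizer (Q : Set G)) {i j : Fin 3} {x : G}
    (hx : x ∈ br Q (e j)) (hxi : x ∈ cent (e i)) : x ∈ cen Y (e i) := by
  have hf : ∀ k, cent (e k) ≠ ⊤ := fun k => h.cent_ne_top_left (he.mem k) (he.sq k) (he.ne k)
  have hdata : FourData (tripleAct he Q hn) (fun k => (cen Y (e k)).subgroupOf Q)
      ((cen Y (e 0) ⊓ cent (e 1)).subgroupOf Q) := by
    refine ⟨isFour_restrict he.isFour Q fun i _ hx => conj_mem_of_normalizer (hn i) hx,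
      fun k y hy => (tripleAct_fixed he hn).2 (cen_le_cent Y _ hy),
      fun k y hy z hz => conj_cen_mem h.conjY ((tripleAct_fixed he hn).1 hy) hz,
      fun k y hy => h.commutator_mem_cen (hf k) ((tripleAct_fixed he hn).1 hy) (he.mem _)
        (he.mem_cent_of _ _), fun k y hy hys => ?_, fun k y hy => ?_, fun y hy k => ?_⟩
    · have hall := he.cent_all (cen_le_cent Y _ hy) ((tripleAct_fixed he hn).1 hys)
      exact ⟨h.agree (he.mem k) (he.sq k) (hf 0) (he.comm k 0) hy (hall 0), hall 1⟩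
    · have hall := he.cent_all (i := 0) (cen_le_cent Y _ hy.1) hy.2
      exact h.agree (he.mem 0) (he.sq 0) (hf k) (he.comm 0 k) hy.1 (hall k)
    · exact (tripleAct_fixed he hn).2 (he.cent_all (i := 0) (cen_le_cent Y _ hy.1) hy.2 k)
  have hsol := isSolvable_of_odd hQ
  have hle : br Q (e j) ≤ (⨆ k, (cen Y (e k)).subgroupOf Q).map Q.subtype := by
    rw [br, Subgroup.closure_le]
    rintro _ ⟨q, hq, rfl⟩
    exact ⟨_, hdata.commutator_mem_iSup hQ hsol j ⟨q, hq⟩, rfl⟩
  obtain ⟨z, hz, rfl⟩ := hle hx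
  exact hdata.iSup_meet hQ hsol hz ((tripleAct_fixed he hn).2 hxi)

/-- An element invisible to `Y`, in a suitable odd subgroup, lies in the core. -/
theorem mem_core_side (h : Ctx X Y) {a b x : G} (ha : a ∈ X) (ha2 : a * a = 1) (ha1 : a ≠ 1)
    (hb : b ∈ Y) (hb2 : b * b = 1) (hab : a * b = b * a) {D : Subgroup G}
    (hD : Odd (Nat.card D)) (hDC : D ≤ cent a)
    (hDn : cent a ⊓ cent b ≤ Subgroup.normalizer (D : Set G)) (hx : x ∈ D) (hxY : x ∈ cen Y a) :
    x ∈ core a := by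
  have hf := h.cent_ne_top_left ha ha2 ha1
  have hbC : b ∈ cent a := mem_cent.2 hab.symm
  refine h.mem_core hf ha ha2 (mem_cent.2 rfl) hb hb2 hbC hab hD hDC
    (fun g hg => hDn ⟨hg.1.1, hg.2⟩) hx (h.symm.le_cen hf hb hb2 hbC hD hDC hDn hx) hxY

/-- Balance. -/
theorem balance (h : Ctx X Y) {a b f : G} (ha : a ∈ X) (ha2 : a * a = 1) (hb : b ∈ Y)
    (hb2 : b * b = 1) (hab : a * b = b * a) (hf : cent f ≠ ⊤) (haf : a ∈ cent f)
    (hbf : b ∈ cent f) {x : G} (hxa : x ∈ core a) (hxb : x ∈ core b) (hxf : x ∈ cent f) :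
    x ∈ core f := by
  refine h.mem_core hf ha ha2 haf hb hb2 hbf hab (D := core a ⊓ core b ⊓ cent f)
    (odd_card_of_le (odd_card_core a) (inf_le_left.trans inf_le_left)) inf_le_right
    (fun g hg => mem_normalizer_inf (mem_normalizer_inf (core_normalized hg.1.2)
      (core_normalized hg.2)) (cent_normalized hg.1.1)) ⟨⟨hxa, hxb⟩, hxf⟩ ?_ ?_
  · exact h.symm.le_cen hf hb hb2 hbf (D := core b ⊓ cent f)
      (odd_card_of_le (odd_card_core b) inf_le_left) inf_le_right
      (fun g hg => mem_normalizer_inf (core_normalized hg.2) (cent_normalized hg.1)) ⟨hxb, hxf⟩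
  · exact h.le_cen hf ha ha2 haf (D := core a ⊓ cent f)
      (odd_card_of_le (odd_card_core a) inf_le_left) inf_le_right
      (fun g hg => mem_normalizer_inf (core_normalized hg.2) (cent_normalized hg.1)) ⟨hxa, hxf⟩

end Ctx

/-- The intersection of two cores. -/
def dlt (a b : G) : Subgroup G := core a ⊓ core b

theorem dlt_comm (a b : G) : dlt a b = dlt b a := inf_comm _ _

theorem dlt_normalized {a b g : G} (hga : g ∈ cent a) (hgb : g ∈ cent b) :
    g ∈ Subgroup.normalizer (dlt a b : Set G) :=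
  mem_normalizer_inf (core_normalized hga) (core_normalized hgb)

/-- The join of the intersections along a triple. -/
def col (e : Fin 3 → G) (b : G) : Subgroup G := ⨆ k, dlt (e k) b

theorem dlt_le_col (e : Fin 3 → G) (b : G) (k : Fin 3) : dlt (e k) b ≤ col e b :=
  le_iSup (fun k => dlt (e k) b) k

theorem col_le_core (e : Fin 3 → G) (b : G) : col e b ≤ core b := iSup_le fun _ => inf_le_right

namespace Ctx

variable {e : Fin 3 → G} {b : G}

theorem dlt_inf_le (h : Ctx X Y) (he : Triple X e) (hb : b ∈ Y) (hb2 : b * b = 1)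
    (heb : ∀ i, e i * b = b * e i) {i k : Fin 3} {x : G} (hx : x ∈ dlt (e k) b)
    (hxi : x ∈ cent (e i)) : x ∈ dlt (e i) b :=
  ⟨h.balance (he.mem k) (he.sq k) hb hb2 (heb k)
    (h.cent_ne_top_left (he.mem i) (he.sq i) (he.ne i)) (he.mem_cent_of k i)
    (mem_cent.2 (heb i).symm) hx.1 hx.2 hxi, hx.2⟩

theorem br_inf_le (h : Ctx X Y) (he : Triple X e) (hb : b ∈ Y) (hb2 : b * b = 1)
    (heb : ∀ i, e i * b = b * e i) {i j : Fin 3} {x : G} (hx : x ∈ br (core b) (e j))
    (hxi : x ∈ cent (e i)) : x ∈ dlt (e i) b := by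
  have hn : ∀ k, e k ∈ Subgroup.normalizer ((core b : Subgroup G) : Set G) :=
    fun k => core_normalized (mem_cent.2 (heb k))
  have hxb : x ∈ core b := br_le (hn j) hx
  exact ⟨h.mem_core_side (he.mem i) (he.sq i) (he.ne i) hb hb2 (heb i)
    (D := core b ⊓ cent (e i)) (odd_card_of_le (odd_card_core b) inf_le_left) inf_le_right
    (fun g hg => mem_normalizer_inf (core_normalized hg.2) (cent_normalized hg.1)) ⟨hxb, hxi⟩
    (h.br_le_cen he (odd_card_core b) hn hx hxi), hxb⟩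

theorem br_le_col (h : Ctx X Y) (he : Triple X e) (hb : b ∈ Y) (hb2 : b * b = 1)
    (heb : ∀ i, e i * b = b * e i) (j : Fin 3) : br (core b) (e j) ≤ col e b :=
  le_of_fixed_le he (odd_card_of_le (odd_card_core b) (br_le (core_normalized (mem_cent.2 (heb j)))))
    (fun i => conj_br (core_normalized (mem_cent.2 (heb i))) (he.mem_cent_of i j))
    fun i _ hx hxi => dlt_le_col e b i (h.br_inf_le he hb hb2 heb hx hxi)

theorem col_eq (h : Ctx X Y) (he : Triple X e) (hb : b ∈ Y) (hb2 : b * b = 1)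
    (heb : ∀ i, e i * b = b * e i) (i : Fin 3) :
    col e b = br (core b) (e i) ⊔ dlt (e i) b := by
  refine le_antisymm (iSup_le fun k x hx => ?_)
    (sup_le (h.br_le_col he hb hb2 heb i) (dlt_le_col e b i))
  have hnk : e i ∈ Subgroup.normalizer (dlt (e k) b : Set G) :=
    dlt_normalized (he.mem_cent_of i k) (mem_cent.2 (heb i))
  obtain ⟨w, hw, hxw, hxwD, -, -⟩ := exists_split
    (odd_card_of_le (odd_card_core b) inf_le_right : Odd (Nat.card (dlt (e k) b))) (he.sq i) hnk hx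
  have h1 : w ∈ br (core b) (e i) := br_mono inf_le_right _ hw
  have := mul_mem (Subgroup.mem_sup_right (h.dlt_inf_le he hb hb2 heb hxwD hxw) :
      x * w ∈ br (core b) (e i) ⊔ dlt (e i) b) (inv_mem (Subgroup.mem_sup_left h1))
  rwa [mul_inv_cancel_right] at this

theorem col_inf_le (h : Ctx X Y) (he : Triple X e) (hb : b ∈ Y) (hb2 : b * b = 1)
    (heb : ∀ i, e i * b = b * e i) {i : Fin 3} {x : G} (hx : x ∈ col e b)
    (hxi : x ∈ cent (e i)) : x ∈ dlt (e i) b := by
  rw [h.col_eq he hb hb2 heb i] at hx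
  obtain ⟨w, hw, d, hd, rfl⟩ := Coprime.exists_mul_of_mem_sup
    (fun d (hd : d ∈ dlt (e i) b) => conj_br (core_normalized (core_le_cent b hd.2)) (core_le_cent _ hd.1)) hx
  have hdC : d ∈ cent (e i) := core_le_cent _ hd.1
  have hwC : w ∈ cent (e i) := by
    have := mul_mem hxi (inv_mem hdC)
    rwa [mul_inv_cancel_right] at this
  exact mul_mem (h.br_inf_le he hb hb2 heb hw hwC) hd

end Ctx

end CfsgLib.ProductFusion
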